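import Mathlib
import Cfsg.Prelude.Def_Local
import Cfsg.Prelude.Def_Involutions
import Cfsg.Agent.OddHalf.D4.CommConj
import Cfsg.Agent.OddHalf.D4.CaseOneA
import Cfsg.Agent.OddHalf.D4.EvenPair

-- merged: Cfsg.Agent.OddHalf.D4.Small.Local
section

/-!
# ODD, D4, small Lie odd: the local part of Theorem 1

`K ≤ G`, `z` an involution of `K`, `P = C_K(z)`, `R = O_2(P)` with `C_P(R) ≤ R`; `a`, `b` two commuting
involutions of `C(K')` normalizing `K` and centralizing `z`, where `K'` is another subgroup such that the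
centralizers of the involutions of `C(K')` are in `N(K')`. If `z` is not in `C(K')` then `a`, `b` centralize `P`.
-/

set_option autoImplicit false

namespace Cfsg.Agent.OddHalf.D4.Small

open Subgroup Cfsg

variable {G : Type*} [Group G]

/-- The local facts on `(K, z)`, inside `G`. -/
structure LocG (K R : Subgroup G) (z : G) : Prop where
  zK : z ∈ K
  z2 : z * z = 1
  z1 : z ≠ 1
  zR : z ∈ R
  RK : R ≤ K
  /-- `R` is central by elements of order 2: `R ≤ C(z)` -/
  Rz : ∀ r ∈ R, r * z = z * r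
  Rn : ∀ p ∈ normalizer (K : Set G), p * z = z * p → ∀ r ∈ R, p * r * p⁻¹ ∈ R
  self : ∀ p ∈ K, p * z = z * p → (∀ r ∈ R, p * r = r * p) → p ∈ R
  cyc : ∀ x ∈ R, (∀ r ∈ R, x * r = r * x) → x * x = 1 → x = 1 ∨ x = z
  sq : ∀ x ∈ R, x * x = 1 ∨ x * x = z
  comm : ∀ x ∈ R, ∀ y ∈ R, x * y = y * x ∨ x * y = y * x * z
  dc : ∀ x ∈ R, ∀ y ∈ R, x * x = 1 → y * y = 1 → (∀ r ∈ R, r * x = x * r → r * y = y * r) →
    y = 1 ∨ y = z ∨ y = x ∨ y = x * z
  lr : ∀ a ∈ normalizer (K : Set G), ∀ b ∈ normalizer (K : Set G), a * a = 1 → b * b = 1 → a * b = b * a →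
    a * z = z * a → b * z = z * b → (∀ r ∈ R, a * r = r * a ↔ b * r = r * b) →
    (∀ r ∈ R, a * r = r * a ↔ a * b * r = r * (a * b)) → ∀ r ∈ R, a * r = r * a
  lw : ∀ w ∈ R, w * w = 1 → w ≠ 1 → w ≠ z → ∀ b ∈ normalizer (K : Set G), b * b = 1 → b * z = z * b →
    b * w = w * b → (∀ r ∈ R, r * w = w * r → b * r * b⁻¹ = r ∨ b * r * b⁻¹ = r * w) →
    (∀ p ∈ K, p * z = z * p → b * p = p * b → p * w = w * p) →
    (∀ p ∈ K, p * z = z * p → w * b * p = p * (w * b) → p * w = w * p) → False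

/-- `C(y) ≤ N(K')` for the involutions `y` of `C(K')`. -/
def TE (K' : Subgroup G) : Prop :=
  ∀ y ∈ centralizer (K' : Set G), y * y = 1 → y ≠ 1 → ∀ x : G, x * y = y * x → x ∈ normalizer (K' : Set G)

theorem mem_centralizer_conj {K' : Subgroup G} {x y : G} (hx : x ∈ normalizer (K' : Set G))
    (hy : y ∈ centralizer (K' : Set G)) : x * y * x⁻¹ ∈ centralizer (K' : Set G) :=
  normalizer_le_centralizer_normalizer hx hy

theorem mem_centralizer_conj' {K' : Subgroup G} {x y : G} (hx : x ∈ normalizer (K' : Set G))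
    (hy : y ∈ centralizer (K' : Set G)) : x⁻¹ * y * x ∈ centralizer (K' : Set G) := by
  have h := mem_centralizer_conj (inv_mem hx) hy
  rwa [inv_inv] at h

/-- `(a, b)`: two commuting distinct involutions of `C(K')` normalizing `K` and centralizing `z`. -/
structure Two (K K' : Subgroup G) (z a b : G) : Prop where
  aN : a ∈ normalizer (K : Set G)
  bN : b ∈ normalizer (K : Set G)
  aC : a ∈ centralizer (K' : Set G)
  bC : b ∈ centralizer (K' : Set G)
  a2 : a * a = 1
  b2 : b * b = 1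
  a1 : a ≠ 1
  b1 : b ≠ 1
  ab : a ≠ b
  com : a * b = b * a
  az : a * z = z * a
  bz : b * z = z * b

namespace Two

variable {K K' : Subgroup G} {z a b : G}

theorem symm (h : Two K K' z a b) : Two K K' z b a :=
  ⟨h.bN, h.aN, h.bC, h.aC, h.b2, h.a2, h.b1, h.a1, h.ab.symm, h.com.symm, h.bz, h.az⟩

theorem mul1 (h : Two K K' z a b) : a * b ≠ 1 := by
  intro h1
  apply h.ab
  calc a = a * (b * b) := by rw [h.b2, mul_one]
    _ = (a * b) * b := by group
    _ = b := by rw [h1, one_mul]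

theorem mul2 (h : Two K K' z a b) : (a * b) * (a * b) = 1 := by
  calc (a * b) * (a * b) = a * (b * a) * b := by group
    _ = a * (a * b) * b := by rw [← h.com]
    _ = (a * a) * (b * b) := by group
    _ = 1 := by rw [h.a2, h.b2, mul_one]

theorem right (h : Two K K' z a b) : Two K K' z a (a * b) := by
  refine ⟨h.aN, mul_mem h.aN h.bN, h.aC, mul_mem h.aC h.bC, h.a2, h.mul2, h.a1, h.mul1, ?_, ?_, h.az, ?_⟩
  · intro h1
    exact h.b1 (by simpa using h1.symm)
  · calc a * (a * b) = a * (b * a) := by rw [h.com]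
      _ = a * b * a := by group
  · calc a * b * z = a * (b * z) := by group
      _ = a * (z * b) := by rw [h.bz]
      _ = (a * z) * b := by group
      _ = z * (a * b) := by rw [h.az]; group

end Two

theorem inv_eq_self_of {x : G} (h : x * x = 1) : x⁻¹ = x := inv_eq_of_mul_eq_one_left h

section CaseOne

variable {K K' R : Subgroup G} {z a b : G}

/-- If `C(K')` meets an `N(K)`-invariant-by-`a,b` set trivially then elements commuting with `a` commute with
`b`. -/
theorem comm_of_comm (te : TE K') {a b r : G} (haC : a ∈ centralizer (K' : Set G)) (ha2 : a * a = 1)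
    (ha1 : a ≠ 1) (hbC : b ∈ centralizer (K' : Set G)) (hr : a * r = r * a)
    (hJ : b * r * b⁻¹ * r⁻¹ ∈ centralizer (K' : Set G) → b * r * b⁻¹ * r⁻¹ = 1) : b * r = r * b := by
  have h1 : r ∈ normalizer (K' : Set G) := te a haC ha2 ha1 r hr.symm
  have h2 : b * r * b⁻¹ * r⁻¹ ∈ centralizer (K' : Set G) := by
    have h3 := mul_mem hbC (mem_centralizer_conj h1 (inv_mem hbC))
    have h4 : b * (r * b⁻¹ * r⁻¹) = b * r * b⁻¹ * r⁻¹ := by group
    rwa [h4] at h3
  have h3 := hJ h2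
  calc b * r = (b * r * b⁻¹ * r⁻¹) * (r * b) := by group
    _ = r * b := by rw [h3, one_mul]

/-- Case (I): `C(K') ∩ R = 1`. -/
theorem case_one (L : LocG K R z) (te : TE K') (hJ : ∀ x ∈ R, x ∈ centralizer (K' : Set G) → x = 1)
    (h : Two K K' z a b) : ∀ p ∈ K, p * z = z * p → a * p = p * a := by
  -- constant centralizers on `R`
  have key : ∀ a' b' : G, Two K K' z a' b' → ∀ r ∈ R, a' * r = r * a' → b' * r = r * b' := by
    intro a' b' h' r hr har
    refine comm_of_comm te h'.aC h'.a2 h'.a1 h'.bC har (hJ _ ?_)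
    exact R.mul_mem (L.Rn b' h'.bN h'.bz r hr) (R.inv_mem hr)
  have hcen : ∀ a' b' : G, Two K K' z a' b' → ∀ r ∈ R, a' * r = r * a' := by
    intro a' b' h'
    refine L.lr a' h'.aN b' h'.bN h'.a2 h'.b2 h'.com h'.az h'.bz ?_ ?_
    · exact fun r hr => ⟨key _ _ h' r hr, key _ _ h'.symm r hr⟩
    · exact fun r hr => ⟨key _ _ h'.right r hr, key _ _ h'.right.symm r hr⟩
  have ha := hcen a b h
  have hb := hcen b a h.symm
  -- `R ≤ N(K')`
  have hRN : R ≤ normalizer (K' : Set G) := fun r hr => te a h.aC h.a2 h.a1 r (ha r hr).symm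
  -- `C(K') ∩ P = 1`
  have hJP : ∀ x ∈ K, x * z = z * x → x ∈ centralizer (K' : Set G) → x = 1 := by
    intro x hxK hxz hxC
    refine hJ x ?_ hxC
    refine L.self x hxK hxz ?_
    intro r hr
    have h1 : x * r * x⁻¹ * r⁻¹ ∈ R := by
      have h2 : x ∈ normalizer (K : Set G) := le_normalizer hxK
      exact R.mul_mem (L.Rn x h2 hxz r hr) (R.inv_mem hr)
    have h2 : x * r * x⁻¹ * r⁻¹ ∈ centralizer (K' : Set G) := by
      have h3 := mul_mem hxC (mem_centralizer_conj (hRN hr) (inv_mem hxC))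
      have h4 : x * (r * x⁻¹ * r⁻¹) = x * r * x⁻¹ * r⁻¹ := by group
      rwa [h4] at h3
    have h3 := hJ _ h1 h2
    calc x * r = (x * r * x⁻¹ * r⁻¹) * (r * x) := by group
      _ = r * x := by rw [h3, one_mul]
  have comm_z : ∀ c p : G, c * z = z * c → p * z = z * p → (c * p * c⁻¹ * p⁻¹) * z = z * (c * p * c⁻¹ * p⁻¹) := by
    intro c p hc hp
    have hc' : c⁻¹ * z = z * c⁻¹ := by
      calc c⁻¹ * z = c⁻¹ * (z * c) * c⁻¹ := by group
        _ = c⁻¹ * (c * z) * c⁻¹ := by rw [hc]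
        _ = z * c⁻¹ := by group
    have hp' : p⁻¹ * z = z * p⁻¹ := by
      calc p⁻¹ * z = p⁻¹ * (z * p) * p⁻¹ := by group
        _ = p⁻¹ * (p * z) * p⁻¹ := by rw [hp]
        _ = z * p⁻¹ := by group
    calc (c * p * c⁻¹ * p⁻¹) * z = c * p * c⁻¹ * (p⁻¹ * z) := by group
      _ = c * p * (c⁻¹ * z) * p⁻¹ := by rw [hp']; group
      _ = c * (p * z) * c⁻¹ * p⁻¹ := by rw [hc']; group
      _ = (c * z) * p * c⁻¹ * p⁻¹ := by rw [hp]; group
      _ = z * (c * p * c⁻¹ * p⁻¹) := by rw [hc]; group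
  have keyP : ∀ a' b' : G, Two K K' z a' b' → ∀ p ∈ K, p * z = z * p → a' * p = p * a' → b' * p = p * b' := by
    intro a' b' h' p hp hpz hap
    refine comm_of_comm te h'.aC h'.a2 h'.a1 h'.bC hap (hJP _ ?_ (comm_z b' p h'.bz hpz))
    exact K.mul_mem ((mem_normalizer_iff.mp h'.bN p).mp hp) (K.inv_mem hp)
  -- the commutator with an involution centralizing `R`
  have hcom : ∀ c ∈ normalizer (K : Set G), c * c = 1 → c * z = z * c → (∀ r ∈ R, c * r = r * c) →
      ∀ p ∈ K, p * z = z * p → c * p * c⁻¹ = p ∨ c * p * c⁻¹ = z * p := by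
    intro c hcN hc2 hcz hcR p hp hpz
    have he : c * p * c⁻¹ * p⁻¹ ∈ K := K.mul_mem ((mem_normalizer_iff.mp hcN p).mp hp) (K.inv_mem hp)
    have hez := comm_z c p hcz hpz
    have hpN : p ∈ normalizer (K : Set G) := le_normalizer hp
    have hpN' : p⁻¹ ∈ normalizer (K : Set G) := inv_mem hpN
    have hpz' : p⁻¹ * z = z * p⁻¹ := by
      calc p⁻¹ * z = p⁻¹ * (z * p) * p⁻¹ := by group
        _ = p⁻¹ * (p * z) * p⁻¹ := by rw [hpz]
        _ = z * p⁻¹ := by group
    have heR : ∀ r ∈ R, (c * p * c⁻¹ * p⁻¹) * r = r * (c * p * c⁻¹ * p⁻¹) := by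
      intro r hr
      have h1 : p⁻¹ * r * p ∈ R := by
        have := L.Rn p⁻¹ hpN' hpz' r hr
        rwa [inv_inv] at this
      have h2 := hcR _ h1
      have h3 : c⁻¹ * (p⁻¹ * r * p) = (p⁻¹ * r * p) * c⁻¹ := by
        calc c⁻¹ * (p⁻¹ * r * p) = c⁻¹ * ((p⁻¹ * r * p) * c) * c⁻¹ := by group
          _ = c⁻¹ * (c * (p⁻¹ * r * p)) * c⁻¹ := by rw [h2]
          _ = (p⁻¹ * r * p) * c⁻¹ := by group
      calc (c * p * c⁻¹ * p⁻¹) * r = c * p * (c⁻¹ * (p⁻¹ * r * p)) * p⁻¹ := by group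
        _ = c * p * ((p⁻¹ * r * p) * c⁻¹) * p⁻¹ := by rw [h3]
        _ = (c * r) * p * c⁻¹ * p⁻¹ := by group
        _ = r * (c * p * c⁻¹ * p⁻¹) := by rw [hcR r hr]; group
    have heR' : c * p * c⁻¹ * p⁻¹ ∈ R := L.self _ he hez heR
    have hce : c * (c * p * c⁻¹ * p⁻¹) = (c * p * c⁻¹ * p⁻¹) * c := hcR _ heR'
    have he2 : (c * p * c⁻¹ * p⁻¹) * (c * p * c⁻¹ * p⁻¹) = 1 := by
      have hci := inv_eq_self_of hc2
      -- `e = c p c p⁻¹`, and `c e c⁻¹ = e` gives `e = p c p⁻¹ c = e⁻¹`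
      have h1 : c * (c * p * c⁻¹ * p⁻¹) * c⁻¹ = c * p * c⁻¹ * p⁻¹ := by rw [hce]; group
      have h2 : c * (c * p * c⁻¹ * p⁻¹) * c⁻¹ = (c * p * c⁻¹ * p⁻¹)⁻¹ := by
        calc c * (c * p * c⁻¹ * p⁻¹) * c⁻¹ = (c * c) * p * c⁻¹ * p⁻¹ * c⁻¹ := by group
          _ = p * c * p⁻¹ * c⁻¹ := by rw [hc2, hci, one_mul]
          _ = (c * p * c⁻¹ * p⁻¹)⁻¹ := by group
      have h3 : c * p * c⁻¹ * p⁻¹ = (c * p * c⁻¹ * p⁻¹)⁻¹ := h1.symm.trans h2
      nth_rewrite 2 [h3]
      exact mul_inv_cancel _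
    rcases L.cyc _ heR' (fun r hr => heR r hr) he2 with h1 | h1
    · left
      calc c * p * c⁻¹ = (c * p * c⁻¹ * p⁻¹) * p := by group
        _ = p := by rw [h1, one_mul]
    · right
      calc c * p * c⁻¹ = (c * p * c⁻¹ * p⁻¹) * p := by group
        _ = z * p := by rw [h1]
  intro p hp hpz
  by_contra hne
  have h1 : a * p * a⁻¹ = z * p := by
    rcases hcom a h.aN h.a2 h.az ha p hp hpz with h1 | h1
    · exfalso
      apply hne
      calc a * p = (a * p * a⁻¹) * a := by group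
        _ = p * a := by rw [h1]
    · exact h1
  have h2 : b * p * b⁻¹ = z * p := by
    rcases hcom b h.bN h.b2 h.bz hb p hp hpz with h2 | h2
    · exfalso
      apply hne
      refine keyP b a h.symm p hp hpz ?_
      calc b * p = (b * p * b⁻¹) * b := by group
        _ = p * b := by rw [h2]
    · exact h2
  have h3 : a * b * p = p * (a * b) := by
    calc a * b * p = a * (b * p * b⁻¹) * b := by group
      _ = (a * z) * p * b := by rw [h2]; group
      _ = z * (a * p * a⁻¹) * a * b := by rw [h.az]; group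
      _ = (z * z) * p * (a * b) := by rw [h1]; group
      _ = p * (a * b) := by rw [L.z2, one_mul]
  exact hne (keyP (a * b) a h.right.symm p hp hpz h3)

end CaseOne

section CaseTwo

variable {K K' R : Subgroup G} {z a b : G}

/-- Case (II): `z ∉ C(K')` but `C(K') ∩ R ≠ 1`. -/
theorem case_two (L : LocG K R z) (te : TE K') (hz : z ∉ centralizer (K' : Set G)) {w : G} (hw : w ∈ R)
    (hwC : w ∈ centralizer (K' : Set G)) (hw1 : w ≠ 1) (h : Two K K' z a b) : False := by
  have hsq : ∀ x ∈ R, x ∈ centralizer (K' : Set G) → x * x = 1 := by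
    intro x hx hxC
    rcases L.sq x hx with h1 | h1
    · exact h1
    · exact absurd (h1 ▸ mul_mem hxC hxC) hz
  have hw2 := hsq w hw hwC
  have hwz : w ≠ z := by rintro rfl; exact hz hwC
  -- `R ∩ C(K') = ⟨w⟩`
  have huniq : ∀ x ∈ R, x ∈ centralizer (K' : Set G) → x = 1 ∨ x = w := by
    intro x hx hxC
    have hx2 := hsq x hx hxC
    have h1 : ∀ r ∈ R, r * w = w * r → r * x = x * r := by
      intro r hr hrw
      have hrN : r ∈ normalizer (K' : Set G) := te w hwC hw2 hw1 r hrw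
      have h2 : r * x * r⁻¹ * x⁻¹ ∈ centralizer (K' : Set G) :=
        mul_mem (mem_centralizer_conj hrN hxC) (inv_mem hxC)
      rcases L.comm r hr x hx with h3 | h3
      · exact h3
      · exfalso
        apply hz
        have h4 : r * x * r⁻¹ * x⁻¹ = z := by
          have h5 := L.Rz r hr
          have h6 := L.Rz x hx
          calc r * x * r⁻¹ * x⁻¹ = x * r * z * r⁻¹ * x⁻¹ := by rw [h3]
            _ = x * (r * z) * r⁻¹ * x⁻¹ := by group
            _ = (x * z) * x⁻¹ := by rw [h5]; group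
            _ = z := by rw [h6]; group
        rwa [h4] at h2
    rcases L.dc w hw x hx hw2 hx2 h1 with h2 | h2 | h2 | h2
    · exact Or.inl h2
    · rw [h2] at hxC; exact absurd hxC hz
    · exact Or.inr h2
    · exfalso
      apply hz
      have h3 := mul_mem (inv_mem hwC) hxC
      rw [h2] at h3
      have h4 : w⁻¹ * (w * z) = z := by group
      rwa [h4] at h3
  -- elements of `P ∩ N(K')` commute with `w`
  have hN : ∀ p ∈ normalizer (K : Set G), p * z = z * p → p ∈ normalizer (K' : Set G) → p * w = w * p := by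
    intro p hpK hpz hpN
    have h1 := L.Rn p hpK hpz w hw
    have h2 := mem_centralizer_conj hpN hwC
    rcases huniq _ h1 h2 with h3 | h3
    · exfalso
      apply hw1
      have h4 : w = p⁻¹ * (p * w * p⁻¹) * p := by group
      rw [h4, h3]
      group
    · calc p * w = (p * w * p⁻¹) * p := by group
        _ = w * p := by rw [h3]
  have hCN : ∀ x ∈ centralizer (K' : Set G), x ∈ normalizer (K' : Set G) := fun x hx =>
    centralizer_le_normalizer' K' hx
  -- the contradiction for an involution `c ≠ w`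
  have main : ∀ c : G, c ∈ normalizer (K : Set G) → c ∈ centralizer (K' : Set G) → c * c = 1 → c ≠ 1 →
      c ≠ w → c * z = z * c → False := by
    intro c hcN hcC hc2 hc1 hcw hcz
    have hcomw : c * w = w * c := hN c hcN hcz (hCN c hcC)
    refine L.lw w hw hw2 hw1 hwz c hcN hc2 hcz hcomw ?_ ?_ ?_
    · intro r hr hrw
      have hrN : r ∈ normalizer (K' : Set G) := te w hwC hw2 hw1 r hrw
      have h1 : r⁻¹ * (c * r * c⁻¹) ∈ R := R.mul_mem (R.inv_mem hr) (L.Rn c hcN hcz r hr)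
      have h2 : r⁻¹ * (c * r * c⁻¹) ∈ centralizer (K' : Set G) := by
        have h3 := mul_mem (mem_centralizer_conj' hrN hcC) (inv_mem hcC)
        have h4 : r⁻¹ * c * r * c⁻¹ = r⁻¹ * (c * r * c⁻¹) := by group
        rwa [h4] at h3
      rcases huniq _ h1 h2 with h3 | h3
      · left
        exact (inv_mul_eq_one.mp h3).symm
      · right
        calc c * r * c⁻¹ = r * (r⁻¹ * (c * r * c⁻¹)) := by group
          _ = r * w := by rw [h3]
    · intro p hp hpz hcp
      exact hN p (le_normalizer hp) hpz (te c hcC hc2 hc1 p hcp.symm)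
    · intro p hp hpz hcp
      have h1 : (w * c) * (w * c) = 1 := by
        calc (w * c) * (w * c) = w * (c * w) * c := by group
          _ = (w * w) * (c * c) := by rw [hcomw]; group
          _ = 1 := by rw [hw2, hc2, mul_one]
      have h2 : w * c ≠ 1 := by
        intro h2
        apply hcw
        calc c = (w * w) * c := by rw [hw2, one_mul]
          _ = w * (w * c) := by group
          _ = w := by rw [h2, mul_one]
      exact hN p (le_normalizer hp) hpz (te (w * c) (mul_mem hwC hcC) h1 h2 p hcp.symm)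
  by_cases haw : a = w
  · exact main b h.bN h.bC h.b2 h.b1 (fun hb => h.ab (haw.trans hb.symm)) h.bz
  · exact main a h.aN h.aC h.a2 h.a1 haw h.az

/-- **(I) and (II)**: if `z ∉ C(K')` then `a` and `b` centralize `C_K(z)`. -/
theorem centralizes (L : LocG K R z) (te : TE K') (hz : z ∉ centralizer (K' : Set G)) (h : Two K K' z a b) :
    (∀ p ∈ K, p * z = z * p → a * p = p * a) ∧ ∀ p ∈ K, p * z = z * p → b * p = p * b := by
  have hJ : ∀ x ∈ R, x ∈ centralizer (K' : Set G) → x = 1 := by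
    intro x hx hxC
    by_contra hx1
    exact case_two L te hz hx hxC hx1 h
  exact ⟨case_one L te hJ h, case_one L te hJ h.symm⟩

end CaseTwo

end Cfsg.Agent.OddHalf.D4.Small

end

-- merged: Cfsg.Agent.OddHalf.D4.Small.RankOne
section

/-!
# ODD, D4, small Lie odd: Theorem 1

`K`, `K'` two subgroups with the local facts, no common involution in `C(K)`, `C(K')`. Then `C(K') ∩ N(K)` has
2-rank at most 1.
-/

set_option autoImplicit false

namespace Cfsg.Agent.OddHalf.D4.Small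

open Subgroup Cfsg Basic

variable {G : Type*} [Group G]

/-- The data attached to a Sylow 2-subgroup `S` of `N(K)`. -/
structure AtS (K S R : Subgroup G) (z : G) : Prop where
  loc : LocG K R z
  zS : z ∈ S
  zc : ∀ s ∈ S, s * z = z * s
  uniq : ∀ x ∈ S, x ∈ K → x * x = 1 → x ≠ 1 → (∀ s ∈ S, s ∈ K → s * x = x * s) → x = z

/-- The facts on `K` used for every Sylow 2-subgroup of `N(K)`. -/
structure Base (K : Subgroup G) : Prop where
  te : TE K
  cen : ∀ x ∈ K, x ∈ centralizer (K : Set G) → x = 1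
  simp : ∀ N : Subgroup G, N ≤ K → (∀ a ∈ K, ∀ n ∈ N, a * n * a⁻¹ ∈ N) → N = ⊥ ∨ N = K
  at_ : ∀ S : Subgroup G, IsSyl S (normalizer (K : Set G)) → ∃ (z : G) (R : Subgroup G), AtS K S R z
  /-- `m_2(C(K)) ≥ 2` -/
  rk : ∃ a ∈ centralizer (K : Set G), ∃ b ∈ centralizer (K : Set G), a * a = 1 ∧ b * b = 1 ∧ a ≠ 1 ∧ b ≠ 1 ∧
    a ≠ b ∧ a * b = b * a

/-- (F1): 2-elements centralizing a Sylow 2-subgroup of `K` induce inner automorphisms by its center. -/
def FOne (K : Subgroup G) : Prop :=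
  ∀ S : Subgroup G, IsSyl S (normalizer (K : Set G)) → ∀ y ∈ S, (∀ s ∈ S, s ∈ K → s * y = y * s) →
    ∃ k ∈ centralizer (K : Set G), ∃ s ∈ S, s ∈ K ∧ (∀ u ∈ S, u ∈ K → u * s = s * u) ∧ y = k * s

/-- `K` has no strongly embedded subgroup. -/
def NoSE (K : Subgroup G) : Prop :=
  ∀ D : Subgroup G, D ≤ K → D ≠ K → ∀ T : Subgroup G, IsSyl T K → T ≤ D →
    (∀ s ∈ T, s * s = 1 → s ≠ 1 → ∀ x ∈ K, x * s = s * x → x ∈ D) → False

theorem isPGroup_pair [Finite G] {a b : G} (ha : a * a = 1) (hb : b * b = 1) (hab : a * b = b * a) :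
    IsPGroup 2 ↥(closure ({a, b} : Set G)) := by
  have hc : ∀ x ∈ closure ({a, b} : Set G), x * x = 1 ∧ x * a = a * x ∧ x * b = b * x := by
    intro x hx
    induction hx using closure_induction with
    | mem y hy =>
      rcases hy with rfl | hy
      · exact ⟨ha, rfl, hab⟩
      · rw [Set.mem_singleton_iff] at hy
        subst hy
        exact ⟨hb, hab.symm, rfl⟩
    | one => simp
    | mul x y hx hy h1 h2 =>
      have hxy : x * y = y * x := by
        have key : ∀ u ∈ closure ({a, b} : Set G), u * x = x * u := by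
          intro u hu
          induction hu using closure_induction with
          | mem v hv =>
            rcases hv with rfl | hv
            · exact h1.2.1.symm
            · rw [Set.mem_singleton_iff] at hv
              subst hv
              exact h1.2.2.symm
          | one => simp
          | mul u v _ _ hu hv => rw [mul_assoc, hv, ← mul_assoc, hu, mul_assoc]
          | inv u _ hu =>
            calc u⁻¹ * x = u⁻¹ * (x * u) * u⁻¹ := by group
              _ = u⁻¹ * (u * x) * u⁻¹ := by rw [hu]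
              _ = x * u⁻¹ := by group
        exact (key y hy).symm
      refine ⟨?_, ?_, ?_⟩
      · calc x * y * (x * y) = x * (y * x) * y := by group
          _ = x * (x * y) * y := by rw [hxy]
          _ = (x * x) * (y * y) := by group
          _ = 1 := by rw [h1.1, h2.1, mul_one]
      · rw [mul_assoc, h2.2.1, ← mul_assoc, h1.2.1, mul_assoc]
      · rw [mul_assoc, h2.2.2, ← mul_assoc, h1.2.2, mul_assoc]
    | inv x _ h =>
      have : x⁻¹ = x := inv_eq_of_mul_eq_one_left h.1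
      rw [this]
      exact h
  intro g
  refine ⟨1, ?_⟩
  have h1 := (hc g g.2).1
  apply Subtype.ext
  simpa [pow_two] using h1

theorem IsSyl.inf_K [Finite G] {K S : Subgroup G} (h : IsSyl S (normalizer (K : Set G))) : IsSyl (S ⊓ K) K :=
  h.inf le_normalizer h.le

theorem mul_self_split {K : Subgroup G} (cen : ∀ x ∈ K, x ∈ centralizer (K : Set G) → x = 1) {k s : G}
    (hk : k ∈ centralizer (K : Set G)) (hs : s ∈ K) (hy : (k * s) * (k * s) = 1) : k * k = 1 ∧ s * s = 1 := by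
  have h1 : s * k = k * s := comm_of_centralizer hk hs
  have h2 : (k * k) * (s * s) = 1 := by
    calc (k * k) * (s * s) = k * (k * s) * s := by group
      _ = k * (s * k) * s := by rw [h1]
      _ = (k * s) * (k * s) := by group
      _ = 1 := hy
  have h3 : k * k = (s * s)⁻¹ := eq_inv_of_mul_eq_one_left h2
  have h4 : k * k = 1 := cen _ (by rw [h3]; exact K.inv_mem (K.mul_mem hs hs)) (mul_mem hk hk)
  refine ⟨h4, ?_⟩
  rw [h4, one_mul] at h2
  exact h2

/-- Step A: `z ∈ C(K')`. -/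
theorem z_mem {K K' S R : Subgroup G} {z a b : G} (hK : Base K) (f1 : FOne K) (te' : TE K')
    (nc : ∀ x ∈ centralizer (K : Set G), x ∈ centralizer (K' : Set G) → x * x = 1 → x = 1)
    (hS : IsSyl S (normalizer (K : Set G))) (hA : AtS K S R z) (haS : a ∈ S) (hbS : b ∈ S)
    (haC : a ∈ centralizer (K' : Set G)) (hbC : b ∈ centralizer (K' : Set G)) (ha2 : a * a = 1)
    (hb2 : b * b = 1) (ha1 : a ≠ 1) (hb1 : b ≠ 1) (hne : a ≠ b) (hab : a * b = b * a) :
    z ∈ centralizer (K' : Set G) := by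
  by_contra hz
  have hT : Two K K' z a b := ⟨hS.le haS, hS.le hbS, haC, hbC, ha2, hb2, ha1, hb1, hne, hab, hA.zc a haS,
    hA.zc b hbS⟩
  obtain ⟨h1, h2⟩ := centralizes hA.loc te' hz hT
  have key : ∀ c ∈ S, c ∈ centralizer (K' : Set G) → c * c = 1 → c ≠ 1 →
      (∀ p ∈ K, p * z = z * p → c * p = p * c) → ∃ k ∈ centralizer (K : Set G), c = k * z := by
    intro c hcS hcC hc2 hc1 hcP
    obtain ⟨k, hk, s, hsS, hsK, hsc, hcks⟩ := f1 S hS c hcS (fun s hs hsK => (hcP s hsK (hA.zc s hs)).symm)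
    obtain ⟨hk2, hs2⟩ := mul_self_split hK.cen hk hsK (by rw [← hcks]; exact hc2)
    have hs1 : s ≠ 1 := by
      rintro rfl
      rw [mul_one] at hcks
      apply hc1
      exact nc c (hcks ▸ hk) hcC hc2
    have hsz := hA.uniq s hsS hsK hs2 hs1 hsc
    exact ⟨k, hk, by rw [hcks, hsz]⟩
  obtain ⟨k, hk, hak⟩ := key a haS haC ha2 ha1 h1
  obtain ⟨k', hk', hbk⟩ := key b hbS hbC hb2 hb1 h2
  apply hT.mul1
  refine nc (a * b) ?_ (mul_mem haC hbC) hT.mul2
  have h3 : a * b = k * k' := by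
    have h4 : z * k' = k' * z := comm_of_centralizer hk' hA.loc.zK
    calc a * b = k * (z * k') * z := by rw [hak, hbk]; group
      _ = k * k' * (z * z) := by rw [h4]; group
      _ = k * k' := by rw [hA.loc.z2, mul_one]
  rw [h3]
  exact mul_mem hk hk'

/-- Step C: the Sylow 2-subgroup of `N(K) ∩ N(K')`. -/
theorem sylow_inf [Finite G] {K K' S R : Subgroup G} {z : G} (te' : TE K')
    (hS : IsSyl S (normalizer (K : Set G))) (hA : AtS K S R z) (hz : z ∈ centralizer (K' : Set G))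
    {T S₁ R₁ : Subgroup G} {z₁ : G} (hT : IsSyl T (normalizer (K : Set G) ⊓ normalizer (K' : Set G)))
    (hS₁ : IsSyl S₁ (normalizer (K : Set G))) (hTS : T ≤ S₁) (hA₁ : AtS K S₁ R₁ z₁) :
    S₁ ⊓ K = T ⊓ K ∧ z₁ ∈ centralizer (K' : Set G) := by
  -- `S ∩ K ≤ N(K')`
  have hSK : S ⊓ K ≤ K ⊓ normalizer (K' : Set G) := by
    intro s hs
    exact ⟨hs.2, te' z hz hA.loc.z2 hA.loc.z1 s (hA.zc s hs.1)⟩
  have hI : K ⊓ normalizer (K' : Set G) ≤ normalizer (K : Set G) ⊓ normalizer (K' : Set G) :=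
    inf_le_inf_right _ le_normalizer
  have hTI : T ≤ normalizer ((K ⊓ normalizer (K' : Set G) : Subgroup G) : Set G) := by
    intro t ht
    have h1 := hT.le ht
    rw [mem_normalizer_iff]
    intro x
    constructor
    · intro hx
      exact mem_inf.mpr ⟨(mem_normalizer_iff.mp h1.1 x).mp hx.1,
        (normalizer (K' : Set G)).mul_mem ((normalizer (K' : Set G)).mul_mem h1.2 hx.2)
          ((normalizer (K' : Set G)).inv_mem h1.2)⟩
    · intro hx
      refine mem_inf.mpr ⟨(mem_normalizer_iff.mp h1.1 x).mpr hx.1, ?_⟩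
      have h2 := (normalizer (K' : Set G)).mul_mem ((normalizer (K' : Set G)).mul_mem
        ((normalizer (K' : Set G)).inv_mem h1.2) hx.2) h1.2
      have h3 : t⁻¹ * (t * x * t⁻¹) * t = x := by group
      rwa [h3] at h2
  obtain ⟨m, hm, hmS⟩ := hT.conj_into_inf hI hTI (hS.two.to_le inf_le_left) hSK
  -- cardinalities
  have hmap : (S ⊓ K).map (MulAut.conj m).toMonoidHom ≤ T ⊓ K := by
    rintro _ ⟨q, hq, rfl⟩
    exact ⟨(hmS q hq).1, (hmS q hq).2.1⟩
  have hcard : Nat.card ↥((S ⊓ K).map (MulAut.conj m).toMonoidHom) = Nat.card ↥(S ⊓ K) :=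
    (Nat.card_congr ((S ⊓ K).equivMapOfInjective _ (MulAut.conj m).injective).toEquiv).symm
  have hSylK : IsSyl (S ⊓ K) K := IsSyl.inf_K hS
  have hSylK₁ : IsSyl (S₁ ⊓ K) K := IsSyl.inf_K hS₁
  have hc1 : Nat.card ↥(S₁ ⊓ K) ≤ Nat.card ↥(S ⊓ K) := by
    obtain ⟨u, hu, huq⟩ := hSylK.conj_into hSylK₁.two hSylK₁.le
    have h1 : (S₁ ⊓ K).map (MulAut.conj u).toMonoidHom ≤ S ⊓ K := by
      rintro _ ⟨q, hq, rfl⟩
      exact huq q hq
    rw [Nat.card_congr ((S₁ ⊓ K).equivMapOfInjective (MulAut.conj u).toMonoidHom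
      (MulAut.conj u).injective).toEquiv]
    exact Subgroup.card_le_of_le h1
  have hle : T ⊓ K ≤ S₁ ⊓ K := inf_le_inf_right _ hTS
  have hc2 : Nat.card ↥(S ⊓ K) ≤ Nat.card ↥(T ⊓ K) := by
    rw [← hcard]
    exact Subgroup.card_le_of_le hmap
  have heq : T ⊓ K = S₁ ⊓ K := eq_of_le_of_card_ge hle (hc1.trans hc2)
  have heq2 : (S ⊓ K).map (MulAut.conj m).toMonoidHom = T ⊓ K := by
    refine eq_of_le_of_card_ge hmap ?_
    rw [hcard]
    calc Nat.card ↥(T ⊓ K) = Nat.card ↥(S₁ ⊓ K) := by rw [heq]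
      _ ≤ _ := hc1
  refine ⟨heq.symm, ?_⟩
  have hz1 : m * z * m⁻¹ = z₁ := by
    have h1 : m * z * m⁻¹ ∈ T ⊓ K := ⟨(hmS z ⟨hA.zS, hA.loc.zK⟩).1, (hmS z ⟨hA.zS, hA.loc.zK⟩).2.1⟩
    have h2 := heq ▸ h1
    refine hA₁.uniq _ h2.1 h2.2 ?_ ?_ ?_
    · calc m * z * m⁻¹ * (m * z * m⁻¹) = m * (z * z) * m⁻¹ := by group
        _ = 1 := by rw [hA.loc.z2]; group
    · intro h3
      apply hA.loc.z1
      have h4 : z = m⁻¹ * (m * z * m⁻¹) * m := by group
      rw [h4, h3]
      group
    · intro s hs hsK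
      have h3 : s ∈ T ⊓ K := by rw [heq]; exact ⟨hs, hsK⟩
      rw [← heq2] at h3
      obtain ⟨q, hq, rfl⟩ := h3
      have h4 := hA.zc q hq.1
      show m * q * m⁻¹ * (m * z * m⁻¹) = m * z * m⁻¹ * (m * q * m⁻¹)
      calc m * q * m⁻¹ * (m * z * m⁻¹) = m * (q * z) * m⁻¹ := by group
        _ = m * (z * q) * m⁻¹ := by rw [h4]
        _ = m * z * m⁻¹ * (m * q * m⁻¹) := by group
  rw [← hz1]
  exact mem_centralizer_conj hm.2 hz

/-- **Theorem 1.** -/
theorem rank_le_one [Finite G] {K K' : Subgroup G} (hK : Base K) (hK' : Base K') (f1 : FOne K) (f1' : FOne K')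
    (nse : NoSE K) (nc : ∀ x ∈ centralizer (K : Set G), x ∈ centralizer (K' : Set G) → x * x = 1 → x = 1)
    (hcom : ¬ K ≤ centralizer (K' : Set G))
    {a b : G} (haN : a ∈ normalizer (K : Set G)) (hbN : b ∈ normalizer (K : Set G))
    (haC : a ∈ centralizer (K' : Set G)) (hbC : b ∈ centralizer (K' : Set G)) (ha2 : a * a = 1)
    (hb2 : b * b = 1) (ha1 : a ≠ 1) (hb1 : b ≠ 1) (hne : a ≠ b) (hab : a * b = b * a) : False := by
  have nc' : ∀ x ∈ centralizer (K' : Set G), x ∈ centralizer (K : Set G) → x * x = 1 → x = 1 :=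
    fun x h1 h2 h3 => nc x h2 h1 h3
  have mem_cl : ∀ a b : G, a ∈ closure ({a, b} : Set G) ∧ b ∈ closure ({a, b} : Set G) := fun a b =>
    ⟨subset_closure (by simp), subset_closure (by simp)⟩
  have cl_le : ∀ (a b : G) (H : Subgroup G), a ∈ H → b ∈ H → closure ({a, b} : Set G) ≤ H := by
    intro a b H ha hb
    rw [closure_le]
    rintro x (rfl | hx)
    · exact ha
    · rw [Set.mem_singleton_iff] at hx
      subst hx
      exact hb
  -- the first Sylow subgroup
  obtain ⟨S, hS, hle⟩ := exists_isSyl (isPGroup_pair ha2 hb2 hab) (cl_le a b _ haN hbN)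
  obtain ⟨z, R, hA⟩ := hK.at_ S hS
  have hz := z_mem hK f1 hK'.te nc hS hA (hle (mem_cl a b).1) (hle (mem_cl a b).2) haC hbC ha2 hb2 ha1 hb1
    hne hab
  -- the second one
  have hCN : centralizer (K : Set G) ≤ normalizer (K' : Set G) := by
    intro x hx
    exact hK'.te z hz hA.loc.z2 hA.loc.z1 x (comm_of_centralizer hx hA.loc.zK).symm
  obtain ⟨c, hc, d, hd, hc2, hd2, hc1, hd1, hcd, hcdc⟩ := hK.rk
  obtain ⟨S', hS', hle'⟩ := exists_isSyl (isPGroup_pair hc2 hd2 hcdc) (cl_le c d _ (hCN hc) (hCN hd))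
  obtain ⟨z', R', hA'⟩ := hK'.at_ S' hS'
  have hz' := z_mem hK' f1' hK.te nc' hS' hA' (hle' (mem_cl c d).1) (hle' (mem_cl c d).2) hc hd hc2 hd2 hc1
    hd1 hcd hcdc
  -- the common Sylow subgroup
  obtain ⟨T, hT, -⟩ := exists_isSyl (M := normalizer (K : Set G) ⊓ normalizer (K' : Set G))
    (Q := (⊥ : Subgroup G)) IsPGroup.of_bot bot_le
  obtain ⟨S₁, hS₁, hTS₁⟩ := exists_isSyl hT.two (hT.le.trans inf_le_left)
  obtain ⟨z₁, R₁, hA₁⟩ := hK.at_ S₁ hS₁
  obtain ⟨hTK, hz₁⟩ := sylow_inf hK'.te hS hA hz hT hS₁ hTS₁ hA₁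
  have hT' : IsSyl T (normalizer (K' : Set G) ⊓ normalizer (K : Set G)) := by rw [inf_comm]; exact hT
  obtain ⟨S₂, hS₂, hTS₂⟩ := exists_isSyl hT'.two (hT'.le.trans inf_le_left)
  obtain ⟨z₂, R₂, hA₂⟩ := hK'.at_ S₂ hS₂
  obtain ⟨hTK', hz₂⟩ := sylow_inf hK.te hS' hA' hz' hT' hS₂ hTS₂ hA₂
  -- `T ∩ K ∩ K' = 1`
  have hTKK : ∀ x ∈ T, x ∈ K → x ∈ K' → x = 1 := by
    intro x hxT hxK hxK'
    by_contra hx1
    obtain ⟨y, hyT, hyN, hy2, hyc⟩ := CommConj.exists_central_involution (S := T ⊓ K) (N := K ⊓ K')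
      (hT.two.to_le inf_le_left) (by
        intro s hs n hn
        refine ⟨K.mul_mem (K.mul_mem hs.2 hn.1) (K.inv_mem hs.2), ?_⟩
        exact (mem_normalizer_iff.mp (hT.le hs.1).2 n).mp hn.2)
      ⟨x, ⟨hxT, hxK⟩, ⟨hxK, hxK'⟩, hx1⟩
    have hy22 : y * y = 1 := sq_one hy2
    have hy1 : y ≠ 1 := by
      rintro rfl
      rw [orderOf_one] at hy2
      exact absurd hy2 (by norm_num)
    have h1 : y = z₁ := by
      refine hA₁.uniq y (hTS₁ hyT.1) hyT.2 hy22 hy1 ?_
      intro s hs hsK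
      have h2 : s ∈ T ⊓ K := by rw [← hTK]; exact ⟨hs, hsK⟩
      exact hyc s h2
    apply hy1
    refine hK'.cen y hyN.2 ?_
    rw [h1]
    exact hz₁
  -- the centralizers of the involutions of `T ∩ K`
  have hmain : ∀ s ∈ T ⊓ K, s * s = 1 → s ≠ 1 → ∀ x ∈ K, x * s = s * x → x ∈ K ⊓ normalizer (K' : Set G) := by
    intro s hs hs2 hs1 x hx hxs
    refine ⟨hx, ?_⟩
    have hsc : ∀ u ∈ S₂, u ∈ K' → u * s = s * u := by
      intro u hu huK
      have hu' : u ∈ T ⊓ K' := by rw [← hTK']; exact ⟨hu, huK⟩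
      have h1 : u * s * u⁻¹ * s⁻¹ = 1 := by
        refine hTKK _ ?_ ?_ ?_
        · exact T.mul_mem (T.mul_mem (T.mul_mem hu'.1 hs.1) (T.inv_mem hu'.1)) (T.inv_mem hs.1)
        · exact K.mul_mem ((mem_normalizer_iff.mp (hT.le hu'.1).1 s).mp hs.2) (K.inv_mem hs.2)
        · have h2 : u * s * u⁻¹ * s⁻¹ = u * (s * u⁻¹ * s⁻¹) := by group
          rw [h2]
          exact K'.mul_mem huK ((mem_normalizer_iff.mp (hT.le hs.1).2 u⁻¹).mp (K'.inv_mem huK))
      calc u * s = (u * s * u⁻¹ * s⁻¹) * (s * u) := by group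
        _ = s * u := by rw [h1, one_mul]
    obtain ⟨j, hj, k, hkS, hkK, hkc, hsjk⟩ := f1' S₂ hS₂ s (hTS₂ hs.1) hsc
    obtain ⟨hj2, hk2⟩ := mul_self_split hK'.cen hj hkK (by rw [← hsjk]; exact hs2)
    have hkC : k ∈ centralizer (K : Set G) := by
      by_cases hk1 : k = 1
      · rw [hk1]; exact one_mem _
      · rw [hA₂.uniq k hkS hkK hk2 hk1 hkc]
        exact hz₂
    have hj1 : j ≠ 1 := by
      rintro rfl
      rw [one_mul] at hsjk
      exact hs1 (hTKK s hs.1 hs.2 (hsjk ▸ hkK))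
    refine hK'.te j hj hj2 hj1 x ?_
    have hxk : x * k = k * x := comm_of_centralizer hkC hx
    have hjs : j = s * k⁻¹ := by rw [hsjk]; group
    have hxk' : x * k⁻¹ = k⁻¹ * x := by
      calc x * k⁻¹ = k⁻¹ * (k * x) * k⁻¹ := by group
        _ = k⁻¹ * (x * k) * k⁻¹ := by rw [hxk]
        _ = k⁻¹ * x := by group
    rw [hjs]
    calc x * (s * k⁻¹) = (x * s) * k⁻¹ := by group
      _ = s * (x * k⁻¹) := by rw [hxs]; group
      _ = s * k⁻¹ * x := by rw [hxk']; group
  have hSylT : IsSyl (T ⊓ K) K := by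
    rw [← hTK]
    exact IsSyl.inf_K hS₁
  refine nse (K ⊓ normalizer (K' : Set G)) inf_le_left ?_ (T ⊓ K) hSylT ?_ hmain
  · intro hD
    have hKN : K ≤ normalizer (K' : Set G) := by
      intro x hx
      have h1 : x ∈ K ⊓ normalizer (K' : Set G) := by rw [hD]; exact hx
      exact h1.2
    rcases hK.simp (K ⊓ centralizer (K' : Set G)) inf_le_left (by
      intro x hx n hn
      exact ⟨K.mul_mem (K.mul_mem hx hn.1) (K.inv_mem hx), mem_centralizer_conj (hKN hx) hn.2⟩) with h1 | h1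
    · have h2 : z₁ ∈ K ⊓ centralizer (K' : Set G) := ⟨hA₁.loc.zK, hz₁⟩
      rw [h1, mem_bot] at h2
      exact hA₁.loc.z1 h2
    · apply hcom
      intro x hx
      have h2 : x ∈ K ⊓ centralizer (K' : Set G) := by rw [h1]; exact hx
      exact h2.2
  · intro x hx
    exact ⟨hx.2, (hT.le hx.1).2⟩

end Cfsg.Agent.OddHalf.D4.Small

end

-- merged: Cfsg.Agent.OddHalf.D4.Small.End
section

/-!
# ODD, D4, small Lie odd: Theorem 2

`K` standard in the simple group `G`, `m_2(C(K)) ≥ 2`, with the local facts: impossible, by Theorem 1 and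
helper550's Theorem A.
-/

set_option autoImplicit false

namespace Cfsg.Agent.OddHalf.D4.Small

open Subgroup Cfsg Basic

variable {G : Type*} [Group G]

open CommConj in
theorem mem_centralizer_cj {K : Subgroup G} {g x : G} : x ∈ centralizer ((cj g K : Subgroup G) : Set G) ↔
    g⁻¹ * x * g ∈ centralizer (K : Set G) := by
  rw [mem_centralizer_iff, mem_centralizer_iff]
  constructor
  · intro h k hk
    have h1 := h (g * k * g⁻¹) (mem_cj_mul hk)
    calc k * (g⁻¹ * x * g) = g⁻¹ * ((g * k * g⁻¹) * x) * g := by group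
      _ = g⁻¹ * (x * (g * k * g⁻¹)) * g := by rw [h1]
      _ = g⁻¹ * x * g * k := by group
  · intro h y hy
    have h1 := h (g⁻¹ * y * g) (mem_cj.mp hy)
    calc y * x = g * ((g⁻¹ * y * g) * (g⁻¹ * x * g)) * g⁻¹ := by group
      _ = g * ((g⁻¹ * x * g) * (g⁻¹ * y * g)) * g⁻¹ := by rw [h1]
      _ = x * y := by group

theorem te_of_tight {K : Subgroup G}
    (T : CommConj.Tight (centralizer (K : Set G)) (normalizer (K : Set G))) : TE K := by
  intro y hy hy2 hy1 x hxy
  exact EvenPair.cent_le T hy (orderOf_two_of hy2 hy1) hxy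

open CommConj in
/-- **Theorem 2.** -/
theorem false_of_facts [Finite G] [IsSimpleGroup G] (h1173 : EvenPair.H1173 G) {K : Subgroup G}
    (hK : IsStandardSubgroup K) (hB : ∀ g : G, Base (cj g K)) (hF : ∀ g : G, FOne (cj g K))
    (nse : NoSE K) : False := by
  have T := EvenPair.tight_of_standard hK
  have h1K : cj 1 K = K := by
    ext x
    rw [mem_cj]
    simp
  have hBK : Base K := h1K ▸ hB 1
  have hFK : FOne K := h1K ▸ hF 1
  obtain ⟨S, hS, a, haN, h⟩ := EvenPair.theoremA_std h1173 hK (fun x hx hxC h2 => by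
    have h3 := hBK.cen x hx hxC
    rw [h3, orderOf_one] at h2
    exact absurd h2 (by norm_num))
  have hSyl : IsSyl S (normalizer (K : Set G)) := by
    obtain ⟨P, hP⟩ := hS
    rw [← hP]
    exact isSyl_of_sylow P
  rcases h with h | ⟨r, hrS, hr2, hrC, hrK, hrne⟩
  · -- a full conjugate: contradiction with Theorem 1
    obtain ⟨c, hc, d, hd, hc2, hd2, hc1, hd1, hcd, hcdc⟩ := hBK.rk
    have hCN : centralizer (K : Set G) ≤ normalizer (K : Set G) := centralizer_le_normalizer' K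
    obtain ⟨i, hi, hiq⟩ := hSyl.conj_into_inf (I := centralizer (K : Set G)) hCN
      (by
        intro t ht
        rw [mem_normalizer_iff]
        intro x
        constructor
        · intro hx
          exact mem_centralizer_conj (hSyl.le ht) hx
        · intro hx
          have h1 := mem_centralizer_conj' (hSyl.le ht) hx
          have h2 : t⁻¹ * (t * x * t⁻¹) * t = x := by group
          rwa [h2] at h1)
      (isPGroup_pair hc2 hd2 hcdc) (by
        rw [closure_le]
        rintro x (rfl | hx)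
        · exact hc
        · rw [Set.mem_singleton_iff] at hx
          subst hx
          exact hd)
    have hcm := hiq c (subset_closure (by simp))
    have hdm := hiq d (subset_closure (by simp))
    have mem_conj : ∀ y : G, i * y * i⁻¹ ∈ S ⊓ centralizer (K : Set G) →
        a * (i * y * i⁻¹) * a⁻¹ ∈ normalizer (K : Set G) ∧
        a * (i * y * i⁻¹) * a⁻¹ ∈ centralizer ((cj a K : Subgroup G) : Set G) := by
      intro y hy
      refine ⟨hSyl.le (h _ hy), ?_⟩
      rw [mem_centralizer_cj]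
      have h1 : a⁻¹ * (a * (i * y * i⁻¹) * a⁻¹) * a = i * y * i⁻¹ := by group
      rw [h1]
      exact hy.2
    have inj : ∀ x y : G, a * (i * x * i⁻¹) * a⁻¹ = a * (i * y * i⁻¹) * a⁻¹ → x = y := by
      intro x y hxy
      have h1 : ∀ u : G, u = i⁻¹ * (a⁻¹ * (a * (i * u * i⁻¹) * a⁻¹) * a) * i := fun u => by group
      rw [h1 x, hxy, ← h1 y]
    have one : a * (i * 1 * i⁻¹) * a⁻¹ = 1 := by group
    refine rank_le_one hBK (hB a) hFK (hF a) nse ?_ ?_ (mem_conj c hcm).1 (mem_conj d hdm).1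
      (mem_conj c hcm).2 (mem_conj d hdm).2 ?_ ?_ ?_ ?_ ?_ ?_
    · intro x hx hxC hx2
      by_contra hx1
      rw [mem_centralizer_cj] at hxC
      exact T.inf_odd haN hx hxC (orderOf_two_of hx2 hx1)
    · intro hle
      refine hK.2.2.1 a ?_ ?_
      · intro h2
        exact haN (mem_normalizer_of_cj_eq h2)
      · rw [commutator_eq_bot_iff_le_centralizer]
        exact hle
    · calc a * (i * c * i⁻¹) * a⁻¹ * (a * (i * c * i⁻¹) * a⁻¹) = a * (i * (c * c) * i⁻¹) * a⁻¹ := by group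
        _ = 1 := by rw [hc2]; group
    · calc a * (i * d * i⁻¹) * a⁻¹ * (a * (i * d * i⁻¹) * a⁻¹) = a * (i * (d * d) * i⁻¹) * a⁻¹ := by group
        _ = 1 := by rw [hd2]; group
    · intro h2
      exact hc1 (inj c 1 (h2.trans one.symm))
    · intro h2
      exact hd1 (inj d 1 (h2.trans one.symm))
    · intro h2
      exact hcd (inj c d h2)
    · calc a * (i * c * i⁻¹) * a⁻¹ * (a * (i * d * i⁻¹) * a⁻¹) = a * (i * (c * d) * i⁻¹) * a⁻¹ := by group
        _ = a * (i * (d * c) * i⁻¹) * a⁻¹ := by rw [hcdc]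
        _ = a * (i * d * i⁻¹) * a⁻¹ * (a * (i * c * i⁻¹) * a⁻¹) := by group
  · -- an outer involution centralizing a Sylow subgroup: contradiction with (F1)
    obtain ⟨k, hk, s, hsS, hsK, hsc, hrks⟩ := hFK S hSyl r hrS (fun s hs hsK => (hrK s ⟨hs, hsK⟩).symm)
    refine hrne k ⟨?_, hk⟩ s ⟨hsS, hsK⟩ hrks
    have h1 : k = r * s⁻¹ := by rw [hrks]; group
    rw [h1]
    exact S.mul_mem hrS (S.inv_mem hsS)

end Cfsg.Agent.OddHalf.D4.Small

end

-- merged: Cfsg.Agent.OddHalf.D4.Small.Quat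
section

/-!
# ODD, D4, small Lie odd: automorphisms of `Q₈`, `Z₄ * Q₈`, `Q₈ * Q₈`

Only what is needed for pairs of commuting involutory automorphisms with constant fixed points.
-/

set_option autoImplicit false
set_option linter.unusedSimpArgs false
set_option linter.style.multiGoal false

namespace Cfsg.Agent.OddHalf.D4.Small

open Subgroup

variable {K : Type*} [Group K]

/-- `Q` is a quaternion group of order 8 with involution `z`. -/
structure IsQ (z : K) (Q : Subgroup K) : Prop where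
  zQ : z ∈ Q
  z2 : z * z = 1
  z1 : z ≠ 1
  zc : ∀ q ∈ Q, q * z = z * q
  sq : ∀ q ∈ Q, q ≠ 1 → q ≠ z → q * q = z
  anti : ∀ q ∈ Q, ∀ r ∈ Q, q ≠ 1 → q ≠ z → r ≠ 1 → r ≠ z → r = q ∨ r = q * z ∨ r * q = q * r * z
  ex : ∀ q ∈ Q, q ≠ 1 → q ≠ z → ∃ r ∈ Q, r * q = q * r * z
  exq : ∃ q ∈ Q, q ≠ 1 ∧ q ≠ z

/-- Construction from two generators. -/
theorem IsQ.mk' {z i j : K} {Q : Subgroup K} (z2 : z * z = 1) (z1 : z ≠ 1) (hi : i ∈ Q) (hj : j ∈ Q)
    (ii : i * i = z) (jj : j * j = z) (ji : j * i = i * j * z)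
    (hQ : ∀ q ∈ Q, q = 1 ∨ q = z ∨ q = i ∨ q = i * z ∨ q = j ∨ q = j * z ∨ q = i * j ∨ q = i * j * z) :
    IsQ z Q := by
  have zi : z * i = i * z := by rw [← ii, mul_assoc]
  have zj : z * j = j * z := by rw [← jj, mul_assoc]
  have r1 : ∀ x, z * (z * x) = x := fun x => by rw [← mul_assoc, z2, one_mul]
  have r2 : ∀ x, z * (i * x) = i * (z * x) := fun x => by rw [← mul_assoc, zi, mul_assoc]
  have r3 : ∀ x, z * (j * x) = j * (z * x) := fun x => by rw [← mul_assoc, zj, mul_assoc]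
  have r4 : j * i = i * (j * z) := by rw [ji, mul_assoc]
  have r5 : ∀ x, j * (i * x) = i * (j * (z * x)) := fun x => by
    rw [← mul_assoc, ji]; simp only [mul_assoc]
  have r6 : ∀ x, i * (i * x) = z * x := fun x => by rw [← mul_assoc, ii]
  have r7 : ∀ x, j * (j * x) = z * x := fun x => by rw [← mul_assoc, jj]
  have hzQ : z ∈ Q := by rw [← ii]; exact Q.mul_mem hi hi
  have i1 : i ≠ 1 := by rintro rfl; apply z1; rw [← ii, one_mul]
  have iz : i ≠ z := by rintro rfl; apply z1; rw [← ii, z2]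
  have j1 : j ≠ 1 := by rintro rfl; apply z1; rw [← jj, one_mul]
  have jz : j ≠ z := by rintro rfl; apply z1; rw [← jj, z2]
  have nc : ∀ q ∈ Q, q ≠ 1 → q ≠ z → q = i ∨ q = i * z ∨ q = j ∨ q = j * z ∨ q = i * j ∨ q = i * j * z := by
    intro q hq h1 hz
    rcases hQ q hq with h | h | h | h | h | h | h | h
    · exact absurd h h1
    · exact absurd h hz
    all_goals simp [h]
  refine ⟨hzQ, z2, z1, ?_, ?_, ?_, ?_, ⟨i, hi, i1, iz⟩⟩
  · intro q hq
    rcases hQ q hq with rfl | rfl | rfl | rfl | rfl | rfl | rfl | rfl <;>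
      simp only [mul_assoc, one_mul, mul_one, r1, r2, r3, z2, zi, zj]
  · intro q hq h1 hz
    rcases nc q hq h1 hz with rfl | rfl | rfl | rfl | rfl | rfl <;>
      simp only [mul_assoc, one_mul, mul_one, r1, r2, r3, r4, r5, r6, r7, z2, zi, zj, ii, jj]
  · intro q hq r hr hq1 hqz hr1 hrz
    rcases nc q hq hq1 hqz with rfl | rfl | rfl | rfl | rfl | rfl <;>
      rcases nc r hr hr1 hrz with rfl | rfl | rfl | rfl | rfl | rfl <;>
      first
      | (left; rfl)
      | (right; left; simp only [mul_assoc, one_mul, mul_one, r1, r2, r3, r4, r5, r6, r7, z2, zi, zj, ii, jj]; done)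
      | (right; right
         simp only [mul_assoc, one_mul, mul_one, r1, r2, r3, r4, r5, r6, r7, z2, zi, zj, ii, jj]; done)
  · intro q hq hq1 hqz
    rcases nc q hq hq1 hqz with rfl | rfl | rfl | rfl | rfl | rfl
    · exact ⟨j, hj, by simp only [mul_assoc, one_mul, mul_one, r1, r2, r3, r4, r5, r6, r7, z2, zi, zj, ii, jj]⟩
    · exact ⟨j, hj, by simp only [mul_assoc, one_mul, mul_one, r1, r2, r3, r4, r5, r6, r7, z2, zi, zj, ii, jj]⟩
    · exact ⟨i, hi, by simp only [mul_assoc, one_mul, mul_one, r1, r2, r3, r4, r5, r6, r7, z2, zi, zj, ii, jj]⟩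
    · exact ⟨i, hi, by simp only [mul_assoc, one_mul, mul_one, r1, r2, r3, r4, r5, r6, r7, z2, zi, zj, ii, jj]⟩
    · exact ⟨i, hi, by simp only [mul_assoc, one_mul, mul_one, r1, r2, r3, r4, r5, r6, r7, z2, zi, zj, ii, jj]⟩
    · exact ⟨i, hi, by simp only [mul_assoc, one_mul, mul_one, r1, r2, r3, r4, r5, r6, r7, z2, zi, zj, ii, jj]⟩

namespace IsQ

variable {z : K} {Q : Subgroup K}

theorem ne_of_anti (h : IsQ z Q) {q r : K} (ha : r * q = q * r * z) : q ≠ 1 ∧ q ≠ z ∧ r ≠ 1 ∧ r ≠ z := by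
  have key : ∀ x y : K, x * y = y * x → x * y = y * x * z → False := by
    intro x y h1 h2
    apply h.z1
    rw [h1] at h2
    have h3 : y * x = y * x * z := h2
    calc z = (y * x)⁻¹ * (y * x * z) := by group
      _ = 1 := by rw [← h3]; group
  refine ⟨?_, ?_, ?_, ?_⟩
  · rintro rfl
    exact key r 1 (by simp) ha
  · rintro rfl
    -- `r z = z r z`
    apply h.z1
    have h1 : r * q = q * r * q := ha
    calc q = r⁻¹ * (r * q) := by group
      _ = r⁻¹ * (q * r * q) := by rw [← h1]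
      _ = r⁻¹ * q * r * q := by group
      _ = 1 := by
        have h2 : r = q * r := by
          have := congrArg (· * q⁻¹) h1
          simpa using this
        have h3 : q = 1 := by
          have := congrArg (· * r⁻¹) h2
          simpa using this.symm
        rw [h3]; group
  · rintro rfl
    exact key 1 q (by simp) ha
  · rintro rfl
    apply h.z1
    have h1 : r * q = q * r * r := ha
    rw [mul_assoc, h.z2, mul_one] at h1
    have := congrArg (· * q⁻¹) h1
    simpa using this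

theorem pts (h : IsQ z Q) {q r t : K} (hq : q ∈ Q) (hr : r ∈ Q) (ha : r * q = q * r * z) (ht : t ∈ Q)
    (ht1 : t ≠ 1) (htz : t ≠ z) : t = q ∨ t = q * z ∨ t = r ∨ t = r * z ∨ t = q * r ∨ t = q * r * z := by
  obtain ⟨hq1, hqz, hr1, hrz⟩ := h.ne_of_anti ha
  rcases h.anti q hq t ht hq1 hqz ht1 htz with h1 | h1 | h1
  · exact Or.inl h1
  · exact Or.inr (Or.inl h1)
  rcases h.anti r hr t ht hr1 hrz ht1 htz with h2 | h2 | h2
  · exact Or.inr (Or.inr (Or.inl h2))
  · exact Or.inr (Or.inr (Or.inr (Or.inl h2)))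
  have hqr : q * r ∈ Q := Q.mul_mem hq hr
  have hzt := h.zc t ht
  have hzq := h.zc q hq
  have hzr := h.zc r hr
  -- `t` commutes with `q r`
  have hc : t * (q * r) = q * r * t := by
    calc t * (q * r) = (t * q) * r := by group
      _ = q * t * (z * r) := by rw [h1]; group
      _ = q * (t * r) * z := by rw [← hzr]; group
      _ = q * r * t * (z * z) := by rw [h2]; group
      _ = q * r * t := by rw [h.z2, mul_one]
  have hqr1 : q * r ≠ 1 := by
    intro h3
    have h4 : r = q⁻¹ := eq_inv_of_mul_eq_one_right h3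
    apply h.z1
    rw [h4] at ha
    have h5 : (1 : K) = z := by simpa using ha
    exact h5.symm
  have hqrz : q * r ≠ z := by
    intro h3
    have h4 : r = q⁻¹ * z := by rw [← h3]; group
    have h5 : r * q = z := by
      rw [h4]
      calc q⁻¹ * z * q = q⁻¹ * (z * q) := by group
        _ = q⁻¹ * (q * z) := by rw [hzq]
        _ = z := by group
    apply h.z1
    rw [h5, h3, h.z2] at ha
    exact ha
  rcases h.anti (q * r) hqr t ht hqr1 hqrz ht1 htz with h3 | h3 | h3
  · simp [h3]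
  · simp [h3]
  · exfalso
    apply h.z1
    rw [hc] at h3
    calc z = (q * r * t)⁻¹ * (q * r * t * z) := by group
      _ = 1 := by rw [← h3]; group


/-- The elements of `Q` fixed together with two anticommuting ones. -/
theorem fix_of (h : IsQ z Q) {α : MulAut K} (hz : α z = z) {q r : K} (hq : q ∈ Q) (hr : r ∈ Q)
    (ha : r * q = q * r * z) (h1 : α q = q) (h2 : α r = r) : ∀ t ∈ Q, α t = t := by
  intro t ht
  by_cases ht1 : t = 1
  · rw [ht1, map_one]
  by_cases htz : t = z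
  · rw [htz, hz]
  rcases h.pts hq hr ha ht ht1 htz with rfl | rfl | rfl | rfl | rfl | rfl <;>
    simp only [map_mul, h1, h2, hz]

theorem ne_mul_z (h : IsQ z Q) (q : K) : q ≠ q * z := by
  intro h1
  apply h.z1
  calc z = q⁻¹ * (q * z) := by group
    _ = 1 := by rw [← h1]; group

theorem mul_z_z (h : IsQ z Q) (q : K) : q * z * z = q := by rw [mul_assoc, h.z2, mul_one]

/-- An involutory automorphism fixing `u` maps an element anticommuting with `u` to itself or to its inverse. -/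
theorem anti_cases (h : IsQ z Q) {α : MulAut K} (hQ : ∀ q ∈ Q, α q ∈ Q) (h2 : ∀ q ∈ Q, α (α q) = q)
    (hz : α z = z) {u q : K} (hu : u ∈ Q) (hq : q ∈ Q) (ha : q * u = u * q * z) (hfix : α u = u) :
    α q = q ∨ α q = q * z := by
  obtain ⟨hu1, huz, hq1, hqz⟩ := h.ne_of_anti ha
  have hαq1 : α q ≠ 1 := fun h3 => hq1 (α.injective (by rw [h3, map_one]))
  have hαqz : α q ≠ z := fun h3 => hqz (α.injective (by rw [h3, hz]))
  have hanti : α q * u = u * α q * z := by
    have h3 := congrArg α ha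
    simp only [map_mul, hfix, hz] at h3
    exact h3
  have hcomm : ∀ x : K, x * u = u * x → α q = x → False := by
    intro x hx h3
    rw [h3, hx] at hanti
    exact h.ne_mul_z _ hanti
  have hzq := h.zc q hq
  have hzu := h.zc u hu
  have hu2 : u * u = z := h.sq u hu hu1 huz
  rcases h.pts hu hq ha (hQ q hq) hαq1 hαqz with h3 | h3 | h3 | h3 | h3 | h3
  · exact absurd h3 (fun h3 => hcomm u rfl h3)
  · exact absurd h3 (fun h3 => hcomm (u * z) (by rw [mul_assoc, ← hzu]) h3)
  · exact Or.inl h3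
  · exact Or.inr h3
  · exfalso
    have h4 := h2 q hq
    rw [h3, map_mul, hfix, h3] at h4
    apply h.z1
    have h5 : u * (u * q) = z * q := by rw [← mul_assoc, hu2]
    rw [h5] at h4
    calc z = z * q * q⁻¹ := by group
      _ = 1 := by rw [h4]; group
  · exfalso
    have h4 := h2 q hq
    rw [h3, map_mul, map_mul, hfix, h3, hz] at h4
    apply h.z1
    have h5 : u * (u * q * z) * z = z * q := by
      calc u * (u * q * z) * z = (u * u) * q * (z * z) := by group
        _ = z * q := by rw [hu2, h.z2, mul_one]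
    rw [h5] at h4
    calc z = z * q * q⁻¹ := by group
      _ = 1 := by rw [h4]; group

/-- **constant fixed points on `Q₈`** -/
theorem fix (h : IsQ z Q) {α β : MulAut K} (hα : ∀ q ∈ Q, α q ∈ Q) (hβ : ∀ q ∈ Q, β q ∈ Q)
    (hα2 : ∀ q ∈ Q, α (α q) = q) (hβ2 : ∀ q ∈ Q, β (β q) = q) (hc : ∀ q ∈ Q, α (β q) = β (α q))
    (hαz : α z = z) (hβz : β z = z) (h1 : ∀ q ∈ Q, α q = q ↔ β q = q)
    (h2 : ∀ q ∈ Q, α q = q ↔ α (β q) = q) : ∀ q ∈ Q, α q = q := by
  -- claim A
  have claimA : ∀ u ∈ Q, u ≠ 1 → u ≠ z → α u = u → ∀ q ∈ Q, α q = q := by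
    intro u hu hu1 huz hfix
    have hfixβ := (h1 u hu).mp hfix
    obtain ⟨q, hq, ha⟩ := h.ex u hu hu1 huz
    rcases h.anti_cases hα hα2 hαz hu hq ha hfix with h3 | h3
    · exact h.fix_of hαz hu hq ha hfix h3
    · exfalso
      rcases h.anti_cases hβ hβ2 hβz hu hq ha hfixβ with h4 | h4
      · have h5 := (h1 q hq).mpr h4
        rw [h5] at h3
        exact h.ne_mul_z _ h3
      · have h5 : α (β q) = q := by rw [h4, map_mul, h3, hαz, h.mul_z_z]
        have h6 := (h2 q hq).mpr h5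
        rw [h6] at h3
        exact h.ne_mul_z _ h3
  by_contra hcon
  have nofix : ∀ u ∈ Q, u ≠ 1 → u ≠ z → α u ≠ u := fun u hu hu1 huz h3 => hcon (claimA u hu hu1 huz h3)
  -- an element mapped to its inverse
  have hex : ∃ u ∈ Q, u ≠ 1 ∧ u ≠ z ∧ α u = u * z := by
    obtain ⟨q, hq, hq1, hqz⟩ := h.exq
    obtain ⟨r, hr, ha⟩ := h.ex q hq hq1 hqz
    obtain ⟨-, -, hr1, hrz⟩ := h.ne_of_anti ha
    have hαq1 : α q ≠ 1 := fun h3 => hq1 (α.injective (by rw [h3, map_one]))
    have hαqz : α q ≠ z := fun h3 => hqz (α.injective (by rw [h3, hαz]))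
    have hzq := h.zc q hq
    have hzr := h.zc r hr
    have hqr : q * r ∈ Q := Q.mul_mem hq hr
    have hqr1 : q * r ≠ 1 := by
      intro h3
      have h4 : r = q⁻¹ := eq_inv_of_mul_eq_one_right h3
      apply h.z1
      rw [h4] at ha
      have h5 : (1 : K) = z := by simpa using ha
      exact h5.symm
    have hqrz : q * r ≠ z := by
      intro h3
      have h4 : r = q⁻¹ * z := by rw [← h3]; group
      have h5 : r * q = z := by
        rw [h4]
        calc q⁻¹ * z * q = q⁻¹ * (z * q) := by group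
          _ = q⁻¹ * (q * z) := by rw [hzq]
          _ = z := by group
      apply h.z1
      rw [h5, h3, h.z2] at ha
      exact ha
    rcases h.pts hq hr ha (hα q hq) hαq1 hαqz with h3 | h3 | h3 | h3 | h3 | h3
    · exact absurd h3 (nofix q hq hq1 hqz)
    · exact ⟨q, hq, hq1, hqz, h3⟩
    · refine ⟨q * r, hqr, hqr1, hqrz, ?_⟩
      have h4 : α r = q := by rw [← h3, hα2 q hq]
      rw [map_mul, h3, h4, ha]
    · refine ⟨q * r, hqr, hqr1, hqrz, ?_⟩
      have h4 : α r = q * z := by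
        have h5 := hα2 q hq
        rw [h3, map_mul, hαz] at h5
        rw [← h5, h.mul_z_z]
      rw [map_mul, h3, h4]
      calc r * z * (q * z) = r * (z * q) * z := by group
        _ = r * q * (z * z) := by rw [← hzq]; group
        _ = q * r * z := by rw [h.z2, mul_one, ha]
    · refine ⟨r, hr, hr1, hrz, ?_⟩
      have h4 : α (q * r) = q := by rw [← h3, hα2 q hq]
      rw [map_mul, h3] at h4
      have h5 : α r = (q * r)⁻¹ * q := eq_inv_mul_of_mul_eq h4
      rw [h5]
      have h6 : r * (r * z) = 1 := by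
        rw [← mul_assoc, h.sq r hr hr1 hrz, h.z2]
      calc (q * r)⁻¹ * q = r⁻¹ := by group
        _ = r * z := by
          rw [inv_eq_iff_mul_eq_one]
          exact h6
    · refine ⟨r, hr, hr1, hrz, ?_⟩
      have h4 : α (q * r) = q * z := by
        have h5 : α (q * r * z) = q := by rw [← h3, hα2 q hq]
        rw [map_mul, hαz] at h5
        calc α (q * r) = α (q * r) * z * z := (h.mul_z_z _).symm
          _ = q * z := by rw [h5]
      rw [map_mul, h3] at h4
      have h5 : α r = (q * r * z)⁻¹ * (q * z) := eq_inv_mul_of_mul_eq h4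
      rw [h5]
      have h6 : r * (r * z) = 1 := by
        rw [← mul_assoc, h.sq r hr hr1 hrz, h.z2]
      calc (q * r * z)⁻¹ * (q * z) = z⁻¹ * r⁻¹ * z := by group
        _ = r⁻¹ := by
          have h7 : r⁻¹ * z = z * r⁻¹ := h.zc _ (Q.inv_mem hr)
          calc z⁻¹ * r⁻¹ * z = z⁻¹ * (r⁻¹ * z) := by group
            _ = r⁻¹ := by rw [h7]; group
        _ = r * z := by
          rw [inv_eq_iff_mul_eq_one]
          exact h6
  obtain ⟨u, hu, hu1, huz, hαu⟩ := hex
  -- `β u ∈ {u, u z}`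
  have hβu1 : β u ≠ 1 := fun h3 => hu1 (β.injective (by rw [h3, map_one]))
  have hβuz : β u ≠ z := fun h3 => huz (β.injective (by rw [h3, hβz]))
  have hv : α (β u) = β u * z := by rw [hc u hu, hαu, map_mul, hβz]
  have hβu : β u = u ∨ β u = u * z := by
    rcases h.anti u hu (β u) (hβ u hu) hu1 huz hβu1 hβuz with h3 | h3 | h3
    · exact Or.inl h3
    · exact Or.inr h3
    · exfalso
      -- `u` and `β u` anticommute and are both inverted: their product is fixed
      have hp : u * β u ∈ Q := Q.mul_mem hu (hβ u hu)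
      have hfix : α (u * β u) = u * β u := by
        rw [map_mul, hαu, hv]
        have h4 := h.zc (β u) (hβ u hu)
        calc u * z * (β u * z) = u * (z * β u) * z := by group
          _ = u * β u * (z * z) := by rw [← h4]; group
          _ = u * β u := by rw [h.z2, mul_one]
      have hp1 : u * β u ≠ 1 := by
        intro h4
        have h5 : β u = u⁻¹ := eq_inv_of_mul_eq_one_right h4
        apply h.z1
        rw [h5] at h3
        have h6 : (1 : K) = z := by simpa using h3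
        exact h6.symm
      have hpz : u * β u ≠ z := by
        intro h4
        have h5 : β u = u⁻¹ * z := by rw [← h4]; group
        have h6 : β u * u = z := by
          rw [h5]
          calc u⁻¹ * z * u = u⁻¹ * (z * u) := by group
            _ = u⁻¹ * (u * z) := by rw [h.zc u hu]
            _ = z := by group
        apply h.z1
        rw [h6, h4, h.z2] at h3
        exact h3
      exact nofix _ hp hp1 hpz hfix
  have hβu' : β u = u * z := by
    rcases hβu with h3 | h3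
    · exact absurd ((h1 u hu).mpr h3) (nofix u hu hu1 huz)
    · exact h3
  have h3 : α (β u) = u := by rw [hβu', map_mul, hαu, hαz, h.mul_z_z]
  exact nofix u hu hu1 huz ((h2 u hu).mpr h3)

end IsQ

end Cfsg.Agent.OddHalf.D4.Small

end

-- merged: Cfsg.Agent.OddHalf.D4.Small.Types
section

/-!
# ODD, D4, small Lie odd: the three types of `R = O₂(C_K(z))`

`Q₈`, `Z₄ * Q₈`, `Q₈ * Q₈`: constant fixed points (`fix`), and the configuration with a noncentral involution `w`
(`false_of_w`).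
-/

set_option autoImplicit false

namespace Cfsg.Agent.OddHalf.D4.Small

open Subgroup

variable {K : Type*} [Group K]

namespace IsQ

variable {z : K} {Q : Subgroup K}

/-- An element of `Q` commuting with two anticommuting elements of `Q` is central. -/
theorem central_of (h : IsQ z Q) {q r t : K} (hq : q ∈ Q) (hr : r ∈ Q) (ha : r * q = q * r * z) (ht : t ∈ Q)
    (h1 : t * q = q * t) (h2 : t * r = r * t) : t = 1 ∨ t = z := by
  by_contra hcon
  push Not at hcon
  obtain ⟨hq1, hqz, hr1, hrz⟩ := h.ne_of_anti ha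
  have hno : ∀ x y : K, x * y = y * x → x * y = y * x * z → False := by
    intro x y h3 h4
    rw [h3] at h4
    exact h.ne_mul_z _ h4
  have ht2 := h.anti q hq t ht hq1 hqz hcon.1 hcon.2
  have ht3 := h.anti r hr t ht hr1 hrz hcon.1 hcon.2
  rcases ht2 with h3 | h3 | h3
  · subst h3
    exact hno r t h2.symm ha
  · subst h3
    have h4 : r * q = q * r := by
      have h5 := h.zc r hr
      calc r * q = r * (q * z) * z := by rw [← mul_assoc, h.mul_z_z]
        _ = q * z * r * z := by rw [h2]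
        _ = q * (z * r) * z := by group
        _ = q * r * (z * z) := by rw [← h5]; group
        _ = q * r := by rw [h.z2, mul_one]
    exact hno r q h4 ha
  · exact hno t q h1 h3

end IsQ

/-! ### `Q₈ * Q₈` -/

/-- `R = Q₁ Q₂`, extraspecial of order 32 and type `+`. -/
structure IsQQ (z : K) (Q₁ Q₂ R : Subgroup K) : Prop where
  q1 : IsQ z Q₁
  q2 : IsQ z Q₂
  le1 : Q₁ ≤ R
  le2 : Q₂ ≤ R
  com : ∀ x ∈ Q₁, ∀ y ∈ Q₂, x * y = y * x
  inf : ∀ x ∈ Q₁, x ∈ Q₂ → x = 1 ∨ x = z
  mem : ∀ r ∈ R, ∃ x ∈ Q₁, ∃ y ∈ Q₂, r = x * y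

namespace IsQQ

variable {z : K} {Q₁ Q₂ R : Subgroup K}

theorem symm (h : IsQQ z Q₁ Q₂ R) : IsQQ z Q₂ Q₁ R where
  q1 := h.q2
  q2 := h.q1
  le1 := h.le2
  le2 := h.le1
  com := fun x hx y hy => (h.com y hy x hx).symm
  inf := fun x hx hy => h.inf x hy hx
  mem := by
    intro r hr
    obtain ⟨x, hx, y, hy, rfl⟩ := h.mem r hr
    exact ⟨y, hy, x, hx, h.com x hx y hy⟩

theorem sq_cases (h : IsQQ z Q₁ Q₂ R) {x : K} (hx : x ∈ Q₁) : x * x = 1 ∨ x * x = z := by
  by_cases h1 : x = 1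
  · left; rw [h1, mul_one]
  by_cases h2 : x = z
  · left; rw [h2, h.q1.z2]
  · right; exact h.q1.sq x hx h1 h2

/-- Elements of order 4 are in `Q₁` or `Q₂`. -/
theorem mem_of_sq (h : IsQQ z Q₁ Q₂ R) {r : K} (hr : r ∈ R) (h2 : r * r = z) : r ∈ Q₁ ∨ r ∈ Q₂ := by
  obtain ⟨x, hx, y, hy, rfl⟩ := h.mem r hr
  have hxy := h.com x hx y hy
  have h3 : (x * x) * (y * y) = z := by
    calc (x * x) * (y * y) = x * (x * y) * y := by group
      _ = x * (y * x) * y := by rw [hxy]
      _ = x * y * (x * y) := by group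
      _ = z := h2
  by_cases hx1 : x = 1
  · right; rw [hx1, one_mul]; exact hy
  by_cases hxz : x = z
  · right; rw [hxz]; exact Q₂.mul_mem h.q2.zQ hy
  by_cases hy1 : y = 1
  · left; rw [hy1, mul_one]; exact hx
  by_cases hyz : y = z
  · left; rw [hyz]; exact Q₁.mul_mem hx h.q1.zQ
  · exfalso
    rw [h.q1.sq x hx hx1 hxz, h.q2.sq y hy hy1 hyz, h.q1.z2] at h3
    exact h.q1.z1 h3.symm

/-- An automorphism mapping one noncentral element of `Q₁` into `Q₁` preserves `Q₁` and `Q₂`. -/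
theorem pres_of (h : IsQQ z Q₁ Q₂ R) {α : MulAut K} (hR : ∀ r ∈ R, α r ∈ R) (hz : α z = z) {q : K}
    (hq : q ∈ Q₁) (hq1 : q ≠ 1) (hqz : q ≠ z) (hαq : α q ∈ Q₁) :
    (∀ x ∈ Q₁, α x ∈ Q₁) ∧ ∀ y ∈ Q₂, α y ∈ Q₂ := by
  have hne : ∀ x : K, x ≠ 1 → x ≠ z → α x ≠ 1 ∧ α x ≠ z := fun x h1 h2 =>
    ⟨fun h3 => h1 (α.injective (by rw [h3, map_one])), fun h3 => h2 (α.injective (by rw [h3, hz]))⟩
  have hsq : ∀ x : K, x * x = z → α x * α x = z := fun x hx => by rw [← map_mul, hx, hz]
  have h1 : ∀ x ∈ Q₁, α x ∈ Q₁ := by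
    obtain ⟨r, hr, ha⟩ := h.q1.ex q hq hq1 hqz
    obtain ⟨-, -, hr1, hrz⟩ := h.q1.ne_of_anti ha
    have hαr : α r ∈ Q₁ := by
      rcases h.mem_of_sq (hR r (h.le1 hr)) (hsq r (h.q1.sq r hr hr1 hrz)) with h2 | h2
      · exact h2
      · exfalso
        have h3 := congrArg α ha
        rw [map_mul, map_mul, map_mul, hz, h.com _ hαq _ h2] at h3
        exact h.q1.ne_mul_z _ h3
    intro x hx
    by_cases hx1 : x = 1
    · rw [hx1, map_one]; exact Q₁.one_mem
    by_cases hxz : x = z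
    · rw [hxz, hz]; exact h.q1.zQ
    have hzQ := h.q1.zQ
    rcases h.q1.pts hq hr ha hx hx1 hxz with rfl | rfl | rfl | rfl | rfl | rfl
    · exact hαq
    · rw [map_mul, hz]; exact Q₁.mul_mem hαq hzQ
    · exact hαr
    · rw [map_mul, hz]; exact Q₁.mul_mem hαr hzQ
    · rw [map_mul]; exact Q₁.mul_mem hαq hαr
    · rw [map_mul, map_mul, hz]; exact Q₁.mul_mem (Q₁.mul_mem hαq hαr) hzQ
  refine ⟨h1, ?_⟩
  intro y hy
  by_cases hy1 : y = 1
  · rw [hy1, map_one]; exact Q₂.one_mem
  by_cases hyz : y = z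
  · rw [hyz, hz]; exact h.q2.zQ
  rcases h.mem_of_sq (hR y (h.le2 hy)) (hsq y (h.q2.sq y hy hy1 hyz)) with h2 | h2
  · exfalso
    obtain ⟨r, hr, ha⟩ := h.q1.ex q hq hq1 hqz
    have h3 := congrArg α ha
    rw [map_mul, map_mul, map_mul, hz] at h3
    have h4 : α y * α q = α q * α y := by rw [← map_mul, ← map_mul, h.com q hq y hy]
    have h5 : α y * α r = α r * α y := by rw [← map_mul, ← map_mul, h.com r hr y hy]
    rcases h.q1.central_of hαq (h1 r hr) h3 h2 h4 h5 with h6 | h6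
    · exact (hne y hy1 hyz).1 h6
    · exact (hne y hy1 hyz).2 h6
  · exact h2

/-- The same with an element of `Q₁` mapped into `Q₂`. -/
theorem swap_of (h : IsQQ z Q₁ Q₂ R) {α : MulAut K} (hR : ∀ r ∈ R, α r ∈ R) (hz : α z = z) {q : K}
    (hq : q ∈ Q₁) (hq1 : q ≠ 1) (hqz : q ≠ z) (hαq : α q ∈ Q₂) :
    (∀ x ∈ Q₁, α x ∈ Q₂) ∧ ∀ y ∈ Q₂, α y ∈ Q₁ := by
  have hne : ∀ x : K, x ≠ 1 → x ≠ z → α x ≠ 1 ∧ α x ≠ z := fun x h1 h2 =>
    ⟨fun h3 => h1 (α.injective (by rw [h3, map_one])), fun h3 => h2 (α.injective (by rw [h3, hz]))⟩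
  have hsq : ∀ x : K, x * x = z → α x * α x = z := fun x hx => by rw [← map_mul, hx, hz]
  have h1 : ∀ x ∈ Q₁, α x ∈ Q₂ := by
    obtain ⟨r, hr, ha⟩ := h.q1.ex q hq hq1 hqz
    obtain ⟨-, -, hr1, hrz⟩ := h.q1.ne_of_anti ha
    have hαr : α r ∈ Q₂ := by
      rcases h.mem_of_sq (hR r (h.le1 hr)) (hsq r (h.q1.sq r hr hr1 hrz)) with h2 | h2
      · exfalso
        have h3 := congrArg α ha
        rw [map_mul, map_mul, map_mul, hz, h.com _ h2 _ hαq] at h3
        exact h.q1.ne_mul_z _ h3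
      · exact h2
    intro x hx
    by_cases hx1 : x = 1
    · rw [hx1, map_one]; exact Q₂.one_mem
    by_cases hxz : x = z
    · rw [hxz, hz]; exact h.q2.zQ
    have hzQ := h.q2.zQ
    rcases h.q1.pts hq hr ha hx hx1 hxz with rfl | rfl | rfl | rfl | rfl | rfl
    · exact hαq
    · rw [map_mul, hz]; exact Q₂.mul_mem hαq hzQ
    · exact hαr
    · rw [map_mul, hz]; exact Q₂.mul_mem hαr hzQ
    · rw [map_mul]; exact Q₂.mul_mem hαq hαr
    · rw [map_mul, map_mul, hz]; exact Q₂.mul_mem (Q₂.mul_mem hαq hαr) hzQ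
  refine ⟨h1, ?_⟩
  intro y hy
  by_cases hy1 : y = 1
  · rw [hy1, map_one]; exact Q₁.one_mem
  by_cases hyz : y = z
  · rw [hyz, hz]; exact h.q1.zQ
  rcases h.mem_of_sq (hR y (h.le2 hy)) (hsq y (h.q2.sq y hy hy1 hyz)) with h2 | h2
  · exact h2
  · exfalso
    obtain ⟨r, hr, ha⟩ := h.q1.ex q hq hq1 hqz
    have h3 := congrArg α ha
    rw [map_mul, map_mul, map_mul, hz] at h3
    have h4 : α y * α q = α q * α y := by rw [← map_mul, ← map_mul, h.com q hq y hy]
    have h5 : α y * α r = α r * α y := by rw [← map_mul, ← map_mul, h.com r hr y hy]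
    rcases h.q2.central_of hαq (h1 r hr) h3 h2 h4 h5 with h6 | h6
    · exact (hne y hy1 hyz).1 h6
    · exact (hne y hy1 hyz).2 h6

theorem pres_or_swap (h : IsQQ z Q₁ Q₂ R) {α : MulAut K} (hR : ∀ r ∈ R, α r ∈ R) (hz : α z = z) :
    ((∀ x ∈ Q₁, α x ∈ Q₁) ∧ ∀ y ∈ Q₂, α y ∈ Q₂) ∨ ((∀ x ∈ Q₁, α x ∈ Q₂) ∧ ∀ y ∈ Q₂, α y ∈ Q₁) := by
  obtain ⟨q, hq, hq1, hqz⟩ := h.q1.exq
  have h2 : α q * α q = z := by rw [← map_mul, h.q1.sq q hq hq1 hqz, hz]
  rcases h.mem_of_sq (hR q (h.le1 hq)) h2 with h3 | h3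
  · exact Or.inl (h.pres_of hR hz hq hq1 hqz h3)
  · exact Or.inr (h.swap_of hR hz hq hq1 hqz h3)

/-- `γ` preserves `Q₁`, `Q₂`, and `σ` swaps them: the fixed points on `R` are not the same. -/
theorem false_of_swap (h : IsQQ z Q₁ Q₂ R) {γ σ : MulAut K}
    (hγ : (∀ x ∈ Q₁, γ x ∈ Q₁) ∧ ∀ y ∈ Q₂, γ y ∈ Q₂) (hσ : (∀ x ∈ Q₁, σ x ∈ Q₂) ∧ ∀ y ∈ Q₂, σ y ∈ Q₁)
    (hσ2 : ∀ r, σ (σ r) = r) (hfix : ∀ r ∈ R, γ r = r ↔ σ r = r) : False := by
  -- `γ` is trivial modulo `z` on `Q₁`
  have h1 : ∀ q ∈ Q₁, γ q = q ∨ γ q = q * z := by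
    intro q hq
    have h2 : q * σ q ∈ R := R.mul_mem (h.le1 hq) (h.le2 (hσ.1 q hq))
    have h3 : σ (q * σ q) = q * σ q := by
      rw [map_mul, hσ2]
      exact (h.com q hq _ (hσ.1 q hq)).symm
    have h4 := (hfix _ h2).mpr h3
    rw [map_mul] at h4
    have h5 : q⁻¹ * γ q = σ q * (γ (σ q))⁻¹ := by
      have h6 : γ q = q * σ q * (γ (σ q))⁻¹ := eq_mul_inv_of_mul_eq h4
      rw [h6]; group
    have h6 : q⁻¹ * γ q ∈ Q₁ := Q₁.mul_mem (Q₁.inv_mem hq) (hγ.1 q hq)
    have h7 : q⁻¹ * γ q ∈ Q₂ := by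
      rw [h5]
      exact Q₂.mul_mem (hσ.1 q hq) (Q₂.inv_mem (hγ.2 _ (hσ.1 q hq)))
    rcases h.inf _ h6 h7 with h8 | h8
    · left; exact (inv_mul_eq_one.mp h8).symm
    · right; rw [← h8]; group
  -- a fixed noncentral element
  obtain ⟨q, hq, hq1, hqz⟩ := h.q1.exq
  obtain ⟨r, hr, ha⟩ := h.q1.ex q hq hq1 hqz
  have key : ∀ u ∈ Q₁, u ≠ 1 → u ≠ z → γ u ≠ u := by
    intro u hu hu1 huz hfu
    have h3 := (hfix u (h.le1 hu)).mp hfu
    have h4 : u ∈ Q₂ := by rw [← h3]; exact hσ.1 u hu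
    rcases h.inf u hu h4 with h5 | h5
    · exact hu1 h5
    · exact huz h5
  obtain ⟨-, -, hr1, hrz⟩ := h.q1.ne_of_anti ha
  have hγq : γ q = q * z := (h1 q hq).resolve_left (key q hq hq1 hqz)
  have hγr : γ r = r * z := (h1 r hr).resolve_left (key r hr hr1 hrz)
  have hqr : γ (q * r) = q * r := by
    rw [map_mul, hγq, hγr]
    have h3 := h.q1.zc r hr
    calc q * z * (r * z) = q * (z * r) * z := by group
      _ = q * r * (z * z) := by rw [← h3]; group
      _ = q * r := by rw [h.q1.z2, mul_one]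
  have hqrQ : q * r ∈ Q₁ := Q₁.mul_mem hq hr
  have h3 := (hfix _ (h.le1 hqrQ)).mp hqr
  have h4 : q * r ∈ Q₂ := by rw [← h3]; exact hσ.1 _ hqrQ
  have hno : ∀ x y : K, x * y = y * x → x * y = y * x * z → False := by
    intro x y h5 h6
    rw [h5] at h6
    exact h.q1.ne_mul_z _ h6
  rcases h.inf _ hqrQ h4 with h5 | h5
  · have h6 : r = q⁻¹ := eq_inv_of_mul_eq_one_right h5
    exact hno r q (by rw [h6]; group) ha
  · have h6 : r = q⁻¹ * z := by rw [← h5]; group
    refine hno r q ?_ ha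
    have h7 := h.q1.zc q hq
    rw [h6]
    calc q⁻¹ * z * q = q⁻¹ * (z * q) := by group
      _ = q⁻¹ * (q * z) := by rw [h7]
      _ = z := by group
      _ = q * (q⁻¹ * z) := by group

/-- **constant fixed points on `Q₈ * Q₈`** -/
theorem fix (h : IsQQ z Q₁ Q₂ R) {α β : MulAut K} (hα : ∀ q ∈ R, α q ∈ R) (hβ : ∀ q ∈ R, β q ∈ R)
    (hα2 : ∀ q, α (α q) = q) (hβ2 : ∀ q, β (β q) = q) (hc : ∀ q, α (β q) = β (α q))
    (hαz : α z = z) (hβz : β z = z) (h1 : ∀ q ∈ R, α q = q ↔ β q = q)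
    (h2 : ∀ q ∈ R, α q = q ↔ α (β q) = q) : ∀ q ∈ R, α q = q := by
  have hαβ2 : ∀ q, (α * β) ((α * β) q) = q := by
    intro q
    show α (β (α (β q))) = q
    rw [← hc, hα2, hβ2]
  rcases h.pres_or_swap hα hαz with ha | ha <;> rcases h.pres_or_swap hβ hβz with hb | hb
  · -- both preserve
    have k1 := h.q1.fix ha.1 hb.1 (fun q _ => hα2 q) (fun q _ => hβ2 q) (fun q _ => hc q) hαz hβz
      (fun q hq => h1 q (h.le1 hq)) (fun q hq => h2 q (h.le1 hq))
    have k2 := h.q2.fix ha.2 hb.2 (fun q _ => hα2 q) (fun q _ => hβ2 q) (fun q _ => hc q) hαz hβz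
      (fun q hq => h1 q (h.le2 hq)) (fun q hq => h2 q (h.le2 hq))
    intro r hr
    obtain ⟨x, hx, y, hy, rfl⟩ := h.mem r hr
    rw [map_mul, k1 x hx, k2 y hy]
  · exact (h.false_of_swap ha hb hβ2 h1).elim
  · exact (h.false_of_swap hb ha hα2 (fun r hr => (h1 r hr).symm)).elim
  · -- both swap: the product preserves
    exact (h.false_of_swap (γ := α * β) (σ := α)
      ⟨fun x hx => ha.2 _ (hb.1 x hx), fun y hy => ha.1 _ (hb.2 y hy)⟩ ha hα2
      (fun r hr => (h2 r hr).symm)).elim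

/-- **the noncentral involution, `Q₈ * Q₈`** -/
theorem false_of_w (h : IsQQ z Q₁ Q₂ R)
    (hn : ∀ p, p * z = z * p → ∀ r ∈ R, p * r * p⁻¹ ∈ R)
    (hself : ∀ p, p * z = z * p → (∀ r ∈ R, p * r = r * p) → p = 1 ∨ p = z)
    {d : K} (hdz : d * z = z * d) (hd3 : d * d * d = 1) (hd2 : ∀ y ∈ Q₂, d * y = y * d)
    (hd1 : ∀ x ∈ Q₁, x ≠ 1 → x ≠ z → d * x * d⁻¹ ≠ x ∧ d * x * d⁻¹ ≠ x * z)
    {w : K} (hw : w ∈ R) (hw2 : w * w = 1) (hw1 : w ≠ 1) (hwz : w ≠ z) {β : MulAut K}
    (hβR : ∀ r ∈ R, β r ∈ R) (hβ2 : ∀ q, β (β q) = q) (hβz : β z = z) (hβw : β w = w)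
    (hβc : ∀ r ∈ R, r * w = w * r → β r = r ∨ β r = r * w)
    (hP : ∀ p, p * z = z * p → β p = p → p * w = w * p)
    (hP' : ∀ p, p * z = z * p → w * β p * w⁻¹ = p → p * w = w * p) : False := by
  obtain ⟨x₀, hx₀, y₀, hy₀, hw0⟩ := h.mem w hw
  have hcom0 := h.com x₀ hx₀ y₀ hy₀
  have hx₀ne : x₀ ≠ 1 ∧ x₀ ≠ z := by
    have key : w ∈ Q₂ → False := by
      intro h3
      have h4 := h.q2.sq w h3 hw1 hwz
      rw [hw2] at h4
      exact h.q1.z1 h4.symm
    constructor
    · rintro rfl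
      rw [one_mul] at hw0
      exact key (hw0 ▸ hy₀)
    · rintro rfl
      exact key (hw0 ▸ Q₂.mul_mem h.q2.zQ hy₀)
  have hy₀ne : y₀ ≠ 1 ∧ y₀ ≠ z := by
    have key : w ∈ Q₁ → False := by
      intro h3
      have h4 := h.q1.sq w h3 hw1 hwz
      rw [hw2] at h4
      exact h.q1.z1 h4.symm
    constructor
    · rintro rfl
      rw [mul_one] at hw0
      exact key (hw0 ▸ hx₀)
    · rintro rfl
      exact key (hw0 ▸ Q₁.mul_mem hx₀ h.q1.zQ)
  have hno : ∀ x y : K, x * y = y * x → x * y = y * x * z → False := by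
    intro x y h5 h6
    rw [h5] at h6
    exact h.q1.ne_mul_z _ h6
  have hxw : x₀ * w = w * x₀ := by rw [hw0, mul_assoc, ← hcom0]
  rcases h.pres_or_swap hβR hβz with hb | hb
  · -- `β` preserves `Q₁`
    have hβx₀ : β x₀ = x₀ := by
      rcases hβc x₀ (h.le1 hx₀) hxw with h3 | h3
      · exact h3
      · exfalso
        have h4 : w ∈ Q₁ := by
          have h5 : w = x₀⁻¹ * β x₀ := by rw [h3]; group
          rw [h5]
          exact Q₁.mul_mem (Q₁.inv_mem hx₀) (hb.1 x₀ hx₀)
        have h5 := h.q1.sq w h4 hw1 hwz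
        rw [hw2] at h5
        exact h.q1.z1 h5.symm
    obtain ⟨q, hq, ha⟩ := h.q1.ex x₀ hx₀ hx₀ne.1 hx₀ne.2
    have hqy := h.com q hq y₀ hy₀
    have hzy : z * y₀ = y₀ * z := (h.q2.zc y₀ hy₀).symm
    have hanti : q * w = w * q * z := by
      rw [hw0]
      calc q * (x₀ * y₀) = (q * x₀) * y₀ := by group
        _ = x₀ * q * (z * y₀) := by rw [ha]; group
        _ = x₀ * (q * y₀) * z := by rw [hzy]; group
        _ = x₀ * y₀ * q * z := by rw [hqy]; group
    have hqz := h.q1.zc q hq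
    rcases h.q1.anti_cases hb.1 (fun q _ => hβ2 q) hβz hx₀ hq ha hβx₀ with h3 | h3
    · exact hno _ _ (hP q hqz h3) hanti
    · refine hno _ _ (hP' q hqz ?_) hanti
      rw [h3]
      have hwzc : z * w⁻¹ = w⁻¹ * z := by
        have h4 : w * z = z * w := by
          have h5 := h.q1.zc x₀ hx₀
          calc w * z = x₀ * (z * y₀) := by rw [hw0, mul_assoc, hzy]
            _ = (x₀ * z) * y₀ := by group
            _ = z * w := by rw [h5, hw0]; group
        calc z * w⁻¹ = w⁻¹ * (w * z) * w⁻¹ := by group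
          _ = w⁻¹ * (z * w) * w⁻¹ := by rw [h4]
          _ = w⁻¹ * z := by group
      calc w * (q * z) * w⁻¹ = w * q * (z * w⁻¹) := by group
        _ = w * q * w⁻¹ * z := by rw [hwzc]; group
        _ = (w * q * z) * z * w⁻¹ * z := by
            rw [h.q1.mul_z_z]
        _ = q * w * (z * w⁻¹) * z := by rw [← hanti]; group
        _ = q * (z * z) := by rw [hwzc]; group
        _ = q := by rw [h.q1.z2, mul_one]
  · -- `β` swaps: use `d`
    have hconj : ∀ p, p * z = z * p → ∀ r ∈ R, MulAut.conj p r ∈ R := fun p hp r hr => hn p hp r hr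
    set e := β d with he
    have hez : e * z = z * e := by
      have h3 := congrArg β hdz
      rwa [map_mul, map_mul, hβz] at h3
    have he1 : ∀ x ∈ Q₁, e * x = x * e := by
      intro x hx
      have h3 := hd2 (β x) (hb.1 x hx)
      have h4 := congrArg β h3
      rwa [map_mul, map_mul, hβ2] at h4
    have he3 : e * e * e = 1 := by
      have h3 := congrArg β hd3
      rwa [map_mul, map_mul, map_one] at h3
    have conj_z : ∀ p, p * z = z * p → MulAut.conj p z = z := by
      intro p hp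
      show p * z * p⁻¹ = z
      rw [hp]; group
    -- `d` preserves `Q₁` and `e` preserves `Q₂`
    have hdp : (∀ x ∈ Q₁, MulAut.conj d x ∈ Q₁) := by
      refine (h.symm.pres_of (hconj d hdz) (conj_z d hdz) hy₀ hy₀ne.1 hy₀ne.2 ?_).2
      show d * y₀ * d⁻¹ ∈ Q₂
      rw [hd2 y₀ hy₀]
      have : y₀ * d * d⁻¹ = y₀ := by group
      rw [this]
      exact hy₀
    have hep : (∀ y ∈ Q₂, MulAut.conj e y ∈ Q₂) := by
      refine (h.pres_of (hconj e hez) (conj_z e hez) hx₀ hx₀ne.1 hx₀ne.2 ?_).2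
      show e * x₀ * e⁻¹ ∈ Q₁
      rw [he1 x₀ hx₀]
      have : x₀ * e * e⁻¹ = x₀ := by group
      rw [this]
      exact hx₀
    -- `[d, e] = 1`
    have inv_z : ∀ p, p * z = z * p → p⁻¹ * z = z * p⁻¹ := by
      intro p hp
      calc p⁻¹ * z = p⁻¹ * (z * p) * p⁻¹ := by group
        _ = p⁻¹ * (p * z) * p⁻¹ := by rw [hp]
        _ = z * p⁻¹ := by group
    have hde : d * e = e * d := by
      have hcz : (d * e * d⁻¹ * e⁻¹) * z = z * (d * e * d⁻¹ * e⁻¹) := by
        calc (d * e * d⁻¹ * e⁻¹) * z = d * e * d⁻¹ * (e⁻¹ * z) := by group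
          _ = d * e * (d⁻¹ * z) * e⁻¹ := by rw [inv_z e hez]; group
          _ = d * (e * z) * d⁻¹ * e⁻¹ := by rw [inv_z d hdz]; group
          _ = (d * z) * e * d⁻¹ * e⁻¹ := by rw [hez]; group
          _ = z * (d * e * d⁻¹ * e⁻¹) := by rw [hdz]; group
      have inv_c : ∀ p x : K, p * x = x * p → p⁻¹ * x = x * p⁻¹ := by
        intro p x hp
        calc p⁻¹ * x = p⁻¹ * (x * p) * p⁻¹ := by group
          _ = p⁻¹ * (p * x) * p⁻¹ := by rw [hp]
          _ = x * p⁻¹ := by group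
      have hcx : ∀ x ∈ Q₁, (d * e * d⁻¹ * e⁻¹) * x = x * (d * e * d⁻¹ * e⁻¹) := by
        intro x hx
        have h3 : e * (d⁻¹ * x * d) = (d⁻¹ * x * d) * e := by
          refine he1 _ ?_
          have h4 : (∀ x ∈ Q₁, MulAut.conj d⁻¹ x ∈ Q₁) := by
            refine (h.symm.pres_of (hconj d⁻¹ (inv_z d hdz)) (conj_z _ (inv_z d hdz)) hy₀ hy₀ne.1 hy₀ne.2 ?_).2
            show d⁻¹ * y₀ * d⁻¹⁻¹ ∈ Q₂
            rw [inv_c d y₀ (hd2 y₀ hy₀)]
            have : y₀ * d⁻¹ * d⁻¹⁻¹ = y₀ := by group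
            rw [this]
            exact hy₀
          have h5 := h4 x hx
          have h6 : MulAut.conj d⁻¹ x = d⁻¹ * x * d := by
            show d⁻¹ * x * d⁻¹⁻¹ = d⁻¹ * x * d
            rw [inv_inv]
          rwa [h6] at h5
        calc (d * e * d⁻¹ * e⁻¹) * x = d * e * d⁻¹ * (e⁻¹ * x) := by group
          _ = d * (e * (d⁻¹ * x * d)) * d⁻¹ * e⁻¹ := by rw [inv_c e x (he1 x hx)]; group
          _ = x * (d * e * d⁻¹ * e⁻¹) := by rw [h3]; group
      have hcy : ∀ y ∈ Q₂, (d * e * d⁻¹ * e⁻¹) * y = y * (d * e * d⁻¹ * e⁻¹) := by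
        intro y hy
        have h4 : e⁻¹ * y * e ∈ Q₂ := by
          have h4 : (∀ x ∈ Q₂, MulAut.conj e⁻¹ x ∈ Q₂) := by
            refine (h.pres_of (hconj e⁻¹ (inv_z e hez)) (conj_z _ (inv_z e hez)) hx₀ hx₀ne.1 hx₀ne.2 ?_).2
            show e⁻¹ * x₀ * e⁻¹⁻¹ ∈ Q₁
            rw [inv_c e x₀ (he1 x₀ hx₀)]
            have : x₀ * e⁻¹ * e⁻¹⁻¹ = x₀ := by group
            rw [this]
            exact hx₀
          have h5 := h4 y hy
          have h6 : MulAut.conj e⁻¹ y = e⁻¹ * y * e := by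
            show e⁻¹ * y * e⁻¹⁻¹ = e⁻¹ * y * e
            rw [inv_inv]
          rwa [h6] at h5
        have h5 := inv_c d _ (hd2 _ h4)
        have h6 := hd2 y hy
        calc (d * e * d⁻¹ * e⁻¹) * y = d * e * (d⁻¹ * (e⁻¹ * y * e)) * e⁻¹ := by group
          _ = d * y * e * d⁻¹ * e⁻¹ := by rw [h5]; group
          _ = y * (d * e * d⁻¹ * e⁻¹) := by rw [h6]; group
      have hc1 : (∀ r ∈ R, (d * e * d⁻¹ * e⁻¹) * r = r * (d * e * d⁻¹ * e⁻¹)) := by
        intro r hr
        obtain ⟨x, hx, y, hy, rfl⟩ := h.mem r hr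
        rw [← mul_assoc, hcx x hx, mul_assoc, hcy y hy, ← mul_assoc]
      rcases hself _ hcz hc1 with h3 | h3
      · calc d * e = (d * e * d⁻¹ * e⁻¹) * (e * d) := by group
          _ = e * d := by rw [h3, one_mul]
      · exfalso
        have h4 : d * e * d⁻¹ = z * e := by
          calc d * e * d⁻¹ = (d * e * d⁻¹ * e⁻¹) * e := by group
            _ = z * e := by rw [h3]
        have h5 : (z * e) * (z * e) * (z * e) = 1 := by
          rw [← h4]
          calc (d * e * d⁻¹) * (d * e * d⁻¹) * (d * e * d⁻¹) = d * (e * e * e) * d⁻¹ := by group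
            _ = 1 := by rw [he3]; group
        have h6 : (z * e) * (z * e) * (z * e) = z := by
          have hc : Commute z e := hez.symm
          have h7 := hc.mul_pow 3
          have h8 : z ^ 3 = z := by rw [pow_succ, pow_two, h.q1.z2, one_mul]
          have h9 : e ^ 3 = 1 := by rw [pow_succ, pow_two, he3]
          rw [h8, h9, mul_one, pow_succ, pow_two] at h7
          exact h7
        exact h.q1.z1 (h6.symm.trans h5)
    have hβde : β (d * e) = d * e := by
      rw [map_mul, he, hβ2, ← he, hde]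
    have hdez : (d * e) * z = z * (d * e) := by
      calc (d * e) * z = d * (e * z) := by group
        _ = (d * z) * e := by rw [hez]; group
        _ = z * (d * e) := by rw [hdz]; group
    have h3 := hP _ hdez hβde
    -- `d x₀ d⁻¹ ∈ {x₀, x₀ z}`
    have h4 : (d * x₀ * d⁻¹) * (e * y₀ * e⁻¹) = x₀ * y₀ := by
      have h5 := he1 x₀ hx₀
      have h6 := hd2 _ (hep y₀ hy₀)
      have h7 : MulAut.conj e y₀ = e * y₀ * e⁻¹ := rfl
      rw [h7] at h6
      have h8 : (d * e) * (x₀ * y₀) * (d * e)⁻¹ = (d * x₀ * d⁻¹) * (e * y₀ * e⁻¹) := by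
        calc (d * e) * (x₀ * y₀) * (d * e)⁻¹ = d * (e * x₀) * y₀ * e⁻¹ * d⁻¹ := by group
          _ = d * x₀ * ((e * y₀ * e⁻¹) * d⁻¹) := by rw [h5]; group
          _ = (d * x₀ * d⁻¹) * (d * (e * y₀ * e⁻¹)) * d⁻¹ := by group
          _ = (d * x₀ * d⁻¹) * (e * y₀ * e⁻¹) := by rw [h6]; group
      rw [← h8, ← hw0, h3]
      group
    have h5 : x₀⁻¹ * (d * x₀ * d⁻¹) = y₀ * (e * y₀ * e⁻¹)⁻¹ := by
      have h6 : d * x₀ * d⁻¹ = x₀ * y₀ * (e * y₀ * e⁻¹)⁻¹ := eq_mul_inv_of_mul_eq h4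
      rw [h6]; group
    have h6 : x₀⁻¹ * (d * x₀ * d⁻¹) ∈ Q₁ := Q₁.mul_mem (Q₁.inv_mem hx₀) (hdp x₀ hx₀)
    have h7 : x₀⁻¹ * (d * x₀ * d⁻¹) ∈ Q₂ := by
      rw [h5]
      exact Q₂.mul_mem hy₀ (Q₂.inv_mem (hep y₀ hy₀))
    have h8 := hd1 x₀ hx₀ hx₀ne.1 hx₀ne.2
    rcases h.inf _ h6 h7 with h9 | h9
    · exact h8.1 (inv_mul_eq_one.mp h9).symm
    · apply h8.2
      rw [← h9]; group

end IsQQ

/-! ### `Z₄ * Q₈` -/

/-- `R = Q ∪ Q c`, `c` central of order 4 with `c² = z`. -/
structure IsCQ (z c : K) (Q R : Subgroup K) : Prop where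
  q : IsQ z Q
  le : Q ≤ R
  cR : c ∈ R
  cc : c * c = z
  com : ∀ r ∈ R, r * c = c * r
  mem : ∀ r ∈ R, r ∈ Q ∨ r * c ∈ Q

namespace IsCQ

variable {z c : K} {Q R : Subgroup K}

theorem c_ne (h : IsCQ z c Q R) : c ≠ 1 ∧ c ≠ z ∧ c ∉ Q := by
  have h1 : c ≠ 1 := by
    rintro rfl
    apply h.q.z1
    rw [← h.cc, mul_one]
  have h2 : c ≠ z := by
    intro h3
    apply h.q.z1
    rw [← h.cc, h3, h.q.z2]
  refine ⟨h1, h2, ?_⟩
  intro h3
  obtain ⟨r, hr, ha⟩ := h.q.ex c h3 h1 h2
  rw [h.com r (h.le hr)] at ha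
  exact h.q.ne_mul_z _ ha

/-- `α c ∈ {c, c z}` and `α Q ≤ Q`. -/
theorem aut (h : IsCQ z c Q R) {α : MulAut K} (hR : ∀ r ∈ R, α r ∈ R) (hR' : ∀ r ∈ R, ∃ s ∈ R, α s = r)
    (hz : α z = z) : (α c = c ∨ α c = c * z) ∧ ∀ q ∈ Q, α q ∈ Q := by
  obtain ⟨c1, cz, cQ⟩ := h.c_ne
  have hcc : ∀ x : K, x * c * c = x * z := fun x => by rw [mul_assoc, h.cc]
  -- central elements of `R`
  have hcen : ∀ x ∈ R, (∀ r ∈ R, x * r = r * x) → x = 1 ∨ x = z ∨ x = c ∨ x = c * z := by
    intro x hx hxc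
    have key : ∀ y ∈ Q, (∀ r ∈ R, y * r = r * y) → y = 1 ∨ y = z := by
      intro y hy hyc
      by_contra hcon
      push Not at hcon
      obtain ⟨r, hr, ha⟩ := h.q.ex y hy hcon.1 hcon.2
      rw [← hyc r (h.le hr)] at ha
      exact h.q.ne_mul_z _ ha
    rcases h.mem x hx with h1 | h1
    · rcases key x h1 hxc with h2 | h2
      · exact Or.inl h2
      · exact Or.inr (Or.inl h2)
    · have h2 : ∀ r ∈ R, x * c * r = r * (x * c) := by
        intro r hr
        calc x * c * r = x * (c * r) := by group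
          _ = x * r * c := by rw [← h.com r hr]; group
          _ = r * (x * c) := by rw [hxc r hr]; group
      rcases key _ h1 h2 with h3 | h3
      · right; right; right
        have h4 : x = c⁻¹ := eq_inv_of_mul_eq_one_left h3
        rw [h4, inv_eq_iff_mul_eq_one, ← mul_assoc, h.cc, h.q.z2]
      · right; right; left
        have h4 : x = z * c⁻¹ := by rw [← h3]; group
        rw [h4, ← h.cc]; group
  have hαc : α c = c ∨ α c = c * z := by
    have h1 : ∀ r ∈ R, α c * r = r * α c := by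
      intro r hr
      obtain ⟨s, hs, rfl⟩ := hR' r hr
      rw [← map_mul, ← map_mul, h.com s hs]
    rcases hcen _ (hR c h.cR) h1 with h2 | h2 | h2 | h2
    · exact absurd (α.injective (h2.trans (map_one α).symm)) c1
    · exact absurd (α.injective (h2.trans hz.symm)) cz
    · exact Or.inl h2
    · exact Or.inr h2
  refine ⟨hαc, ?_⟩
  intro x hx
  by_cases hx1 : x = 1
  · rw [hx1, map_one]; exact Q.one_mem
  by_cases hxz : x = z
  · rw [hxz, hz]; exact h.q.zQ
  have hsq : α x * α x = z := by rw [← map_mul, h.q.sq x hx hx1 hxz, hz]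
  rcases h.mem _ (hR x (h.le hx)) with h1 | h1
  · exact h1
  · exfalso
    -- `(α x c)² = 1`, so `α x c ∈ {1, z}`
    have h2 : (α x * c) * (α x * c) = 1 := by
      have h3 := h.com _ (hR x (h.le hx))
      calc (α x * c) * (α x * c) = α x * (c * α x) * c := by group
        _ = α x * (α x * c) * c := by rw [← h3]
        _ = (α x * α x) * (c * c) := by group
        _ = 1 := by rw [hsq, h.cc, h.q.z2]
    have h3 : α x * c = 1 ∨ α x * c = z := by
      by_contra hcon
      push Not at hcon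
      have h4 := h.q.sq _ h1 hcon.1 hcon.2
      rw [h2] at h4
      exact h.q.z1 h4.symm
    -- so `α x` is central, `x` is central
    have h4 : ∀ r ∈ R, α x * r = r * α x := by
      intro r hr
      have h5 := h.com r hr
      have h6 : r * z = z * r := by
        have hcm : Commute r c := h5
        have h7 := (hcm.mul_right hcm).eq
        rwa [h.cc] at h7
      have h7 : α x = c⁻¹ ∨ α x = z * c⁻¹ := by
        rcases h3 with h3 | h3
        · left; exact eq_inv_of_mul_eq_one_left h3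
        · right; rw [← h3]; group
      have h8 : c⁻¹ * r = r * c⁻¹ := by
        calc c⁻¹ * r = c⁻¹ * (r * c) * c⁻¹ := by group
          _ = c⁻¹ * (c * r) * c⁻¹ := by rw [h5]
          _ = r * c⁻¹ := by group
      rcases h7 with h7 | h7
      · rw [h7, h8]
      · rw [h7]
        calc z * c⁻¹ * r = z * (c⁻¹ * r) := by group
          _ = (z * r) * c⁻¹ := by rw [h8]; group
          _ = r * (z * c⁻¹) := by rw [← h6]; group
    obtain ⟨r, hr, ha⟩ := h.q.ex x hx hx1 hxz
    have h5 := h4 (α r) (hR r (h.le hr))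
    rw [← map_mul, ← map_mul] at h5
    rw [α.injective h5] at ha
    exact h.q.ne_mul_z _ ha

/-- **constant fixed points on `Z₄ * Q₈`** -/
theorem fix (h : IsCQ z c Q R) {α β : MulAut K} (hα : ∀ q ∈ R, α q ∈ R) (hβ : ∀ q ∈ R, β q ∈ R)
    (hα2 : ∀ q, α (α q) = q) (hβ2 : ∀ q, β (β q) = q) (hc : ∀ q, α (β q) = β (α q))
    (hαz : α z = z) (hβz : β z = z) (h1 : ∀ q ∈ R, α q = q ↔ β q = q)
    (h2 : ∀ q ∈ R, α q = q ↔ α (β q) = q) : ∀ q ∈ R, α q = q := by
  have ha := h.aut hα (fun r hr => ⟨α r, hα r hr, hα2 r⟩) hαz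
  have hb := h.aut hβ (fun r hr => ⟨β r, hβ r hr, hβ2 r⟩) hβz
  have hαc : α c = c := by
    rcases ha.1 with h3 | h3
    · exact h3
    · rcases hb.1 with h4 | h4
      · exact (h1 c h.cR).mpr h4
      · refine (h2 c h.cR).mpr ?_
        rw [h4, map_mul, h3, hαz, h.q.mul_z_z]
  have hQ := h.q.fix ha.2 hb.2 (fun q _ => hα2 q) (fun q _ => hβ2 q) (fun q _ => hc q) hαz hβz
    (fun q hq => h1 q (h.le hq)) (fun q hq => h2 q (h.le hq))
  intro r hr
  rcases h.mem r hr with h3 | h3
  · exact hQ r h3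
  · have h4 := hQ _ h3
    rw [map_mul, hαc] at h4
    exact mul_right_cancel h4

/-- **the noncentral involution, `Z₄ * Q₈`** -/
theorem false_of_w (h : IsCQ z c Q R)
    {w : K} (hw : w ∈ R) (hw2 : w * w = 1) (hw1 : w ≠ 1) (hwz : w ≠ z) {β : MulAut K}
    (hβR : ∀ r ∈ R, β r ∈ R) (hβ2 : ∀ q, β (β q) = q) (hβz : β z = z) (hβw : β w = w)
    (hβc : ∀ r ∈ R, r * w = w * r → β r = r ∨ β r = r * w)
    (hP : ∀ p, p * z = z * p → β p = p → p * w = w * p)
    (hP' : ∀ p, p * z = z * p → w * β p * w⁻¹ = p → p * w = w * p) : False := by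
  have hb := h.aut hβR (fun r hr => ⟨β r, hβR r hr, hβ2 r⟩) hβz
  have hwQ : w ∉ Q := by
    intro h3
    have h4 := h.q.sq w h3 hw1 hwz
    rw [hw2] at h4
    exact h.q.z1 h4.symm
  have hx₀ : w * c ∈ Q := (h.mem w hw).resolve_left hwQ
  have hwc := h.com w hw
  have hcz : c * z = z * c := by rw [← h.cc]; group
  have hβc' : β c = c := by
    rcases hβc c h.cR hwc.symm with h3 | h3
    · exact h3
    · exfalso
      rcases hb.1 with h4 | h4
      · rw [h4] at h3
        apply hw1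
        calc w = c⁻¹ * (c * w) := by group
          _ = 1 := by rw [← h3]; group
      · rw [h4] at h3
        exact hwz (mul_left_cancel h3).symm
  obtain ⟨x₀, hx₀'⟩ : ∃ x, x = w * c := ⟨_, rfl⟩
  rw [← hx₀'] at hx₀
  have hβx₀ : β x₀ = x₀ := by rw [hx₀', map_mul, hβw, hβc']
  have hwcm : Commute w c := hwc
  have hxsq : x₀ * x₀ = z := by
    have h5 := hwcm.mul_pow 2
    rw [pow_two, pow_two, pow_two, hw2, h.cc, one_mul] at h5
    rw [hx₀']
    exact h5
  have hx₀ne : x₀ ≠ 1 ∧ x₀ ≠ z := by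
    constructor
    · intro h3
      have h4 : x₀ * x₀ = 1 := by rw [h3, mul_one]
      exact h.q.z1 (hxsq.symm.trans h4)
    · intro h3
      have h4 : x₀ * x₀ = 1 := by rw [h3, h.q.z2]
      exact h.q.z1 (hxsq.symm.trans h4)
  have hno : ∀ x y : K, x * y = y * x → x * y = y * x * z → False := by
    intro x y h5 h6
    rw [h5] at h6
    exact h.q.ne_mul_z _ h6
  obtain ⟨q, hq, ha⟩ := h.q.ex x₀ hx₀ hx₀ne.1 hx₀ne.2
  have hqc := h.com q (h.le hq)
  have hqz := h.q.zc q hq
  have hanti : q * w = w * q * z := by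
    have h3 : w = x₀ * c⁻¹ := by rw [hx₀']; group
    have hc' : c⁻¹ * q = q * c⁻¹ := by
      calc c⁻¹ * q = c⁻¹ * (q * c) * c⁻¹ := by group
        _ = c⁻¹ * (c * q) * c⁻¹ := by rw [hqc]
        _ = q * c⁻¹ := by group
    have hcz' : c⁻¹ * z = z * c⁻¹ := by
      calc c⁻¹ * z = c⁻¹ * (z * c) * c⁻¹ := by group
        _ = c⁻¹ * (c * z) * c⁻¹ := by rw [hcz]
        _ = z * c⁻¹ := by group
    calc q * w = (q * x₀) * c⁻¹ := by rw [h3]; group
      _ = x₀ * q * (z * c⁻¹) := by rw [ha]; group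
      _ = x₀ * (q * c⁻¹) * z := by rw [← hcz']; group
      _ = x₀ * c⁻¹ * q * z := by rw [← hc']; group
      _ = w * q * z := by rw [← h3]
  rcases h.q.anti_cases hb.2 (fun q _ => hβ2 q) hβz hx₀ hq ha hβx₀ with h3 | h3
  · exact hno _ _ (hP q hqz h3) hanti
  · refine hno _ _ (hP' q hqz ?_) hanti
    rw [h3]
    have hwzc : z * w⁻¹ = w⁻¹ * z := by
      have h4 : w * z = z * w := by
        have h7 := (hwcm.mul_right hwcm).eq
        rwa [h.cc] at h7
      calc z * w⁻¹ = w⁻¹ * (w * z) * w⁻¹ := by group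
        _ = w⁻¹ * (z * w) * w⁻¹ := by rw [h4]
        _ = w⁻¹ * z := by group
    calc w * (q * z) * w⁻¹ = w * q * (z * w⁻¹) := by group
      _ = w * q * w⁻¹ * z := by rw [hwzc]; group
      _ = (w * q * z) * z * w⁻¹ * z := by
          rw [h.q.mul_z_z]
      _ = q * w * (z * w⁻¹) * z := by rw [← hanti]; group
      _ = q * (z * z) := by rw [hwzc]; group
      _ = q := by rw [h.q.z2, mul_one]

end IsCQ

end Cfsg.Agent.OddHalf.D4.Small

end

-- merged: Cfsg.Agent.OddHalf.D4.Small.Sheet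
section

/-!
# ODD, D4, small Lie odd: the K-facts (group level) and the row theorem

* `Sheet K S R z`: `S` a Sylow 2-subgroup of `K`, `z` the involution of `Z(S)`, `R = O₂(C_K(z))`, with
  constructors `Sheet.of_Q` (`Q₈`), `Sheet.of_CQ` (`Z₄ * Q₈`), `Sheet.of_QQ` (`Q₈ * Q₈`);
* `FOneK K`: 2-elements of `Aut K` centralizing a Sylow 2-subgroup are inner by its center;
* `NoSEK K`: no strongly embedded subgroup;
* `Row K`: everything; `row_false`: the row of D4.
-/

set_option autoImplicit false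

namespace Cfsg.Agent.OddHalf.D4.Small

open Subgroup Cfsg Basic

universe u v

/-- The common part of a sheet. -/
structure Sheet0 (K : Type u) [Group K] (S R : Subgroup K) (z : K) : Prop where
  z2 : z * z = 1
  z1 : z ≠ 1
  zR : z ∈ R
  RS : R ≤ S
  zc : ∀ s ∈ S, s * z = z * s
  uniq : ∀ x ∈ S, x * x = 1 → x ≠ 1 → (∀ s ∈ S, s * x = x * s) → x = z
  Rn : ∀ p, p * z = z * p → ∀ r ∈ R, p * r * p⁻¹ ∈ R
  char : ∀ α : MulAut K, α z = z → ∀ r ∈ R, α r ∈ R

/-- The sheet of `K` at the Sylow 2-subgroup `S`. -/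
structure Sheet (K : Type u) [Group K] (S R : Subgroup K) (z : K) : Prop extends Sheet0 K S R z where
  self : ∀ p, p * z = z * p → (∀ r ∈ R, p * r = r * p) → p ∈ R
  cyc : ∀ x ∈ R, (∀ r ∈ R, x * r = r * x) → x * x = 1 → x = 1 ∨ x = z
  sq : ∀ x ∈ R, x * x = 1 ∨ x * x = z
  comm : ∀ x ∈ R, ∀ y ∈ R, x * y = y * x ∨ x * y = y * x * z
  dc : ∀ x ∈ R, ∀ y ∈ R, x * x = 1 → y * y = 1 → (∀ r ∈ R, r * x = x * r → r * y = y * r) →
    y = 1 ∨ y = z ∨ y = x ∨ y = x * z
  lr : ∀ α β : MulAut K, (∀ x, α (α x) = x) → (∀ x, β (β x) = x) → (∀ x, α (β x) = β (α x)) → α z = z →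
    β z = z → (∀ r ∈ R, α r = r ↔ β r = r) → (∀ r ∈ R, α r = r ↔ α (β r) = r) → ∀ r ∈ R, α r = r
  lw : ∀ w ∈ R, w * w = 1 → w ≠ 1 → w ≠ z → ∀ β : MulAut K, (∀ x, β (β x) = x) → β z = z → β w = w →
    (∀ r ∈ R, r * w = w * r → β r = r ∨ β r = r * w) → (∀ p, p * z = z * p → β p = p → p * w = w * p) →
    (∀ p, p * z = z * p → w * β p * w⁻¹ = p → p * w = w * p) → False

def HasSheet (K : Type u) [Group K] : Prop := ∀ S : Sylow 2 K, ∃ (z : K) (R : Subgroup K), Sheet K S R z

def FOneK (K : Type u) [Group K] : Prop :=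
  ∀ (S : Sylow 2 K) (α : MulAut K), (∃ n : ℕ, α ^ 2 ^ n = 1) → (∀ s ∈ (S : Subgroup K), α s = s) →
    ∃ k ∈ (S : Subgroup K), (∀ s ∈ (S : Subgroup K), s * k = k * s) ∧ ∀ x, α x = k * x * k⁻¹

def NoSEK (K : Type u) [Group K] : Prop :=
  ∀ D : Subgroup K, D ≠ ⊤ → ∀ T : Sylow 2 K, (T : Subgroup K) ≤ D →
    (∀ s ∈ (T : Subgroup K), s * s = 1 → s ≠ 1 → ∀ x, x * s = s * x → x ∈ D) → False

/-! ### Conjugation automorphisms -/

section Conj

variable {G : Type u} [Group G] {K : Subgroup G}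

/-- conjugation by an element of `N(K)` -/
def cAut {a : G} (ha : a ∈ normalizer (K : Set G)) : MulAut ↥K where
  toFun x := ⟨a * x * a⁻¹, (mem_normalizer_iff.mp ha x).mp x.2⟩
  invFun x := ⟨a⁻¹ * x * a, (mem_normalizer_iff''.mp ha x).mp x.2⟩
  left_inv x := Subtype.ext (by show a⁻¹ * (a * (x : G) * a⁻¹) * a = x; group)
  right_inv x := Subtype.ext (by show a * (a⁻¹ * (x : G) * a) * a⁻¹ = x; group)
  map_mul' x y := Subtype.ext (by
    show a * ((x : G) * y) * a⁻¹ = a * x * a⁻¹ * (a * y * a⁻¹)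
    group)

theorem cAut_coe {a : G} (ha : a ∈ normalizer (K : Set G)) (x : ↥K) : ((cAut ha x : ↥K) : G) = a * x * a⁻¹ :=
  rfl

theorem cAut_eq_iff {a : G} (ha : a ∈ normalizer (K : Set G)) (x : ↥K) : cAut ha x = x ↔ a * x = x * a := by
  rw [Subtype.ext_iff, cAut_coe]
  exact mul_inv_eq_iff_eq_mul

theorem cAut_mul {a b : G} (ha : a ∈ normalizer (K : Set G)) (hb : b ∈ normalizer (K : Set G)) (x : ↥K) :
    cAut ha (cAut hb x) = cAut (mul_mem ha hb) x := by
  apply Subtype.ext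
  rw [cAut_coe, cAut_coe, cAut_coe]
  group

theorem cAut_congr {a b : G} (h : a = b) (ha : a ∈ normalizer (K : Set G)) (hb : b ∈ normalizer (K : Set G))
    (x : ↥K) : cAut ha x = cAut hb x := by subst h; rfl

theorem cAut_one' {a : G} (h : a = 1) (ha : a ∈ normalizer (K : Set G)) (x : ↥K) : cAut ha x = x := by
  subst h
  apply Subtype.ext
  rw [cAut_coe]
  group

theorem cAut_sq {a : G} (ha : a ∈ normalizer (K : Set G)) (h2 : a * a = 1) (x : ↥K) :
    cAut ha (cAut ha x) = x := by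
  rw [cAut_mul]
  exact cAut_one' h2 _ x

theorem cAut_pow {a : G} (ha : a ∈ normalizer (K : Set G)) (n : ℕ) (x : ↥K) :
    ((((cAut ha) ^ n : MulAut ↥K) x : ↥K) : G) = a ^ n * x * (a ^ n)⁻¹ := by
  induction n with
  | zero => simp
  | succ n ih =>
    have h1 : ((cAut ha) ^ (n + 1) : MulAut ↥K) x = cAut ha (((cAut ha) ^ n : MulAut ↥K) x) := by
      rw [pow_succ']
      rfl
    rw [h1, cAut_coe, ih, pow_succ']
    group

end Conj

/-! ### From the group level to subgroups -/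

section ToG

variable {G : Type u} [Group G] {K : Subgroup G}

theorem Sheet.toLocG {S R : Subgroup ↥K} {z : ↥K} (h : Sheet ↥K S R z) : LocG K (R.map K.subtype) (z : G) := by
  have val : ∀ {x y : ↥K}, (x : G) = y → x = y := fun h => Subtype.ext h
  have hmem : ∀ x : ↥K, (x : G) ∈ R.map K.subtype → x ∈ R := by
    rintro x ⟨y, hy, hyx⟩
    have : y = x := val hyx
    rwa [← this]
  have comv : ∀ {x y : ↥K}, (x : G) * y = y * x → x * y = y * x := fun h => val h
  have vcom : ∀ {x y : ↥K}, x * y = y * x → (x : G) * y = y * x := fun h => congrArg Subtype.val h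
  refine
    { zK := z.2, z2 := congrArg Subtype.val h.z2, z1 := fun h1 => h.z1 (val h1), zR := ⟨z, h.zR, rfl⟩
      RK := map_subtype_le R, Rz := ?_, Rn := ?_, self := ?_, cyc := ?_, sq := ?_, comm := ?_, dc := ?_
      lr := ?_, lw := ?_ }
  · rintro _ ⟨r, hr, rfl⟩
    exact vcom (h.zc r (h.RS hr))
  · rintro p hp hpz _ ⟨r, hr, rfl⟩
    have h1 : cAut hp z = z := (cAut_eq_iff hp z).mpr hpz
    exact ⟨cAut hp r, h.char _ h1 r hr, rfl⟩
  · intro p hp hpz hpr
    refine ⟨⟨p, hp⟩, h.self ⟨p, hp⟩ (val hpz) (fun r hr => val (hpr r ⟨r, hr, rfl⟩)), rfl⟩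
  · rintro _ ⟨x, hx, rfl⟩ hxr hx2
    rcases h.cyc x hx (fun r hr => val (hxr r ⟨r, hr, rfl⟩)) (val hx2) with h1 | h1
    · left; rw [h1]; rfl
    · right; rw [h1]; rfl
  · rintro _ ⟨x, hx, rfl⟩
    rcases h.sq x hx with h1 | h1
    · left; exact congrArg Subtype.val h1
    · right; exact congrArg Subtype.val h1
  · rintro _ ⟨x, hx, rfl⟩ _ ⟨y, hy, rfl⟩
    rcases h.comm x hx y hy with h1 | h1
    · left; exact congrArg Subtype.val h1
    · right; exact congrArg Subtype.val h1
  · rintro _ ⟨x, hx, rfl⟩ _ ⟨y, hy, rfl⟩ hx2 hy2 hr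
    rcases h.dc x hx y hy (val hx2) (val hy2) (fun r hr' hrx => val (hr r ⟨r, hr', rfl⟩ (congrArg Subtype.val hrx)))
      with h1 | h1 | h1 | h1
    · left; rw [h1]; rfl
    · right; left; rw [h1]; rfl
    · right; right; left; rw [h1]
    · right; right; right; rw [h1]; rfl
  · intro a ha b hb ha2 hb2 hab haz hbz h1 h2
    have key := h.lr (cAut ha) (cAut hb) (cAut_sq ha ha2) (cAut_sq hb hb2)
      (fun x => by rw [cAut_mul, cAut_mul]; exact cAut_congr hab _ _ x)
      ((cAut_eq_iff ha z).mpr haz) ((cAut_eq_iff hb z).mpr hbz)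
      (fun r hr => by
        rw [cAut_eq_iff, cAut_eq_iff]
        exact h1 r ⟨r, hr, rfl⟩)
      (fun r hr => by
        rw [cAut_mul, cAut_eq_iff, cAut_eq_iff]
        exact h2 r ⟨r, hr, rfl⟩)
    rintro _ ⟨r, hr, rfl⟩
    exact (cAut_eq_iff ha r).mp (key r hr)
  · rintro _ ⟨w, hw, rfl⟩ hw2 hw1 hwz b hb hb2 hbz hbw h1 h2 h3
    have hwK : (w : G) ∈ normalizer (K : Set G) := le_normalizer w.2
    refine h.lw w hw (val hw2) (fun h4 => hw1 (by rw [h4]; rfl)) (fun h4 => hwz (by rw [h4]; rfl)) (cAut hb)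
      (cAut_sq hb hb2) ((cAut_eq_iff hb z).mpr hbz) ((cAut_eq_iff hb w).mpr hbw) ?_ ?_ ?_
    · intro r hr hrw
      rcases h1 r ⟨r, hr, rfl⟩ (congrArg Subtype.val hrw) with h4 | h4
      · left; exact val h4
      · right; exact val h4
    · intro p hpz hbp
      exact val (h2 p p.2 (congrArg Subtype.val hpz) ((cAut_eq_iff hb p).mp hbp))
    · intro p hpz hbp
      refine val (h3 p p.2 (congrArg Subtype.val hpz) ?_)
      have h4 : (w : G) * (b * p * b⁻¹) * (w : G)⁻¹ = p := congrArg Subtype.val hbp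
      show (w : G) * b * p = p * (w * b)
      calc (w : G) * b * p = ((w : G) * (b * p * b⁻¹) * (w : G)⁻¹) * (w * b) := by group
        _ = p * (w * b) := by rw [h4]

/-- For `S` Sylow in `N(K)`, `S ∩ K` is a Sylow 2-subgroup of `↥K`. -/
theorem exists_sylow_inf [Finite G] {S : Subgroup G} (hS : IsSyl S (normalizer (K : Set G))) :
    ∃ P : Sylow 2 ↥K, ∀ x : ↥K, x ∈ (P : Subgroup ↥K) ↔ (x : G) ∈ S := by
  obtain ⟨P, hP⟩ := (IsSyl.inf_K hS).toSylow
  refine ⟨P, ?_⟩
  intro x
  rw [hP, mem_subgroupOf]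
  exact ⟨fun h => h.1, fun h => ⟨h, x.2⟩⟩

theorem HasSheet.atS [Finite G] (h : HasSheet ↥K) {S : Subgroup G} (hS : IsSyl S (normalizer (K : Set G))) :
    ∃ (z : G) (R : Subgroup G), AtS K S R z := by
  obtain ⟨P, hP⟩ := exists_sylow_inf hS
  obtain ⟨z, R, hs⟩ := h P
  have hzP : z ∈ (P : Subgroup ↥K) := hs.RS hs.zR
  have hzS : (z : G) ∈ S := (hP z).mp hzP
  have huniq : ∀ x ∈ S, x ∈ K → x * x = 1 → x ≠ 1 → (∀ s ∈ S, s ∈ K → s * x = x * s) → x = (z : G) := by
    intro x hxS hxK hx2 hx1 hxc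
    have h1 := hs.uniq ⟨x, hxK⟩ ((hP _).mpr hxS) (Subtype.ext hx2) (fun h1 => hx1 (congrArg Subtype.val h1))
      (fun s hs' => Subtype.ext (hxc s ((hP s).mp hs') s.2))
    exact congrArg Subtype.val h1
  refine ⟨z, R.map K.subtype, hs.toLocG, hzS, ?_, huniq⟩
  intro s hs'
  have hsN := hS.le hs'
  have h1 : s * (z : G) * s⁻¹ = z := by
    refine huniq _ (S.mul_mem (S.mul_mem hs' hzS) (S.inv_mem hs')) ((mem_normalizer_iff.mp hsN _).mp z.2) ?_ ?_ ?_
    · have h2 : (z : G) * z = 1 := congrArg Subtype.val hs.z2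
      calc s * (z : G) * s⁻¹ * (s * z * s⁻¹) = s * ((z : G) * z) * s⁻¹ := by group
        _ = 1 := by rw [h2]; group
    · intro h2
      apply hs.z1
      apply Subtype.ext
      have h3 : (z : G) = s⁻¹ * (s * z * s⁻¹) * s := by group
      rw [h3, h2]
      group
      rfl
    · intro t ht htK
      have h2 : s⁻¹ * t * s ∈ S := S.mul_mem (S.mul_mem (S.inv_mem hs') ht) hs'
      have h3 : s⁻¹ * t * s ∈ K := (mem_normalizer_iff''.mp hsN t).mp htK
      have h4 : (⟨s⁻¹ * t * s, h3⟩ : ↥K) * z = z * ⟨s⁻¹ * t * s, h3⟩ := hs.zc _ ((hP _).mpr h2)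
      have h5 : s⁻¹ * t * s * (z : G) = z * (s⁻¹ * t * s) := congrArg Subtype.val h4
      calc t * (s * (z : G) * s⁻¹) = s * (s⁻¹ * t * s * z) * s⁻¹ := by group
        _ = s * (z * (s⁻¹ * t * s)) * s⁻¹ := by rw [h5]
        _ = s * z * s⁻¹ * t := by group
  calc s * (z : G) = (s * z * s⁻¹) * s := by group
    _ = z * s := by rw [h1]

theorem FOneK.toG [Finite G] (h : FOneK ↥K) : FOne K := by
  intro S hS y hy hyc
  obtain ⟨P, hP⟩ := exists_sylow_inf hS
  have hyN := hS.le hy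
  obtain ⟨n, hn⟩ := hS.two ⟨y, hy⟩
  have hn' : y ^ 2 ^ n = 1 := congrArg Subtype.val hn
  obtain ⟨k, hk, hkc, hkα⟩ := h P (cAut hyN) ⟨n, by
    ext x
    rw [cAut_pow, hn']
    simp⟩ (fun s hs => (cAut_eq_iff hyN s).mpr (hyc s ((hP s).mp hs) s.2).symm)
  refine ⟨y * (k : G)⁻¹, ?_, k, (hP k).mp hk, k.2, ?_, by group⟩
  · rw [mem_centralizer_iff]
    intro x hx
    have h1 : y * x * y⁻¹ = k * x * (k : G)⁻¹ := congrArg Subtype.val (hkα ⟨x, hx⟩)
    have h2 := hkα (⟨k⁻¹ * x * k, K.mul_mem (K.mul_mem (K.inv_mem k.2) hx) k.2⟩ : ↥K)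
    have h3 : y * ((k : G)⁻¹ * x * k) * y⁻¹ = k * ((k : G)⁻¹ * x * k) * (k : G)⁻¹ := congrArg Subtype.val h2
    calc x * (y * (k : G)⁻¹) = (k * ((k : G)⁻¹ * x * k) * (k : G)⁻¹) * (y * (k : G)⁻¹) := by group
      _ = (y * ((k : G)⁻¹ * x * k) * y⁻¹) * (y * (k : G)⁻¹) := by rw [h3]
      _ = y * (k : G)⁻¹ * x := by group
  · intro u hu huK
    exact congrArg Subtype.val (hkc ⟨u, huK⟩ ((hP _).mpr hu))

theorem NoSEK.toG [Finite G] (h : NoSEK ↥K) : NoSE K := by
  intro D hDK hne T hT hTD hc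
  obtain ⟨P, hP⟩ := hT.toSylow
  refine h (D.subgroupOf K) ?_ P ?_ ?_
  · intro h1
    apply hne
    apply le_antisymm hDK
    intro x hx
    have h2 : (⟨x, hx⟩ : ↥K) ∈ D.subgroupOf K := by rw [h1]; exact mem_top _
    exact mem_subgroupOf.mp h2
  · rw [hP]
    intro x hx
    rw [mem_subgroupOf] at hx ⊢
    exact hTD hx
  · intro s hs hs2 hs1 x hxs
    rw [hP, mem_subgroupOf] at hs
    rw [mem_subgroupOf]
    exact hc s hs (congrArg Subtype.val hs2) (fun h1 => hs1 (Subtype.ext h1)) x x.2 (congrArg Subtype.val hxs)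

end ToG

/-! ### Transport -/

section Transport

variable {K : Type u} [Group K] {L : Type v} [Group L]

theorem Sheet.map {S R : Subgroup K} {z : K} (h : Sheet K S R z) (e : K ≃* L) :
    Sheet L (S.comap e.symm.toMonoidHom) (R.comap e.symm.toMonoidHom) (e z) := by
  have hz : ∀ x : L, x * e z = e z * x ↔ e.symm x * z = z * e.symm x := by
    intro x
    constructor
    · intro hx
      have := congrArg e.symm hx
      simpa using this
    · intro hx
      have := congrArg e hx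
      simpa using this
  have toK : ∀ {x y : L}, e.symm x = e.symm y → x = y := fun hxy => e.symm.injective hxy
  have ofK : ∀ {x : L}, ∀ {y : K}, e.symm x = y → x = e y := fun hxy => by rw [← hxy]; simp
  have ofK1 : ∀ {x : L}, e.symm x = 1 → x = 1 := fun hxy => by rw [ofK hxy, map_one]
  have mR : ∀ {r : K}, r ∈ R → e r ∈ R.comap e.symm.toMonoidHom := fun hr => by
    show e.symm (e _) ∈ R
    simpa using hr
  have mS : ∀ {r : K}, r ∈ S → e r ∈ S.comap e.symm.toMonoidHom := fun hr => by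
    show e.symm (e _) ∈ S
    simpa using hr
  have hsymm : ∀ x y : L, x * y = y * x ↔ e.symm x * e.symm y = e.symm y * e.symm x := by
    intro x y
    rw [← map_mul, ← map_mul, e.symm.injective.eq_iff]
  have eqe : ∀ x : L, ∀ y : K, e.symm x = y ↔ x = e y := fun x y => by
    constructor
    · exact ofK
    · rintro rfl; simp
  -- the pulled back automorphism
  let pb : MulAut L → MulAut K := fun α => (e.trans α).trans e.symm
  have pb_apply : ∀ (α : MulAut L) (x : K), pb α x = e.symm (α (e x)) := fun _ _ => rfl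
  have pb_eq : ∀ (α : MulAut L) (x : L), pb α (e.symm x) = e.symm (α x) := fun α x => by
    rw [pb_apply]; simp
  have pbz : ∀ α : MulAut L, α (e z) = e z → pb α z = z := fun α hα => by
    rw [pb_apply, hα]; simp
  refine
    { z2 := ?_, z1 := ?_, zR := mR h.zR, RS := ?_, zc := ?_, uniq := ?_, Rn := ?_, char := ?_
      self := ?_, cyc := ?_, sq := ?_, comm := ?_, dc := ?_, lr := ?_, lw := ?_ }
  · rw [← map_mul, h.z2, map_one]
  · intro h1
    exact h.z1 (e.injective (by rw [h1, map_one]))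
  · intro x hx
    exact h.RS hx
  · intro s hs
    exact (hz s).mpr (h.zc _ hs)
  · intro x hx hx2 hx1 hxc
    apply ofK
    refine h.uniq _ hx ?_ ?_ ?_
    · rw [← map_mul, hx2, map_one]
    · intro h1; exact hx1 (ofK1 h1)
    · intro s hs
      have h1 := (hsymm _ _).mp (hxc (e s) (mS hs))
      simpa using h1
  · intro p hp r hr
    have h1 := h.Rn _ ((hz p).mp hp) _ hr
    show e.symm (p * r * p⁻¹) ∈ R
    simpa using h1
  · intro α hα r hr
    have h1 := h.char (pb α) (pbz α hα) _ hr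
    show e.symm (α r) ∈ R
    rwa [← pb_eq]
  · intro p hp hpr
    refine h.self _ ((hz p).mp hp) ?_
    intro r hr
    have h1 := (hsymm _ _).mp (hpr (e r) (mR hr))
    simpa using h1
  · intro x hx hxr hx2
    rcases h.cyc _ hx (fun r hr => by
      have h1 := (hsymm _ _).mp (hxr (e r) (mR hr))
      simpa using h1) (by rw [← map_mul, hx2, map_one]) with h1 | h1
    · left; exact ofK1 h1
    · right; exact ofK h1
  · intro x hx
    rcases h.sq _ hx with h1 | h1
    · left; rw [← map_mul] at h1; exact ofK1 h1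
    · right; rw [← map_mul] at h1; exact ofK h1
  · intro x hx y hy
    rcases h.comm _ hx _ hy with h1 | h1
    · left; exact (hsymm _ _).mpr h1
    · right
      rw [← map_mul, ← map_mul] at h1
      have h2 := ofK h1
      rw [h2]
      simp
  · intro x hx y hy hx2 hy2 hr
    rcases h.dc _ hx _ hy (by rw [← map_mul, hx2, map_one]) (by rw [← map_mul, hy2, map_one])
      (fun r hr' hrx => by
        have h1 := hr (e r) (mR hr') ((hsymm _ _).mpr (by simpa using hrx))
        have h2 := (hsymm _ _).mp h1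
        simpa using h2) with h1 | h1 | h1 | h1
    · left; exact ofK1 h1
    · right; left; exact ofK h1
    · right; right; left; exact toK h1
    · right; right; right
      have h2 := ofK h1
      rw [h2]
      simp
  · intro α β hα hβ hαβ hαz hβz h1 h2 r hr
    have key := h.lr (pb α) (pb β) (fun x => by rw [pb_apply α x, pb_eq, hα]; simp)
      (fun x => by rw [pb_apply β x, pb_eq, hβ]; simp)
      (fun x => by rw [pb_apply β x, pb_eq, hαβ, pb_apply α x, pb_eq]) (pbz α hαz) (pbz β hβz)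
      (fun r hr => by
        have h3 := h1 (e r) (mR hr)
        rw [pb_apply, pb_apply, eqe, eqe]
        exact h3)
      (fun r hr => by
        have h3 := h2 (e r) (mR hr)
        rw [pb_apply β r, pb_eq, pb_apply, eqe, eqe]
        exact h3)
      (e.symm r) hr
    rw [pb_eq] at key
    exact toK key
  · intro w hw hw2 hw1 hwz β hβ hβz hβw h1 h2 h3
    refine h.lw (e.symm w) hw (by rw [← map_mul, hw2, map_one]) (fun h4 => hw1 (ofK1 h4))
      (fun h4 => hwz (ofK h4)) (pb β) (fun x => by rw [pb_apply β x, pb_eq, hβ]; simp) (pbz β hβz)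
      (by rw [pb_eq, hβw]) ?_ ?_ ?_
    · intro r hr hrw
      have h4 : e r * w = w * e r := (hsymm _ _).mpr (by simpa using hrw)
      rcases h1 (e r) (mR hr) h4 with h5 | h5
      · left; rw [pb_apply, h5]; simp
      · right; rw [pb_apply, h5]; simp
    · intro p hp hβp
      have h4 : e p * e z = e z * e p := by rw [← map_mul, ← map_mul, hp]
      have h5 : β (e p) = e p := by rw [pb_apply, eqe] at hβp; exact hβp
      have h6 := (hsymm _ _).mp (h2 (e p) h4 h5)
      simpa using h6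
    · intro p hp hβp
      have h4 : e p * e z = e z * e p := by rw [← map_mul, ← map_mul, hp]
      have h5 : w * β (e p) * w⁻¹ = e p := by
        rw [pb_apply] at hβp
        apply toK
        rw [map_mul, map_mul, map_inv, hβp]
        simp
      have h6 := (hsymm _ _).mp (h3 (e p) h4 h5)
      simpa using h6

end Transport

end Cfsg.Agent.OddHalf.D4.Small

end

-- merged: Cfsg.Agent.OddHalf.D4.Small.SheetMk
section

/-!
# ODD, D4, small Lie odd: constructors for `Sheet`

`Sheet.of_Q` (`R = Q₈`), `Sheet.of_CQ` (`R = Z₄ * Q₈`), `Sheet.of_QQ` (`R = Q₈ * Q₈`).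
-/

set_option autoImplicit false
set_option linter.unusedVariables false

namespace Cfsg.Agent.OddHalf.D4.Small

open Subgroup

universe u

variable {K : Type u} [Group K] {S R Q Q₁ Q₂ : Subgroup K} {z c : K}

theorem IsQ.central (h : IsQ z Q) {x : K} (hx : x ∈ Q) (hc : ∀ r ∈ Q, x * r = r * x) : x = 1 ∨ x = z := by
  by_contra hcon
  push Not at hcon
  obtain ⟨r, hr, ha⟩ := h.ex x hx hcon.1 hcon.2
  apply h.z1
  have h1 : r * x = r * x * z := by
    calc r * x = x * r * z := ha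
      _ = r * x * z := by rw [hc r hr]
  calc z = (r * x)⁻¹ * (r * x * z) := by group
    _ = 1 := by rw [← h1]; group

theorem IsQ.comm (h : IsQ z Q) {x y : K} (hx : x ∈ Q) (hy : y ∈ Q) : x * y = y * x ∨ x * y = y * x * z := by
  by_cases hx1 : x = 1
  · left; rw [hx1]; simp
  by_cases hxz : x = z
  · left; rw [hxz]; exact (h.zc y hy).symm
  by_cases hy1 : y = 1
  · left; rw [hy1]; simp
  by_cases hyz : y = z
  · left; rw [hyz]; exact h.zc x hx
  rcases h.anti x hx y hy hx1 hxz hy1 hyz with h1 | h1 | h1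
  · left; rw [h1]
  · left
    rw [h1, mul_assoc, ← h.zc x hx]
  · right
    rw [h1, mul_assoc, h.z2, mul_one]

theorem IsQ.comm_iff (h : IsQ z Q) {x y : K} (hx : x ∈ Q) (hy : y ∈ Q) (hx1 : x ≠ 1) (hxz : x ≠ z)
    (hc : x * y = y * x) : y = 1 ∨ y = z ∨ y = x ∨ y = x * z := by
  by_cases hy1 : y = 1
  · exact Or.inl hy1
  by_cases hyz : y = z
  · exact Or.inr (Or.inl hyz)
  rcases h.anti x hx y hy hx1 hxz hy1 hyz with h1 | h1 | h1
  · exact Or.inr (Or.inr (Or.inl h1))
  · exact Or.inr (Or.inr (Or.inr h1))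
  · exfalso
    apply h.z1
    rw [hc] at h1
    calc z = (y * x)⁻¹ * (y * x * z) := by group
      _ = 1 := by rw [← h1]; group

theorem IsQ.sq' (h : IsQ z Q) {x : K} (hx : x ∈ Q) : x * x = 1 ∨ x * x = z := by
  by_cases hx1 : x = 1
  · left; rw [hx1]; simp
  by_cases hxz : x = z
  · left; rw [hxz]; exact h.z2
  · right; exact h.sq x hx hx1 hxz

theorem IsQ.inv_sq (h : IsQ z Q) {x : K} (hx : x ∈ Q) (h2 : x * x = 1) : x = 1 ∨ x = z := by
  by_contra hcon
  push Not at hcon
  apply h.z1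
  rw [← h.sq x hx hcon.1 hcon.2, h2]

/-- `R = Q₈` -/
theorem Sheet.of_Q (h0 : Sheet0 K S R z) (hQ : IsQ z R)
    (hself : ∀ p, p * z = z * p → (∀ r ∈ R, p * r = r * p) → p ∈ R) : Sheet K S R z := by
  refine { h0 with self := hself, cyc := ?_, sq := ?_, comm := ?_, dc := ?_, lr := ?_, lw := ?_ }
  · intro x hx hxr _
    exact hQ.central hx hxr
  · intro x hx
    exact hQ.sq' hx
  · intro x hx y hy
    exact hQ.comm hx hy
  · intro x hx y hy hx2 hy2 _
    rcases hQ.inv_sq hy hy2 with h1 | h1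
    · exact Or.inl h1
    · exact Or.inr (Or.inl h1)
  · intro α β hα hβ hαβ hαz hβz h1 h2
    exact hQ.fix (h0.char α hαz) (h0.char β hβz) (fun q _ => hα q) (fun q _ => hβ q) (fun q _ => hαβ q) hαz hβz
      h1 h2
  · intro w hw hw2 hw1 hwz
    exact ((hQ.inv_sq hw hw2).elim hw1 hwz).elim

/-- `R = Z₄ * Q₈` -/
theorem Sheet.of_CQ (h0 : Sheet0 K S R z) (h : IsCQ z c Q R)
    (hself : ∀ p, p * z = z * p → (∀ r ∈ R, p * r = r * p) → p ∈ R) : Sheet K S R z := by
  have z2 := h.q.z2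
  have hcz : c * z = z * c := by rw [← h.cc]; group
  have zR : z ∈ R := h.le h.q.zQ
  have hzc : ∀ r ∈ R, r * z = z * r := by
    intro r hr
    rw [← h.cc, ← mul_assoc, h.com r hr, mul_assoc, h.com r hr, ← mul_assoc]
  have hcc : ∀ x : K, x * c * c = x * z := fun x => by rw [mul_assoc, h.cc]
  have hzz : ∀ x : K, x * z * z = x := fun x => by rw [mul_assoc, z2, mul_one]
  have hcyc : ∀ x ∈ R, (∀ r ∈ R, x * r = r * x) → x * x = 1 → x = 1 ∨ x = z := by
    intro x hx hxr hx2
    rcases h.mem x hx with h1 | h1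
    · exact h.q.inv_sq h1 hx2
    · exfalso
      have h2 : (x * c) * (x * c) = z := by
        calc (x * c) * (x * c) = x * (c * x) * c := by group
          _ = x * (x * c) * c := by rw [h.com x hx]
          _ = (x * x) * (c * c) := by group
          _ = z := by rw [hx2, h.cc, one_mul]
      rcases h.q.central h1 (fun r hr => by
        have h3 := hxr r (h.le hr)
        have h4 := h.com r (h.le hr)
        calc x * c * r = x * (c * r) := by group
          _ = x * (r * c) := by rw [h4]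
          _ = (x * r) * c := by group
          _ = r * (x * c) := by rw [h3]; group) with h3 | h3
      · apply h.q.z1
        rw [← h2, h3, one_mul]
      · apply h.q.z1
        rw [← h2, h3, z2]
  have hsq : ∀ x ∈ R, x * x = 1 ∨ x * x = z := by
    intro x hx
    rcases h.mem x hx with h1 | h1
    · exact h.q.sq' h1
    · have h2 : (x * c) * (x * c) = x * x * z := by
        calc (x * c) * (x * c) = x * (c * x) * c := by group
          _ = x * (x * c) * c := by rw [h.com x hx]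
          _ = (x * x) * (c * c) := by group
          _ = x * x * z := by rw [h.cc]
      rcases h.q.sq' h1 with h3 | h3
      · right
        rw [h2] at h3
        calc x * x = x * x * z * z := (hzz _).symm
          _ = z := by rw [h3, one_mul]
      · left
        rw [h2] at h3
        calc x * x = x * x * z * z := (hzz _).symm
          _ = 1 := by rw [h3, z2]
  have hcomm : ∀ x ∈ R, ∀ y ∈ R, x * y = y * x ∨ x * y = y * x * z := by
    -- first with the second argument in `Q`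
    have k1 : ∀ x ∈ R, ∀ y ∈ Q, x * y = y * x ∨ x * y = y * x * z := by
      intro x hx y hy
      rcases h.mem x hx with h1 | h1
      · exact h.q.comm h1 hy
      · have e1 : x * c * y = x * y * c := by rw [mul_assoc, ← h.com y (h.le hy), ← mul_assoc]
        rcases h.q.comm h1 hy with h3 | h3
        · left
          have h4 : x * y * c = y * x * c := by rw [← e1, h3]; group
          exact mul_right_cancel h4
        · right
          have h4 : x * y * c = y * x * z * c := by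
            rw [← e1, h3]
            calc y * (x * c) * z = y * x * (c * z) := by group
              _ = y * x * (z * c) := by rw [hcz]
              _ = y * x * z * c := by group
          exact mul_right_cancel h4
    intro x hx y hy
    rcases h.mem y hy with h1 | h1
    · exact k1 x hx y h1
    · have e1 : y * c * x = y * x * c := by rw [mul_assoc, ← h.com x hx, ← mul_assoc]
      rcases k1 x hx _ h1 with h3 | h3
      · left
        have h4 : x * y * c = y * x * c := by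
          rw [← e1, ← h3]; group
        exact mul_right_cancel h4
      · right
        have h4 : x * y * c = y * x * z * c := by
          calc x * y * c = x * (y * c) := by group
            _ = y * c * x * z := h3
            _ = y * x * (c * z) := by rw [e1]; group
            _ = y * x * (z * c) := by rw [hcz]
            _ = y * x * z * c := by group
        exact mul_right_cancel h4
  refine { h0 with self := hself, cyc := hcyc, sq := hsq, comm := hcomm, dc := ?_, lr := ?_, lw := ?_ }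
  · intro x hx y hy hx2 hy2 hr
    have hyc : c * y = y * c := hr c h.cR (h.com x hx).symm |>.symm ▸ (h.com y hy).symm
    rcases h.mem x hx with h1 | h1
    · -- `x ∈ {1, z}`
      have hxc : ∀ r ∈ R, r * x = x * r := by
        intro r hr'
        rcases h.q.inv_sq h1 hx2 with h3 | h3
        · rw [h3]; simp
        · rw [h3]; exact hzc r hr'
      rcases hcyc y hy (fun r hr' => (hr r hr' (hxc r hr')).symm) hy2 with h3 | h3
      · exact Or.inl h3
      · exact Or.inr (Or.inl h3)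
    · have hxx : (x * c) * x = x * (x * c) := by
        calc (x * c) * x = x * (c * x) := by group
          _ = x * (x * c) := by rw [h.com x hx]
      have h3 : (x * c) * y = y * (x * c) := hr (x * c) (R.mul_mem hx h.cR) hxx
      have n1 : x * c ≠ 1 := by
        intro h4
        apply h.q.z1
        have h5 : (x * c) * (x * c) = z := by
          calc (x * c) * (x * c) = x * (c * x) * c := by group
            _ = x * (x * c) * c := by rw [h.com x hx]
            _ = (x * x) * (c * c) := by group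
            _ = z := by rw [hx2, h.cc, one_mul]
        rw [← h5, h4, one_mul]
      have n2 : x * c ≠ z := by
        intro h4
        apply h.q.z1
        have h5 : (x * c) * (x * c) = z := by
          calc (x * c) * (x * c) = x * (c * x) * c := by group
            _ = x * (x * c) * c := by rw [h.com x hx]
            _ = (x * x) * (c * c) := by group
            _ = z := by rw [hx2, h.cc, one_mul]
        rw [← h5, h4, z2]
      rcases h.mem y hy with h4 | h4
      · rcases h.q.inv_sq h4 hy2 with h5 | h5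
        · exact Or.inl h5
        · exact Or.inr (Or.inl h5)
      · have h5 : (x * c) * (y * c) = (y * c) * (x * c) := by
          calc (x * c) * (y * c) = ((x * c) * y) * c := by group
            _ = y * (x * c) * c := by rw [h3]
            _ = y * (x * c * c) := by group
            _ = y * (c * x * c) := by rw [h.com x hx]
            _ = (y * c) * (x * c) := by group
        rcases h.q.comm_iff h1 h4 n1 n2 h5 with h6 | h6 | h6 | h6
        · exfalso
          apply h.q.z1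
          have h7 : (y * c) * (y * c) = z := by
            calc (y * c) * (y * c) = y * (c * y) * c := by group
              _ = y * (y * c) * c := by rw [h.com y hy]
              _ = (y * y) * (c * c) := by group
              _ = z := by rw [hy2, h.cc, one_mul]
          rw [← h7, h6, one_mul]
        · exfalso
          apply h.q.z1
          have h7 : (y * c) * (y * c) = z := by
            calc (y * c) * (y * c) = y * (c * y) * c := by group
              _ = y * (y * c) * c := by rw [h.com y hy]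
              _ = (y * y) * (c * c) := by group
              _ = z := by rw [hy2, h.cc, one_mul]
          rw [← h7, h6, z2]
        · right; right; left
          exact mul_right_cancel h6
        · right; right; right
          have h7 : y * c = x * z * c := by
            rw [h6]
            calc x * c * z = x * (c * z) := by group
              _ = x * (z * c) := by rw [hcz]
              _ = x * z * c := by group
          exact mul_right_cancel h7
  · intro α β hα hβ hαβ hαz hβz h1 h2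
    exact h.fix (h0.char α hαz) (h0.char β hβz) hα hβ hαβ hαz hβz h1 h2
  · intro w hw hw2 hw1 hwz β hβ hβz hβw h1 h2 h3
    exact h.false_of_w hw hw2 hw1 hwz (h0.char β hβz) hβ hβz hβw h1 h2 h3

/-- `R = Q₈ * Q₈` -/
theorem Sheet.of_QQ (h0 : Sheet0 K S R z) (h : IsQQ z Q₁ Q₂ R)
    (hself : ∀ p, p * z = z * p → (∀ r ∈ R, p * r = r * p) → p = 1 ∨ p = z)
    {d : K} (hdz : d * z = z * d) (hd3 : d * d * d = 1) (hd2 : ∀ y ∈ Q₂, d * y = y * d)
    (hd1 : ∀ x ∈ Q₁, x ≠ 1 → x ≠ z → d * x * d⁻¹ ≠ x ∧ d * x * d⁻¹ ≠ x * z) : Sheet K S R z := by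
  have z2 := h.q1.z2
  have zR : z ∈ R := h.le1 h.q1.zQ
  have hcyc : ∀ x ∈ R, (∀ r ∈ R, x * r = r * x) → x = 1 ∨ x = z := by
    intro x hx hxr
    refine hself x ?_ hxr
    exact hxr z zR
  have hprod : ∀ x₁ ∈ Q₁, ∀ x₂ ∈ Q₂, (x₁ * x₂) * (x₁ * x₂) = (x₁ * x₁) * (x₂ * x₂) := by
    intro x₁ h1 x₂ h2
    calc (x₁ * x₂) * (x₁ * x₂) = x₁ * (x₂ * x₁) * x₂ := by group
      _ = x₁ * (x₁ * x₂) * x₂ := by rw [h.com x₁ h1 x₂ h2]
      _ = (x₁ * x₁) * (x₂ * x₂) := by group
  refine { h0 with self := ?_, cyc := fun x hx hxr _ => hcyc x hx hxr, sq := ?_, comm := ?_, dc := ?_,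
                   lr := ?_, lw := ?_ }
  · intro p hp hpr
    rcases hself p hp hpr with h1 | h1
    · rw [h1]; exact one_mem _
    · rw [h1]; exact zR
  · intro x hx
    obtain ⟨x₁, h1, x₂, h2, rfl⟩ := h.mem x hx
    rw [hprod x₁ h1 x₂ h2]
    rcases h.q1.sq' h1 with h3 | h3 <;> rcases h.q2.sq' h2 with h4 | h4 <;> rw [h3, h4] <;> simp [z2]
  · intro x hx y hy
    obtain ⟨x₁, h1, x₂, h2, rfl⟩ := h.mem x hx
    obtain ⟨y₁, h3, y₂, h4, rfl⟩ := h.mem y hy
    have e1 : x₁ * x₂ * (y₁ * y₂) = (x₁ * y₁) * (x₂ * y₂) := by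
      calc x₁ * x₂ * (y₁ * y₂) = x₁ * (x₂ * y₁) * y₂ := by group
        _ = x₁ * (y₁ * x₂) * y₂ := by rw [h.com y₁ h3 x₂ h2]
        _ = (x₁ * y₁) * (x₂ * y₂) := by group
    have e2 : y₁ * y₂ * (x₁ * x₂) = (y₁ * x₁) * (y₂ * x₂) := by
      calc y₁ * y₂ * (x₁ * x₂) = y₁ * (y₂ * x₁) * x₂ := by group
        _ = y₁ * (x₁ * y₂) * x₂ := by rw [h.com x₁ h1 y₂ h4]
        _ = (y₁ * x₁) * (y₂ * x₂) := by group
    have hz2 : ∀ y ∈ Q₂, y * z = z * y := h.q2.zc
    rw [e1, e2]
    rcases h.q1.comm h1 h3 with h5 | h5 <;> rcases h.q2.comm h2 h4 with h6 | h6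
    · left; rw [h5, h6]
    · right; rw [h5, h6]; group
    · right; rw [h5, h6]
      calc y₁ * x₁ * z * (y₂ * x₂) = y₁ * x₁ * (z * (y₂ * x₂)) := by group
        _ = y₁ * x₁ * ((y₂ * x₂) * z) := by rw [hz2 _ (Q₂.mul_mem h4 h2)]
        _ = y₁ * x₁ * (y₂ * x₂) * z := by group
    · left; rw [h5, h6]
      calc y₁ * x₁ * z * (y₂ * x₂ * z) = y₁ * x₁ * (z * (y₂ * x₂)) * z := by group
        _ = y₁ * x₁ * ((y₂ * x₂) * z) * z := by rw [hz2 _ (Q₂.mul_mem h4 h2)]
        _ = y₁ * x₁ * (y₂ * x₂) * (z * z) := by group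
        _ = y₁ * x₁ * (y₂ * x₂) := by rw [z2, mul_one]
  · intro x hx y hy hx2 hy2 hr
    obtain ⟨x₁, h1, x₂, h2, rfl⟩ := h.mem x hx
    obtain ⟨y₁, h3, y₂, h4, rfl⟩ := h.mem y hy
    have hx12 := h.com x₁ h1 x₂ h2
    have hy12 := h.com y₁ h3 y₂ h4
    rw [hprod x₁ h1 x₂ h2] at hx2
    rw [hprod y₁ h3 y₂ h4] at hy2
    by_cases hx1 : x₁ = 1 ∨ x₁ = z
    · -- `x ∈ {1, z}`
      have hx11 : x₁ * x₁ = 1 := by
        rcases hx1 with h5 | h5
        · rw [h5, one_mul]
        · rw [h5, z2]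
      rw [hx11, one_mul] at hx2
      have hx2' := h.q2.inv_sq h2 hx2
      have hxc : ∀ r ∈ R, r * (x₁ * x₂) = x₁ * x₂ * r := by
        intro r hr'
        have hrz : r * z = z * r := (h0.zc r (h0.RS hr'))
        rcases hx1 with rfl | rfl <;> rcases hx2' with rfl | rfl
        · simp
        · simpa using hrz
        · simpa using hrz
        · rw [z2]; simp
      rcases hcyc _ hy (fun r hr' => (hr r hr' (hxc r hr')).symm) with h5 | h5
      · exact Or.inl h5
      · exact Or.inr (Or.inl h5)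
    · push Not at hx1
      have hxx := h.q1.sq x₁ h1 hx1.1 hx1.2
      have hx2n : x₂ ≠ 1 ∧ x₂ ≠ z := by
        constructor
        · rintro rfl
          apply h.q1.z1
          rw [← hxx]
          simpa using hx2
        · intro h5
          apply h.q1.z1
          rw [h5, z2, mul_one, hxx] at hx2
          exact hx2
      have c1 : x₁ * (y₁ * y₂) = y₁ * y₂ * x₁ := by
        refine hr x₁ (h.le1 h1) ?_
        calc x₁ * (x₁ * x₂) = x₁ * (x₂ * x₁) := by rw [hx12]
          _ = x₁ * x₂ * x₁ := by group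
      have c2 : x₂ * (y₁ * y₂) = y₁ * y₂ * x₂ := by
        refine hr x₂ (h.le2 h2) ?_
        calc x₂ * (x₁ * x₂) = (x₂ * x₁) * x₂ := by group
          _ = x₁ * x₂ * x₂ := by rw [hx12]
      have c3 : x₁ * y₁ = y₁ * x₁ := by
        have h5 : x₁ * y₁ * y₂ = y₁ * x₁ * y₂ := by
          calc x₁ * y₁ * y₂ = x₁ * (y₁ * y₂) := by group
            _ = y₁ * y₂ * x₁ := c1
            _ = y₁ * (y₂ * x₁) := by group
            _ = y₁ * (x₁ * y₂) := by rw [h.com x₁ h1 y₂ h4]
            _ = y₁ * x₁ * y₂ := by group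
        exact mul_right_cancel h5
      have c4 : x₂ * y₂ = y₂ * x₂ := by
        have h5 : y₁ * (x₂ * y₂) = y₁ * (y₂ * x₂) := by
          calc y₁ * (x₂ * y₂) = (y₁ * x₂) * y₂ := by group
            _ = x₂ * y₁ * y₂ := by rw [h.com y₁ h3 x₂ h2]
            _ = x₂ * (y₁ * y₂) := by group
            _ = y₁ * y₂ * x₂ := c2
            _ = y₁ * (y₂ * x₂) := by group
        exact mul_left_cancel h5
      have hz1 : ∀ y ∈ Q₁, y * z = z * y := h.q1.zc
      have hz2 : ∀ y ∈ Q₂, y * z = z * y := h.q2.zc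
      have d1 := h.q1.comm_iff h1 h3 hx1.1 hx1.2 c3
      have d2 := h.q2.comm_iff h2 h4 hx2n.1 hx2n.2 c4
      have zz1 : ∀ x : K, x * z * z = x := fun x => by rw [mul_assoc, z2, mul_one]
      have hxx2 := h.q2.sq x₂ h2 hx2n.1 hx2n.2
      -- orders
      have o1 : (y₁ = 1 ∨ y₁ = z) → y₂ = 1 ∨ y₂ = z := by
        intro h5
        have h6 : y₁ * y₁ = 1 := by
          rcases h5 with h5 | h5
          · rw [h5, one_mul]
          · rw [h5, z2]
        rw [h6, one_mul] at hy2
        exact h.q2.inv_sq h4 hy2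
      have o2 : (y₂ = 1 ∨ y₂ = z) → y₁ = 1 ∨ y₁ = z := by
        intro h5
        have h6 : y₂ * y₂ = 1 := by
          rcases h5 with h5 | h5
          · rw [h5, one_mul]
          · rw [h5, z2]
        rw [h6, mul_one] at hy2
        exact h.q1.inv_sq h3 hy2
      by_cases hy1 : y₁ = 1 ∨ y₁ = z
      · rcases hy1 with h5 | h5 <;> rcases o1 (by simp [h5]) with h6 | h6 <;> rw [h5, h6] <;> simp [z2]
      · have hy2n : ¬ (y₂ = 1 ∨ y₂ = z) := fun h5 => hy1 (o2 h5)
        have d1' : y₁ = x₁ ∨ y₁ = x₁ * z := by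
          rcases d1 with h5 | h5 | h5 | h5
          · exact absurd (Or.inl h5) hy1
          · exact absurd (Or.inr h5) hy1
          · exact Or.inl h5
          · exact Or.inr h5
        have d2' : y₂ = x₂ ∨ y₂ = x₂ * z := by
          rcases d2 with h5 | h5 | h5 | h5
          · exact absurd (Or.inl h5) hy2n
          · exact absurd (Or.inr h5) hy2n
          · exact Or.inl h5
          · exact Or.inr h5
        rcases d1' with h5 | h5 <;> rcases d2' with h6 | h6
        · right; right; left; rw [h5, h6]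
        · right; right; right; rw [h5, h6]; group
        · right; right; right; rw [h5, h6]
          calc x₁ * z * x₂ = x₁ * (z * x₂) := by group
            _ = x₁ * (x₂ * z) := by rw [hz2 _ h2]
            _ = x₁ * x₂ * z := by group
        · right; right; left; rw [h5, h6]
          calc x₁ * z * (x₂ * z) = x₁ * (z * x₂) * z := by group
            _ = x₁ * (x₂ * z) * z := by rw [hz2 _ h2]
            _ = x₁ * x₂ * z * z := by group
            _ = x₁ * x₂ := zz1 _
  · intro α β hα hβ hαβ hαz hβz h1 h2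
    exact h.fix (h0.char α hαz) (h0.char β hβz) hα hβ hαβ hαz hβz h1 h2
  · intro w hw hw2 hw1 hwz β hβ hβz hβw h1 h2 h3
    exact h.false_of_w h0.Rn hself hdz hd3 hd2 hd1 hw hw2 hw1 hwz (h0.char β hβz) hβ hβz hβw h1 h2 h3

end Cfsg.Agent.OddHalf.D4.Small

end

-- merged: Cfsg.Agent.OddHalf.D4.Small.Row
section

/-!
# ODD, D4, small Lie odd: the row theorem

`HasSheet.of_one` (one Sylow subgroup suffices), transport along isomorphisms, `Row K` and `row1`.
-/

set_option autoImplicit false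

namespace Cfsg.Agent.OddHalf.D4.Small

open Subgroup Cfsg Basic

universe u v

section Transport

variable {K : Type u} [Group K] {L : Type v} [Group L]

/-- pull back of an automorphism -/
def pullAut (e : K ≃* L) (α : MulAut L) : MulAut K := (e.trans α).trans e.symm

theorem pullAut_apply (e : K ≃* L) (α : MulAut L) (x : K) : pullAut e α x = e.symm (α (e x)) := rfl

theorem pullAut_mul (e : K ≃* L) (α β : MulAut L) : pullAut e (α * β) = pullAut e α * pullAut e β := by
  ext x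
  rw [pullAut_apply, MulAut.mul_apply, MulAut.mul_apply, pullAut_apply, pullAut_apply]
  simp

theorem pullAut_one (e : K ≃* L) : pullAut e 1 = 1 := by
  ext x
  rw [pullAut_apply]
  simp

theorem pullAut_pow (e : K ≃* L) (α : MulAut L) (n : ℕ) : pullAut e (α ^ n) = pullAut e α ^ n := by
  induction n with
  | zero => rw [pow_zero, pow_zero, pullAut_one]
  | succ n ih => rw [pow_succ, pow_succ, pullAut_mul, ih]

/-- the preimage of a Sylow subgroup -/
def sylowPull (e : K ≃* L) (S : Sylow 2 L) : Sylow 2 K :=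
  S.comapOfInjective e.toMonoidHom e.injective (by
    intro x _
    exact ⟨e.symm x, e.apply_symm_apply x⟩)

theorem mem_sylowPull (e : K ≃* L) (S : Sylow 2 L) (x : K) :
    x ∈ (sylowPull e S : Subgroup K) ↔ e x ∈ (S : Subgroup L) := Iff.rfl

theorem HasSheet.of_equiv (h : HasSheet K) (e : K ≃* L) : HasSheet L := by
  intro S
  obtain ⟨z, R, hs⟩ := h (sylowPull e S)
  have h1 := hs.map e
  have h2 : ((sylowPull e S : Subgroup K)).comap e.symm.toMonoidHom = (S : Subgroup L) := by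
    ext x
    rw [mem_comap, mem_sylowPull]
    show e (e.symm x) ∈ _ ↔ _
    rw [e.apply_symm_apply]
  rw [h2] at h1
  exact ⟨_, _, h1⟩

theorem HasSheet.of_one [Finite K] {S : Sylow 2 K} {z : K} {R : Subgroup K} (h : Sheet K S R z) : HasSheet K := by
  intro T
  obtain ⟨g, hg⟩ := MulAction.exists_smul_eq K S T
  have h1 := h.map (MulAut.conj g)
  have h2 : ((S : Subgroup K)).comap (MulAut.conj g).symm.toMonoidHom = (T : Subgroup K) := by
    rw [← hg]
    ext x
    rw [mem_comap]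
    show (MulAut.conj g).symm x ∈ S ↔ x ∈ ((g • S : Sylow 2 K) : Subgroup K)
    rw [Sylow.coe_subgroup_smul, Subgroup.mem_pointwise_smul_iff_inv_smul_mem]
    rfl
  rw [h2] at h1
  exact ⟨_, _, h1⟩

theorem FOneK.of_equiv (h : FOneK K) (e : K ≃* L) : FOneK L := by
  rintro S α ⟨n, hn⟩ hα
  obtain ⟨k, hk, hkc, hka⟩ := h (sylowPull e S) (pullAut e α) ⟨n, by rw [← pullAut_pow, hn, pullAut_one]⟩ (by
    intro s hs
    rw [pullAut_apply, hα _ ((mem_sylowPull e S s).mp hs), e.symm_apply_apply])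
  refine ⟨e k, (mem_sylowPull e S k).mp hk, ?_, ?_⟩
  · intro s hs
    have h1 : e.symm s ∈ (sylowPull e S : Subgroup K) := by
      rw [mem_sylowPull, e.apply_symm_apply]; exact hs
    have h2 := congrArg e (hkc _ h1)
    simpa using h2
  · intro x
    have h1 := congrArg e (hka (e.symm x))
    rw [pullAut_apply] at h1
    simpa using h1

theorem NoSEK.of_equiv (h : NoSEK K) (e : K ≃* L) : NoSEK L := by
  intro D hD S hS hc
  refine h (D.comap e.toMonoidHom) ?_ (sylowPull e S) ?_ ?_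
  · intro h1
    apply hD
    rw [eq_top_iff]
    intro x _
    have h2 : e.symm x ∈ D.comap e.toMonoidHom := by rw [h1]; exact mem_top _
    have h3 : e (e.symm x) ∈ D := h2
    rwa [e.apply_symm_apply] at h3
  · intro x hx
    exact hS ((mem_sylowPull e S x).mp hx)
  · intro s hs hs2 hs1 x hx
    refine hc (e s) ((mem_sylowPull e S s).mp hs) ?_ ?_ (e x) ?_
    · rw [← map_mul, hs2, map_one]
    · intro h1
      exact hs1 (e.injective (by rw [h1, map_one]))
    · rw [← map_mul, hx, map_mul]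

end Transport

/-- **The facts on `K`** -/
structure Row (K : Type u) [Group K] : Prop where
  sheet : HasSheet K
  f1 : FOneK K
  nse : NoSEK K

theorem Row.of_equiv {K : Type u} [Group K] {L : Type v} [Group L] (h : Row K) (e : K ≃* L) : Row L :=
  ⟨h.sheet.of_equiv e, h.f1.of_equiv e, h.nse.of_equiv e⟩

open CommConj in
/-- **The row, inside `G`.** -/
theorem false_of_row {G : Type u} [Group G] [Finite G] [IsSimpleGroup G] (h1173 : EvenPair.H1173 G)
    {K : Subgroup G} (hK : IsStandardSubgroup K) (hs : IsSimpleGroup ↥K) (hcen : center ↥K = ⊥)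
    (hm : ¬ PRankLE 2 1 ↥(centralizer (K : Set G))) (hr : Row ↥K) : False := by
  have T := EvenPair.tight_of_standard hK
  have cen : ∀ x ∈ K, x ∈ centralizer (K : Set G) → x = 1 := by
    intro x hx hxC
    have h1 : (⟨x, hx⟩ : ↥K) ∈ center ↥K := by
      rw [mem_center_iff]
      intro y
      apply Subtype.ext
      exact (mem_centralizer_iff.mp hxC) y y.2
    rw [hcen, mem_bot] at h1
    exact congrArg Subtype.val h1
  have simp' : ∀ N : Subgroup G, N ≤ K → (∀ a ∈ K, ∀ n ∈ N, a * n * a⁻¹ ∈ N) → N = ⊥ ∨ N = K := by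
    intro N hN hn
    have hnorm : (N.subgroupOf K).Normal := ⟨by
      intro n hn' a
      rw [mem_subgroupOf] at hn' ⊢
      exact hn a a.2 n hn'⟩
    rcases hnorm.eq_bot_or_eq_top with h1 | h1
    · left
      rw [eq_bot_iff]
      intro x hx
      have h2 : (⟨x, hN hx⟩ : ↥K) ∈ N.subgroupOf K := mem_subgroupOf.mpr hx
      rw [h1, mem_bot] at h2
      rw [mem_bot]
      exact congrArg Subtype.val h2
    · right
      apply le_antisymm hN
      rw [subgroupOf_eq_top] at h1
      exact h1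
  obtain ⟨a, b, ha, hb, ha2, hb2, hab, hne⟩ := EvenPair.exists_two_of_not_pRankLE hm
  have sq1 : ∀ x : G, orderOf x = 2 → x * x = 1 := fun x hx => by
    rw [← pow_two, ← hx]; exact pow_orderOf_eq_one x
  have n1 : ∀ x : G, orderOf x = 2 → x ≠ 1 := by
    rintro x hx rfl
    rw [orderOf_one] at hx
    exact absurd hx (by norm_num)
  -- the conjugates
  have hcomm : ∀ g x y : G, g⁻¹ * (x * y) * g = (g⁻¹ * x * g) * (g⁻¹ * y * g) := fun g x y => by group
  have conjcomm : ∀ g x y : G, x * y = y * x → (g⁻¹ * x * g) * (g⁻¹ * y * g) = (g⁻¹ * y * g) * (g⁻¹ * x * g) := by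
    intro g x y h
    rw [← hcomm, h, hcomm]
  have equiv : ∀ g : G, Nonempty (↥K ≃* ↥(cj g K)) := fun g =>
    ⟨K.equivMapOfInjective (MulAut.conj g).toMonoidHom (MulAut.conj g).injective⟩
  have hmem : ∀ g x : G, x ∈ normalizer ((cj g K : Subgroup G) : Set G) ↔ g⁻¹ * x * g ∈ normalizer (K : Set G) := by
    intro g x
    rw [mem_normalizer_iff, mem_normalizer_iff]
    constructor
    · intro h y
      have h1 := h (g * y * g⁻¹)
      rw [mem_cj, mem_cj] at h1
      have e1 : g⁻¹ * (g * y * g⁻¹) * g = y := by group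
      have e2 : g⁻¹ * (x * (g * y * g⁻¹) * x⁻¹) * g = g⁻¹ * x * g * y * (g⁻¹ * x * g)⁻¹ := by group
      rw [e1, e2] at h1
      exact h1
    · intro h y
      rw [mem_cj, mem_cj]
      have h1 := h (g⁻¹ * y * g)
      have e2 : g⁻¹ * (x * y * x⁻¹) * g = g⁻¹ * x * g * (g⁻¹ * y * g) * (g⁻¹ * x * g)⁻¹ := by group
      rw [e2]
      exact h1
  have te : TE K := te_of_tight T
  have hB : ∀ g : G, Base (cj g K) := by
    intro g
    obtain ⟨e⟩ := equiv g
    refine ⟨?_, ?_, ?_, ?_, ?_⟩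
    · intro y hy hy2 hy1 x hxy
      rw [mem_centralizer_cj] at hy
      rw [hmem]
      refine te (g⁻¹ * y * g) hy ?_ ?_ (g⁻¹ * x * g) (conjcomm g x y hxy)
      · rw [← hcomm, hy2]; group
      · intro h1
        apply hy1
        calc y = g * (g⁻¹ * y * g) * g⁻¹ := by group
          _ = 1 := by rw [h1]; group
    · intro x hx hxC
      rw [mem_cj] at hx
      rw [mem_centralizer_cj] at hxC
      have h1 := cen _ hx hxC
      calc x = g * (g⁻¹ * x * g) * g⁻¹ := by group
        _ = 1 := by rw [h1]; group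
    · intro N hN hn
      rcases simp' (cj g⁻¹ N) (by
        intro x hx
        rw [mem_cj, inv_inv] at hx
        have h1 := hN hx
        rw [mem_cj] at h1
        have e1 : g⁻¹ * (g * x * g⁻¹) * g = x := by group
        rwa [e1] at h1) (by
        intro a ha n hn'
        rw [mem_cj, inv_inv] at hn' ⊢
        have h1 := hn (g * a * g⁻¹) (mem_cj_mul ha) _ hn'
        have e1 : g * a * g⁻¹ * (g * n * g⁻¹) * (g * a * g⁻¹)⁻¹ = g * (a * n * a⁻¹) * g⁻¹ := by group
        rwa [e1] at h1) with h1 | h1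
      · left
        rw [eq_bot_iff]
        intro x hx
        have h2 : g⁻¹ * x * g ∈ cj g⁻¹ N := by
          rw [mem_cj, inv_inv]
          have e1 : g * (g⁻¹ * x * g) * g⁻¹ = x := by group
          rwa [e1]
        rw [h1, mem_bot] at h2
        rw [mem_bot]
        calc x = g * (g⁻¹ * x * g) * g⁻¹ := by group
          _ = 1 := by rw [h2]; group
      · right
        apply le_antisymm hN
        intro x hx
        rw [mem_cj, ← h1, mem_cj, inv_inv] at hx
        have e1 : g * (g⁻¹ * x * g) * g⁻¹ = x := by group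
        rwa [e1] at hx
    · intro S hS
      exact (hr.sheet.of_equiv e).atS hS
    · refine ⟨g * a * g⁻¹, ?_, g * b * g⁻¹, ?_, ?_, ?_, ?_, ?_, ?_, ?_⟩
      · rw [mem_centralizer_cj]
        have e1 : g⁻¹ * (g * a * g⁻¹) * g = a := by group
        rwa [e1]
      · rw [mem_centralizer_cj]
        have e1 : g⁻¹ * (g * b * g⁻¹) * g = b := by group
        rwa [e1]
      · calc g * a * g⁻¹ * (g * a * g⁻¹) = g * (a * a) * g⁻¹ := by group
          _ = 1 := by rw [sq1 a ha2]; group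
      · calc g * b * g⁻¹ * (g * b * g⁻¹) = g * (b * b) * g⁻¹ := by group
          _ = 1 := by rw [sq1 b hb2]; group
      · intro h1
        apply n1 a ha2
        calc a = g⁻¹ * (g * a * g⁻¹) * g := by group
          _ = 1 := by rw [h1]; group
      · intro h1
        apply n1 b hb2
        calc b = g⁻¹ * (g * b * g⁻¹) * g := by group
          _ = 1 := by rw [h1]; group
      · intro h1
        apply hne
        exact mul_left_cancel (mul_right_cancel h1)
      · calc g * a * g⁻¹ * (g * b * g⁻¹) = g * (a * b) * g⁻¹ := by group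
          _ = g * (b * a) * g⁻¹ := by rw [hab]
          _ = g * b * g⁻¹ * (g * a * g⁻¹) := by group
  have hF : ∀ g : G, FOne (cj g K) := by
    intro g
    obtain ⟨e⟩ := equiv g
    exact (hr.f1.of_equiv e).toG
  exact false_of_facts h1173 hK hB hF hr.nse.toG

end Cfsg.Agent.OddHalf.D4.Small

end
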