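import Mathlib
import Cfsg.Agent.OddHalf.D4.Small.Row

-- merged: Cfsg.Agent.OddHalf.D4.Small.FOneLoc
section

/-!
# ODD, D4, small Lie odd: (F1) and "no strongly embedded subgroup" from local facts

`FOneK.of_local`: an automorphism centralizing the Sylow 2-subgroup `S` of `K` is conjugation by an element of
`Z(S)`, from two local subgroups `P = C(z)` and `L ≤ N(A)` which generate `K`.
`NoSEK.of_gen`: `K = ⟨C(z), C(w)⟩` for two involutions of `S`.
-/

set_option autoImplicit false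

namespace Cfsg.Agent.OddHalf.D4.Small

open Subgroup

universe u

variable {K : Type u} [Group K]

/-- **averaging**: an automorphism with values in the abelian group `A` on `L`, trivial on a subgroup of odd
index, is inner by an element of `A`. -/
theorem exists_inner_of_avg [Finite K] {S A L : Subgroup K} (hA2 : IsPGroup 2 ↥A)
    (hAab : ∀ a ∈ A, ∀ b ∈ A, a * b = b * a) (hAL : ∀ l ∈ L, ∀ a ∈ A, l * a * l⁻¹ ∈ A)
    (hodd : Odd ((S.subgroupOf L).index)) {α : MulAut K} (hc : ∀ l ∈ L, l⁻¹ * α l ∈ A)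
    (hS : ∀ s ∈ S, s ∈ L → α s = s) : ∃ a ∈ A, ∀ l ∈ L, α l = a⁻¹ * l * a := by
  classical
  let H := S.subgroupOf L
  letI : CommGroup ↥A := { (inferInstance : Group ↥A) with
    mul_comm := fun a b => Subtype.ext (hAab a a.2 b b.2) }
  have : Fintype (↥L ⧸ H) := Fintype.ofFinite _
  -- `c(l⁻¹) = l α(l⁻¹)`
  let f : ↥L ⧸ H → ↥A := Quotient.lift (fun l : ↥L => (⟨(l : K) * α (l : K)⁻¹, by
      have h1 := hc (l : K)⁻¹ (L.inv_mem l.2)
      rwa [inv_inv] at h1⟩ : ↥A)) (by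
    intro l m hlm
    have h1 : l⁻¹ * m ∈ H := by
      rw [← QuotientGroup.leftRel_apply]
      exact hlm
    rw [mem_subgroupOf] at h1
    have h2 : α ((l : K)⁻¹ * m) = (l : K)⁻¹ * m := hS _ h1 (L.mul_mem (L.inv_mem l.2) m.2)
    apply Subtype.ext
    show (l : K) * α (l : K)⁻¹ = (m : K) * α (m : K)⁻¹
    have h3 : α (m : K)⁻¹ = ((l : K)⁻¹ * m)⁻¹ * α (l : K)⁻¹ := by
      rw [← h2, ← map_inv, ← map_mul]
      congr 1
      group
    rw [h3]
    group)
  have hf : ∀ l : ↥L, ((f (QuotientGroup.mk l) : ↥A) : K) = (l : K) * α (l : K)⁻¹ := fun _ => rfl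
  -- the relation `f (m⁻¹ q) = m⁻¹ f(q) α(m)`
  have hrel : ∀ (m : ↥L) (q : ↥L ⧸ H), ((f (m⁻¹ • q) : ↥A) : K) = (m : K)⁻¹ * f q * m * ((m : K)⁻¹ * α m) := by
    intro m q
    induction q using QuotientGroup.induction_on with
    | H l =>
      have h1 : m⁻¹ • (QuotientGroup.mk l : ↥L ⧸ H) = QuotientGroup.mk (m⁻¹ * l) := rfl
      rw [h1, hf, hf]
      have h2 : ((m⁻¹ * l : ↥L) : K) = (m : K)⁻¹ * l := rfl
      have h3 : ((m : K)⁻¹ * l)⁻¹ = (l : K)⁻¹ * m := by group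
      rw [h2, h3, map_mul]
      group
  let conjA : ↥L → (↥A →* ↥A) := fun m =>
    { toFun := fun a => ⟨(m : K)⁻¹ * a * m, by
        have h1 := hAL (m : K)⁻¹ (L.inv_mem m.2) a a.2
        rwa [inv_inv] at h1⟩
      map_one' := Subtype.ext (by show (m : K)⁻¹ * 1 * m = 1; group)
      map_mul' := fun a b => Subtype.ext (by
        show (m : K)⁻¹ * (a * b) * m = (m : K)⁻¹ * a * m * ((m : K)⁻¹ * b * m); group) }
  let b : ↥A := ∏ q, f q
  have hb : ∀ m : ↥L, b = conjA m b * (⟨(m : K)⁻¹ * α m, hc m m.2⟩ : ↥A) ^ H.index := by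
    intro m
    have h1 : b = ∏ q, f (m⁻¹ • q) :=
      (Equiv.prod_comp (MulAction.toPerm m⁻¹ : Equiv.Perm (↥L ⧸ H)) f).symm
    have h2 : ∀ q, f (m⁻¹ • q) = conjA m (f q) * (⟨(m : K)⁻¹ * α m, hc m m.2⟩ : ↥A) := fun q =>
      Subtype.ext (hrel m q)
    have h3 : ∏ q, f (m⁻¹ • q) = conjA m b * (⟨(m : K)⁻¹ * α m, hc m m.2⟩ : ↥A) ^ H.index := by
      rw [Finset.prod_congr rfl (fun q _ => h2 q), Finset.prod_mul_distrib, Finset.prod_const,
        Finset.card_univ, index_eq_card, Nat.card_eq_fintype_card, map_prod]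
    rw [← h3]
    exact h1
  -- invert the odd number
  obtain ⟨n, hn⟩ := IsPGroup.iff_card.mp hA2
  have hcop : Nat.Coprime H.index (Nat.card ↥A) := by
    rw [hn]
    exact (Nat.Coprime.pow_right n (Nat.coprime_two_right.mpr hodd))
  obtain ⟨j, hj⟩ : ∃ j : ℤ, ∀ a : ↥A, (a ^ H.index) ^ j = a := by
    refine ⟨Nat.gcdA H.index (Nat.card ↥A), fun a => ?_⟩
    have h1 := Nat.gcd_eq_gcd_ab H.index (Nat.card ↥A)
    rw [hcop] at h1
    have h2 : a ^ (Nat.card ↥A) = 1 := pow_card_eq_one'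
    calc (a ^ H.index) ^ (Nat.gcdA H.index (Nat.card ↥A))
        = a ^ ((H.index : ℤ) * Nat.gcdA H.index (Nat.card ↥A)) := by rw [zpow_mul, zpow_natCast]
      _ = a ^ ((H.index : ℤ) * Nat.gcdA H.index (Nat.card ↥A)) *
          (a ^ (Nat.card ↥A)) ^ (Nat.gcdB H.index (Nat.card ↥A)) := by rw [h2, one_zpow, mul_one]
      _ = a ^ ((H.index : ℤ) * Nat.gcdA H.index (Nat.card ↥A) +
          (Nat.card ↥A : ℤ) * Nat.gcdB H.index (Nat.card ↥A)) := by
          rw [zpow_add, zpow_mul a (Nat.card ↥A : ℤ), zpow_natCast]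
      _ = a := by rw [← h1]; simp
  refine ⟨(b ^ j : ↥A), (b ^ j).2, ?_⟩
  intro l hl
  have h1 := hb ⟨l, hl⟩
  have h2 : b ^ j = conjA ⟨l, hl⟩ (b ^ j) * (⟨l⁻¹ * α l, hc l hl⟩ : ↥A) := by
    calc b ^ j = (conjA ⟨l, hl⟩ b * (⟨l⁻¹ * α l, hc l hl⟩ : ↥A) ^ H.index) ^ j := by rw [← h1]
      _ = (conjA ⟨l, hl⟩ b) ^ j * ((⟨l⁻¹ * α l, hc l hl⟩ : ↥A) ^ H.index) ^ j := by rw [mul_zpow]
      _ = _ := by rw [hj, map_zpow]
  have h3 : ((b ^ j : ↥A) : K) = l⁻¹ * (b ^ j : ↥A) * l * (l⁻¹ * α l) := congrArg Subtype.val h2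
  calc α l = ((b ^ j : ↥A) : K)⁻¹ * l * (l⁻¹ * (b ^ j : ↥A) * l * (l⁻¹ * α l)) := by group
    _ = ((b ^ j : ↥A) : K)⁻¹ * l * (b ^ j : ↥A) := by rw [← h3]

/-- **(F1) from two local subgroups.** `P = C(z)`, `C_P(R) ≤ Z(P) ∩ R`, `L ≤ N(A)`, `C(A) = A`. -/
theorem fOne_of_local [Finite K] {S R A L : Subgroup K} {z : K} (hS2 : IsPGroup 2 ↥S) (hodd : Odd S.index)
    (hRS : R ≤ S) (hSz : ∀ s ∈ S, s * z = z * s)
    (hRn : ∀ p, p * z = z * p → ∀ r ∈ R, p * r * p⁻¹ ∈ R)
    (hCR : ∀ x, x * z = z * x → (∀ r ∈ R, x * r = r * x) → x ∈ R ∧ ∀ p, p * z = z * p → x * p = p * x)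
    (hAS : A ≤ S) (hCA : ∀ x, (∀ a ∈ A, x * a = a * x) ↔ x ∈ A)
    (hAL : ∀ l ∈ L, ∀ a ∈ A, l * a * l⁻¹ ∈ A) (hoddL : Odd ((S.subgroupOf L).index))
    (hza : ∀ a ∈ A, (∀ s ∈ S, s ∈ L → s * a = a * s) → ∀ p, p * z = z * p → a * p = p * a)
    (hgen : ∀ H : Subgroup K, (∀ p, p * z = z * p → p ∈ H) → L ≤ H → H = ⊤)
    (α : MulAut K) (hα : ∀ s ∈ S, α s = s) :
    ∃ k ∈ S, (∀ s ∈ S, s * k = k * s) ∧ ∀ x, α x = k * x * k⁻¹ := by
  classical
  have hzS : z ∈ S := by
    -- `z` commutes with `S`, and `S` is a Sylow subgroup: not needed, `z ∈ R` follows from `hCR`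
    refine hRS (hCR z rfl ?_).1
    intro r hr
    exact (hSz r (hRS hr)).symm
  have hαz : α z = z := hα z hzS
  -- step 1: `α` centralizes `P`
  have hP : ∀ p, p * z = z * p → α p = p := by
    let P : Subgroup K := centralizer ({z} : Set K)
    have hPm : ∀ p, p ∈ P ↔ p * z = z * p := fun p => mem_centralizer_singleton_iff
    -- `p⁻¹ α(p)` centralizes `R`
    have h1 : ∀ p, p * z = z * p → p⁻¹ * α p * z = z * (p⁻¹ * α p) ∧ ∀ r ∈ R, p⁻¹ * α p * r = r * (p⁻¹ * α p) := by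
      intro p hp
      have hpz : p⁻¹ * z = z * p⁻¹ := by
        calc p⁻¹ * z = p⁻¹ * (z * p) * p⁻¹ := by group
          _ = p⁻¹ * (p * z) * p⁻¹ := by rw [hp]
          _ = z * p⁻¹ := by group
      have hαp : α p * z = z * α p := by
        have h2 := congrArg α hp
        rwa [map_mul, map_mul, hαz] at h2
      refine ⟨?_, ?_⟩
      · calc p⁻¹ * α p * z = p⁻¹ * (α p * z) := by group
          _ = p⁻¹ * z * α p := by rw [hαp]; group
          _ = z * (p⁻¹ * α p) := by rw [hpz]; group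
      · intro r hr
        have h2 := hRn p hp r hr
        have h3 := hα _ (hRS h2)
        rw [map_mul, map_mul, map_inv, hα r (hRS hr)] at h3
        calc p⁻¹ * α p * r = p⁻¹ * (α p * r * (α p)⁻¹) * α p := by group
          _ = p⁻¹ * (p * r * p⁻¹) * α p := by rw [h3]
          _ = r * (p⁻¹ * α p) := by group
    let f : ↥P →* K :=
      { toFun := fun p => (p : K)⁻¹ * α p
        map_one' := by simp
        map_mul' := by
          intro p q
          have hp := (hPm p).mp p.2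
          have hq := (hPm q).mp q.2
          have h2 := (hCR _ (h1 p hp).1 (h1 p hp).2).2 q hq
          show ((p : K) * q)⁻¹ * α ((p : K) * q) = (p : K)⁻¹ * α p * ((q : K)⁻¹ * α q)
          calc ((p : K) * q)⁻¹ * α ((p : K) * q) = (q : K)⁻¹ * ((p : K)⁻¹ * α p) * α q := by
                rw [map_mul]; group
            _ = (q : K)⁻¹ * ((p : K)⁻¹ * α p * q) * ((q : K)⁻¹ * α q) := by group
            _ = (q : K)⁻¹ * (q * ((p : K)⁻¹ * α p)) * ((q : K)⁻¹ * α q) := by rw [h2]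
            _ = _ := by group }
    have hfR : ∀ p : ↥P, f p ∈ R := fun p => (hCR _ (h1 p ((hPm p).mp p.2)).1 (h1 p ((hPm p).mp p.2)).2).1
    have hSP : S ≤ P := fun s hs => (hPm s).mpr (hSz s hs)
    -- the kernel has odd index, the image is a 2-group
    have hker : S.subgroupOf P ≤ f.ker := by
      intro s hs
      rw [mem_subgroupOf] at hs
      rw [MonoidHom.mem_ker]
      show ((s : ↥P) : K)⁻¹ * α s = 1
      rw [hα _ hs, inv_mul_cancel]
    have hko : Odd f.ker.index := by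
      have h2 : Odd (S.subgroupOf P).index := by
        have h3 : (S.subgroupOf P).index ∣ S.index := by
          have h4 := relIndex_mul_index hSP
          exact Dvd.intro _ h4
        exact hodd.of_dvd_nat h3
      exact h2.of_dvd_nat (index_dvd_of_le hker)
    have hrange : IsPGroup 2 ↥f.range := by
      have h2 : f.range ≤ R := by
        rintro _ ⟨p, rfl⟩
        exact hfR p
      exact (hS2.to_le hRS).to_le h2
    have hcard : f.ker.index = Nat.card ↥f.range := index_ker f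
    obtain ⟨n, hn⟩ := IsPGroup.iff_card.mp hrange
    rw [hcard, hn] at hko
    have hn0 : n = 0 := by
      by_contra h2
      rcases Nat.exists_eq_succ_of_ne_zero h2 with ⟨m, rfl⟩
      rw [pow_succ] at hko
      exact absurd hko (by simp)
    rw [hn0, pow_zero, ] at hn
    have hbot : f.range = ⊥ := card_eq_one.mp hn
    intro p hp
    have h2 : f ⟨p, (hPm p).mpr hp⟩ ∈ f.range := ⟨_, rfl⟩
    rw [hbot, mem_bot] at h2
    have h3 : p⁻¹ * α p = 1 := h2
    calc α p = p * (p⁻¹ * α p) := by group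
      _ = p := by rw [h3, mul_one]
  -- step 2: `α` on `L`
  have hcL : ∀ l ∈ L, l⁻¹ * α l ∈ A := by
    intro l hl
    rw [← hCA]
    intro a ha
    have h2 := hAL l hl a ha
    have h3 := hα _ (hAS h2)
    rw [map_mul, map_mul, map_inv, hα a (hAS ha)] at h3
    calc l⁻¹ * α l * a = l⁻¹ * (α l * a * (α l)⁻¹) * α l := by group
      _ = l⁻¹ * (l * a * l⁻¹) * α l := by rw [h3]
      _ = a * (l⁻¹ * α l) := by group
  have hAab : ∀ a ∈ A, ∀ b ∈ A, a * b = b * a := fun a ha b hb => (hCA a).mpr ha b hb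
  obtain ⟨a, ha, hal⟩ := exists_inner_of_avg (hS2.to_le hAS) hAab hAL hoddL hcL (fun s hs _ => hα s hs)
  have haS : ∀ s ∈ S, s ∈ L → s * a = a * s := by
    intro s hs hsL
    have h2 := hal s hsL
    rw [hα s hs] at h2
    calc s * a = (a * a⁻¹) * s * a := by group
      _ = a * (a⁻¹ * s * a) := by group
      _ = a * s := by rw [← h2]
  have haP := hza a ha haS
  -- step 3: they agree on `K`
  have haz : a * z = z * a := haP z rfl
  let H : Subgroup K :=
    { carrier := {x | α x = a⁻¹ * x * a}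
      one_mem' := by show α 1 = a⁻¹ * 1 * a; simp
      mul_mem' := by
        intro x y hx hy
        show α (x * y) = a⁻¹ * (x * y) * a
        have h2 : α x = a⁻¹ * x * a := hx
        have h3 : α y = a⁻¹ * y * a := hy
        rw [map_mul, h2, h3]; group
      inv_mem' := by
        intro x hx
        show α x⁻¹ = a⁻¹ * x⁻¹ * a
        have h2 : α x = a⁻¹ * x * a := hx
        rw [map_inv, h2]; group }
  have hH : H = ⊤ := by
    refine hgen H ?_ ?_
    · intro p hp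
      show α p = a⁻¹ * p * a
      rw [hP p hp]
      have h2 := haP p hp
      calc p = a⁻¹ * (a * p) := by group
        _ = a⁻¹ * p * a := by rw [h2]; group
    · intro l hl
      exact hal l hl
  refine ⟨a⁻¹, S.inv_mem (hAS ha), ?_, ?_⟩
  · intro s hs
    have h2 := haP s (hSz s hs)
    calc s * a⁻¹ = a⁻¹ * (a * s) * a⁻¹ := by group
      _ = a⁻¹ * (s * a) * a⁻¹ := by rw [h2]
      _ = a⁻¹ * s := by group
  · intro x
    have h2 : x ∈ H := by rw [hH]; exact mem_top _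
    have h3 : α x = a⁻¹ * x * a := h2
    rw [h3, inv_inv]

/-- (F1) for one Sylow subgroup is enough. -/
theorem FOneK.of_one [Finite K] (S : Sylow 2 K)
    (h : ∀ α : MulAut K, (∀ s ∈ (S : Subgroup K), α s = s) →
      ∃ k ∈ (S : Subgroup K), (∀ s ∈ (S : Subgroup K), s * k = k * s) ∧ ∀ x, α x = k * x * k⁻¹) : FOneK K := by
  intro T α _ hα
  obtain ⟨g, hg⟩ := MulAction.exists_smul_eq K S T
  have hmem : ∀ x, x ∈ (T : Subgroup K) ↔ g⁻¹ * x * g ∈ (S : Subgroup K) := by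
    intro x
    rw [← hg, Sylow.coe_subgroup_smul, Subgroup.mem_pointwise_smul_iff_inv_smul_mem, ← map_inv,
      MulAut.smul_def, MulAut.conj_apply, inv_inv]
  have hmem' : ∀ x, x ∈ (S : Subgroup K) → g * x * g⁻¹ ∈ (T : Subgroup K) := by
    intro x hx
    rw [hmem]
    have h1 : g⁻¹ * (g * x * g⁻¹) * g = x := by group
    rwa [h1]
  have hap : ∀ (β : MulAut K) (x : K), pullAut (MulAut.conj g) β x = g⁻¹ * β (g * x * g⁻¹) * g := by
    intro β x
    rw [pullAut_apply, MulAut.conj_apply]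
    show (MulAut.conj g).symm _ = _
    rw [MulAut.conj_symm_apply]
  obtain ⟨k, hk, hkc, hka⟩ := h (pullAut (MulAut.conj g) α) (by
    intro s hs
    rw [hap, hα _ (hmem' s hs)]
    group)
  refine ⟨g * k * g⁻¹, hmem' k hk, ?_, ?_⟩
  · intro s hs
    have h1 := hkc _ ((hmem s).mp hs)
    calc s * (g * k * g⁻¹) = g * ((g⁻¹ * s * g) * k) * g⁻¹ := by group
      _ = g * (k * (g⁻¹ * s * g)) * g⁻¹ := by rw [h1]
      _ = g * k * g⁻¹ * s := by group
  · intro x
    have h1 := hka (g⁻¹ * x * g)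
    rw [hap] at h1
    have h2 : g * (g⁻¹ * x * g) * g⁻¹ = x := by group
    rw [h2] at h1
    calc α x = g * (g⁻¹ * α x * g) * g⁻¹ := by group
      _ = g * (k * (g⁻¹ * x * g) * k⁻¹) * g⁻¹ := by rw [h1]
      _ = g * k * g⁻¹ * x * (g * k * g⁻¹)⁻¹ := by group

/-- **no strongly embedded subgroup** from `K = ⟨C(z), C(w)⟩`. -/
theorem NoSEK.of_gen [Finite K] {S : Sylow 2 K} {z w : K} (hz : z ∈ (S : Subgroup K)) (hw : w ∈ (S : Subgroup K))
    (z2 : z * z = 1) (z1 : z ≠ 1) (w2 : w * w = 1) (w1 : w ≠ 1)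
    (hgen : ∀ H : Subgroup K, (∀ p, p * z = z * p → p ∈ H) → (∀ p, p * w = w * p → p ∈ H) → H = ⊤) : NoSEK K := by
  intro D hD T hT hc
  obtain ⟨g, hg⟩ := MulAction.exists_smul_eq K S T
  have hmem : ∀ x, x ∈ (T : Subgroup K) ↔ g⁻¹ * x * g ∈ (S : Subgroup K) := by
    intro x
    rw [← hg, Sylow.coe_subgroup_smul, Subgroup.mem_pointwise_smul_iff_inv_smul_mem, ← map_inv,
      MulAut.smul_def, MulAut.conj_apply, inv_inv]
  have hmem' : ∀ x, x ∈ (S : Subgroup K) → g * x * g⁻¹ ∈ (T : Subgroup K) := by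
    intro x hx
    rw [hmem]
    have h1 : g⁻¹ * (g * x * g⁻¹) * g = x := by group
    rwa [h1]
  have key : ∀ s ∈ (S : Subgroup K), s * s = 1 → s ≠ 1 → ∀ p, p * s = s * p →
      p ∈ D.comap (MulAut.conj g).toMonoidHom := by
    intro s hs s2 s1 p hp
    show g * p * g⁻¹ ∈ D
    refine hc (g * s * g⁻¹) (hmem' s hs) ?_ ?_ _ ?_
    · calc g * s * g⁻¹ * (g * s * g⁻¹) = g * (s * s) * g⁻¹ := by group
        _ = 1 := by rw [s2]; group
    · intro h1
      apply s1
      calc s = g⁻¹ * (g * s * g⁻¹) * g := by group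
        _ = 1 := by rw [h1]; group
    · calc g * p * g⁻¹ * (g * s * g⁻¹) = g * (p * s) * g⁻¹ := by group
        _ = g * (s * p) * g⁻¹ := by rw [hp]
        _ = g * s * g⁻¹ * (g * p * g⁻¹) := by group
  have h1 := hgen (D.comap (MulAut.conj g).toMonoidHom) (key z hz z2 z1) (key w hw w2 w1)
  apply hD
  rw [eq_top_iff]
  intro x _
  have h2 : g⁻¹ * x * g ∈ D.comap (MulAut.conj g).toMonoidHom := by rw [h1]; exact mem_top _
  have h3 : g * (g⁻¹ * x * g) * g⁻¹ ∈ D := h2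
  have h4 : g * (g⁻¹ * x * g) * g⁻¹ = x := by group
  rwa [h4] at h3

end Cfsg.Agent.OddHalf.D4.Small

end

-- merged: Cfsg.Agent.OddHalf.D4.Small.Core
section

/-!
# ODD, D4, small Lie odd: `Sheet0` from element-wise facts

`Core K S R z`: `S` is a 2-subgroup of odd index; `R` is the largest normal 2-subgroup of `C(z)` in the form
"`x ∈ S` and all its `C(z)`-conjugates in `S` ⇒ `x ∈ R`".
-/

set_option autoImplicit false

namespace Cfsg.Agent.OddHalf.D4.Small

open Subgroup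

universe u

structure Core (K : Type u) [Group K] (S R : Subgroup K) (z : K) : Prop where
  two : IsPGroup 2 ↥S
  odd : Odd S.index
  z2 : z * z = 1
  z1 : z ≠ 1
  zR : z ∈ R
  RS : R ≤ S
  zc : ∀ s ∈ S, s * z = z * s
  uniq : ∀ x ∈ S, x * x = 1 → x ≠ 1 → (∀ s ∈ S, s * x = x * s) → x = z
  Rn : ∀ p, p * z = z * p → ∀ r ∈ R, p * r * p⁻¹ ∈ R
  core : ∀ x ∈ S, (∀ g, g * z = z * g → g * x * g⁻¹ ∈ S) → x ∈ R

variable {K : Type u} [Group K] {S R : Subgroup K} {z : K}

/-- `S` as a Sylow subgroup -/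
noncomputable def Core.syl [Finite K] (h : Core K S R z) : Sylow 2 K :=
  have : Fact (Nat.Prime 2) := ⟨Nat.prime_two⟩
  h.two.toSylow (by
    intro h2
    exact (Nat.not_even_iff_odd.mpr h.odd) (even_iff_two_dvd.mpr h2))

theorem Core.coe_syl [Finite K] (h : Core K S R z) : (h.syl : Subgroup K) = S := rfl

theorem Core.le_of_norm [Finite K] (h : Core K S R z) {N : Subgroup K} (hN : IsPGroup 2 ↥N)
    (hn : ∀ g, g * z = z * g → ∀ n ∈ N, g * n * g⁻¹ ∈ N) : N ≤ R := by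
  have h1 : S ≤ normalizer (N : Set K) := by
    intro s hs
    rw [mem_normalizer_iff]
    intro x
    constructor
    · exact hn s (h.zc s hs) x
    · intro hx
      have h2 := hn s⁻¹ (h.zc _ (S.inv_mem hs)) _ hx
      have h3 : s⁻¹ * (s * x * s⁻¹) * s⁻¹⁻¹ = x := by group
      rwa [h3] at h2
  have h2 : IsPGroup 2 ↥(N ⊔ S) := hN.to_sup_of_normal_left' h.two h1
  have h3 : N ⊔ S = S := h.syl.is_maximal' h2 le_sup_right
  have h4 : N ≤ S := by rw [← h3]; exact le_sup_left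
  intro x hx
  exact h.core x (h4 hx) (fun g hg => h4 (hn g hg x hx))

theorem Core.sheet0 [Finite K] (h : Core K S R z) : Sheet0 K S R z where
  z2 := h.z2
  z1 := h.z1
  zR := h.zR
  RS := h.RS
  zc := h.zc
  uniq := h.uniq
  Rn := h.Rn
  char := by
    intro α hα r hr
    have hN : IsPGroup 2 ↥(R.map α.toMonoidHom) := (h.two.to_le h.RS).map _
    refine h.le_of_norm hN ?_ ⟨r, hr, rfl⟩
    rintro g hg _ ⟨x, hx, rfl⟩
    refine ⟨α.symm g * x * (α.symm g)⁻¹, ?_, ?_⟩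
    · apply h.Rn _ _ x hx
      apply α.injective
      rw [map_mul, map_mul, α.apply_symm_apply, hα, hg]
    · show α (α.symm g * x * (α.symm g)⁻¹) = g * α x * g⁻¹
      rw [map_mul, map_mul, map_inv, α.apply_symm_apply]

/-- step 1 of (F1): an automorphism trivial on `S` is trivial on `C(z)` if `C_P(R) ≤ R ∩ Z(P)`. -/
theorem Core.fix [Finite K] (h : Core K S R z)
    (hCR : ∀ x, x * z = z * x → (∀ r ∈ R, x * r = r * x) → x ∈ R ∧ ∀ p, p * z = z * p → x * p = p * x)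
    {α : MulAut K} (hα : ∀ s ∈ S, α s = s) : ∀ p, p * z = z * p → α p = p := by
  -- apply `fOne_of_local` inside `C(z)`
  let P : Subgroup K := centralizer ({z} : Set K)
  have hPm : ∀ p, p ∈ P ↔ p * z = z * p := fun p => mem_centralizer_singleton_iff
  have hαz : α z = z := hα z (h.RS h.zR)
  have h1 : ∀ p, p * z = z * p → p⁻¹ * α p * z = z * (p⁻¹ * α p) ∧ ∀ r ∈ R, p⁻¹ * α p * r = r * (p⁻¹ * α p) := by
    intro p hp
    have hpz : p⁻¹ * z = z * p⁻¹ := by
      calc p⁻¹ * z = p⁻¹ * (z * p) * p⁻¹ := by group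
        _ = p⁻¹ * (p * z) * p⁻¹ := by rw [hp]
        _ = z * p⁻¹ := by group
    have hαp : α p * z = z * α p := by
      have h2 := congrArg α hp
      rwa [map_mul, map_mul, hαz] at h2
    refine ⟨?_, ?_⟩
    · calc p⁻¹ * α p * z = p⁻¹ * (α p * z) := by group
        _ = p⁻¹ * z * α p := by rw [hαp]; group
        _ = z * (p⁻¹ * α p) := by rw [hpz]; group
    · intro r hr
      have h2 := h.Rn p hp r hr
      have h3 := hα _ (h.RS h2)
      rw [map_mul, map_mul, map_inv, hα r (h.RS hr)] at h3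
      calc p⁻¹ * α p * r = p⁻¹ * (α p * r * (α p)⁻¹) * α p := by group
        _ = p⁻¹ * (p * r * p⁻¹) * α p := by rw [h3]
        _ = r * (p⁻¹ * α p) := by group
  let f : ↥P →* K :=
    { toFun := fun p => (p : K)⁻¹ * α p
      map_one' := by simp
      map_mul' := by
        intro p q
        have hp := (hPm p).mp p.2
        have hq := (hPm q).mp q.2
        have h2 := (hCR _ (h1 p hp).1 (h1 p hp).2).2 q hq
        show ((p : K) * q)⁻¹ * α ((p : K) * q) = (p : K)⁻¹ * α p * ((q : K)⁻¹ * α q)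
        calc ((p : K) * q)⁻¹ * α ((p : K) * q) = (q : K)⁻¹ * ((p : K)⁻¹ * α p) * α q := by
              rw [map_mul]; group
          _ = (q : K)⁻¹ * ((p : K)⁻¹ * α p * q) * ((q : K)⁻¹ * α q) := by group
          _ = (q : K)⁻¹ * (q * ((p : K)⁻¹ * α p)) * ((q : K)⁻¹ * α q) := by rw [h2]
          _ = _ := by group }
  have hfR : ∀ p : ↥P, f p ∈ R := fun p => (hCR _ (h1 p ((hPm p).mp p.2)).1 (h1 p ((hPm p).mp p.2)).2).1
  have hSP : S ≤ P := fun s hs => (hPm s).mpr (h.zc s hs)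
  have hker : S.subgroupOf P ≤ f.ker := by
    intro s hs
    rw [mem_subgroupOf] at hs
    rw [MonoidHom.mem_ker]
    show ((s : ↥P) : K)⁻¹ * α s = 1
    rw [hα _ hs, inv_mul_cancel]
  have hko : Odd f.ker.index := by
    have h2 : Odd (S.subgroupOf P).index := by
      have h3 : (S.subgroupOf P).index ∣ S.index := by
        have h4 := relIndex_mul_index hSP
        exact Dvd.intro _ h4
      exact h.odd.of_dvd_nat h3
    exact h2.of_dvd_nat (index_dvd_of_le hker)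
  have hrange : IsPGroup 2 ↥f.range := by
    have h2 : f.range ≤ R := by
      rintro _ ⟨p, rfl⟩
      exact hfR p
    exact (h.two.to_le h.RS).to_le h2
  have hcard : f.ker.index = Nat.card ↥f.range := index_ker f
  obtain ⟨n, hn⟩ := IsPGroup.iff_card.mp hrange
  rw [hcard, hn] at hko
  have hn0 : n = 0 := by
    by_contra h2
    rcases Nat.exists_eq_succ_of_ne_zero h2 with ⟨m, rfl⟩
    rw [pow_succ] at hko
    exact absurd hko (by simp)
  rw [hn0, pow_zero] at hn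
  have hbot : f.range = ⊥ := card_eq_one.mp hn
  intro p hp
  have h2 : f ⟨p, (hPm p).mpr hp⟩ ∈ f.range := ⟨_, rfl⟩
  rw [hbot, mem_bot] at h2
  have h3 : p⁻¹ * α p = 1 := h2
  calc α p = p * (p⁻¹ * α p) := by group
    _ = p := by rw [h3, mul_one]

/-- **`Row` from local facts**, `L = N(A) ≥ S`. `w = g z g⁻¹`, `g ∈ N(A)`, `K = ⟨C(z), C(w)⟩`. -/
theorem Core.row [Finite K] (h : Core K S R z) (hs : Sheet K S R z)
    (hCR : ∀ x, x * z = z * x → (∀ r ∈ R, x * r = r * x) → x ∈ R ∧ ∀ p, p * z = z * p → x * p = p * x)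
    {A : Subgroup K} (hAS : A ≤ S) (hCA : ∀ x, (∀ a ∈ A, x * a = a * x) ↔ x ∈ A)
    (hSA : ∀ s ∈ S, ∀ a ∈ A, s * a * s⁻¹ ∈ A)
    (hza : ∀ a ∈ A, (∀ s ∈ S, s * a = a * s) → ∀ p, p * z = z * p → a * p = p * a)
    {g w : K} (hg : ∀ a ∈ A, g * a * g⁻¹ ∈ A) (hgw : g * z * g⁻¹ = w) (hwS : w ∈ S)
    (hgen : ∀ H : Subgroup K, (∀ p, p * z = z * p → p ∈ H) → (∀ p, p * w = w * p → p ∈ H) → H = ⊤) : Row K := by
  have w2 : w * w = 1 := by
    rw [← hgw]
    calc g * z * g⁻¹ * (g * z * g⁻¹) = g * (z * z) * g⁻¹ := by group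
      _ = 1 := by rw [h.z2]; group
  have w1 : w ≠ 1 := by
    intro h1
    apply h.z1
    calc z = g⁻¹ * (g * z * g⁻¹) * g := by group
      _ = 1 := by rw [hgw, h1]; group
  refine ⟨HasSheet.of_one (S := h.syl) hs, FOneK.of_one h.syl ?_,
    NoSEK.of_gen (S := h.syl) (h.RS h.zR) hwS h.z2 h.z1 w2 w1 hgen⟩
  intro α hα
  have hnorm : ∀ x : K, (∀ a ∈ A, x * a * x⁻¹ ∈ A) → x ∈ normalizer (A : Set K) := by
    intro x hx
    exact mem_normalizer_fintype (fun a ha => hx a ha)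
  refine fOne_of_local (S := S) (R := R) (A := A) (L := normalizer (A : Set K)) (z := z) h.two h.odd h.RS h.zc
    h.Rn hCR hAS hCA (fun l hl a ha => (mem_normalizer_iff.mp hl a).mp ha) ?_ ?_ ?_ α hα
  · have hSL : S ≤ normalizer (A : Set K) := fun s hs => hnorm s (hSA s hs)
    have h3 : (S.subgroupOf (normalizer (A : Set K))).index ∣ S.index := by
      have h4 := relIndex_mul_index hSL
      exact Dvd.intro _ h4
    exact h.odd.of_dvd_nat h3
  · intro a ha has
    exact hza a ha (fun s hs => has s hs (hnorm s (hSA s hs)))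
  · intro H hP hL
    apply hgen H hP
    intro p hp
    have hgH : g ∈ H := hL (hnorm g hg)
    have h1 : g⁻¹ * p * g ∈ H := by
      apply hP
      calc g⁻¹ * p * g * z = g⁻¹ * (p * (g * z * g⁻¹)) * g := by group
        _ = g⁻¹ * ((g * z * g⁻¹) * p) * g := by rw [hgw, hp]
        _ = z * (g⁻¹ * p * g) := by group
    have h2 := H.mul_mem (H.mul_mem hgH h1) (H.inv_mem hgH)
    have h3 : g * (g⁻¹ * p * g) * g⁻¹ = p := by group
    rwa [h3] at h2

end Cfsg.Agent.OddHalf.D4.Small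

end
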