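import Cfsg.Agent.OddHalf.D4.Small.LFourDef
import Cfsg.Agent.KFacts.LFourThree.Facts
import Cfsg.Agent.ClassicalGeometry.AutPSL.Main
import Cfsg.Agent.OddHalf.D4.Small.Row
import Cfsg.Agent.OddHalf.D6.QThree.U43Tw

-- merged: Cfsg.Agent.OddHalf.D4.Small.LFourRefl
section

/-!
# ODD, D4, small Lie odd: the reflections of `PSL(4, 3)`

For a nonsingular alternating matrix `M` with `M * M = -1` the automorphism `A ↦ M A⁻ᵀ M⁻¹` of `PSL(4, 3)` is a
reflection. For `M = diag(J, J)`: `ρ`, for `M = diag(-J, J)`: `ρ ∘ conj z`.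
-/

set_option autoImplicit false

namespace Cfsg.Agent.OddHalf.D4.Small.LFourK

open Matrix
open Cfsg.Agent.KFacts.LFourThree
open Cfsg.Agent.ClassicalGeometry.AutPSL

abbrev GL4 := GL (Fin 4) F3

/-! ### General lemmas -/

section General

variable {ι F : Type*} [Fintype ι] [DecidableEq ι] [Field F]

/-- `A⁻ᵀ` -/
def tinv (A : GL ι F) : GL ι F where
  val := ((A⁻¹ : GL ι F) : Matrix ι ι F)ᵀ
  inv := (A : Matrix ι ι F)ᵀ
  val_inv := by rw [← transpose_mul, ← Units.val_mul, mul_inv_cancel, Units.val_one, transpose_one]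
  inv_val := by rw [← transpose_mul, ← Units.val_mul, inv_mul_cancel, Units.val_one, transpose_one]

theorem coe_tinv (A : GL ι F) : (tinv A : Matrix ι ι F) = ((A⁻¹ : GL ι F) : Matrix ι ι F)ᵀ := rfl

theorem tinv_mul (A : GL ι F) : (tinv A : Matrix ι ι F) * (A : Matrix ι ι F)ᵀ = 1 := by
  rw [coe_tinv, ← transpose_mul, ← Units.val_mul, mul_inv_cancel, Units.val_one, transpose_one]

theorem itr_cj (A : GL ι F) :
    (Auto.itr * Auto.cj A : MulAut (SpecialLinearGroup ι F)) = Auto.cj (tinv A) * Auto.itr := by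
  apply MulEquiv.ext
  intro g
  apply Subtype.ext
  rw [MulAut.mul_apply, MulAut.mul_apply, Auto.coe_itr, Auto.coe_cj, Auto.coe_itr]
  have h1 : (Auto.cj A g)⁻¹ = Auto.cj A g⁻¹ := (map_inv (Auto.cj A) g).symm
  rw [h1, Auto.coe_cj, transpose_mul, transpose_mul]
  show _ = ((A⁻¹ : GL ι F) : Matrix ι ι F)ᵀ * ((g⁻¹ : SpecialLinearGroup ι F) : Matrix ι ι F)ᵀ *
    (A : Matrix ι ι F)ᵀ
  rw [mul_assoc]

theorem v_mul_inv (A : SpecialLinearGroup ι F) :
    (A : Matrix ι ι F) * ((A⁻¹ : SpecialLinearGroup ι F) : Matrix ι ι F) = 1 :=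
  congrArg Subtype.val (mul_inv_cancel A)

theorem v_inv_mul (A : SpecialLinearGroup ι F) :
    ((A⁻¹ : SpecialLinearGroup ι F) : Matrix ι ι F) * (A : Matrix ι ι F) = 1 :=
  congrArg Subtype.val (inv_mul_cancel A)

/-- `SL` in `GL` -/
def tg (A : SpecialLinearGroup ι F) : GL ι F where
  val := (A : Matrix ι ι F)
  inv := ((A⁻¹ : SpecialLinearGroup ι F) : Matrix ι ι F)
  val_inv := v_mul_inv A
  inv_val := v_inv_mul A

theorem coe_tg (A : SpecialLinearGroup ι F) : (tg A : Matrix ι ι F) = A := rfl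

/-- matrices of determinant one -/
def toSL (A : Matrix ι ι F) (h : A.det = 1) : SpecialLinearGroup ι F := ⟨A, h⟩

theorem tg_toSL (A : GL ι F) (h : (A : Matrix ι ι F).det = 1) : tg (toSL (A : Matrix ι ι F) h) = A :=
  Units.ext rfl

theorem cj_tg (A B : SpecialLinearGroup ι F) : Auto.cj (tg A) B = A * B * A⁻¹ := by
  apply Subtype.ext
  rw [Auto.coe_cj]
  rfl

theorem lift_tg' (A : SpecialLinearGroup ι F) : Auto.lift (Auto.cj (tg A)) = MulAut.conj (Root.pr A) := by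
  apply MulEquiv.ext
  intro x
  obtain ⟨B, rfl⟩ := Root.pr_surjective x
  rw [Auto.lift_pr, cj_tg, MulAut.conj_apply, map_mul, map_mul, map_inv]

/-- `ρ(A) = B` if `B M Aᵀ = M` -/
theorem cj_itr_eq {M : GL ι F} {A B : SpecialLinearGroup ι F}
    (h : (B : Matrix ι ι F) * M * (A : Matrix ι ι F)ᵀ = M) : Auto.cj M (Auto.itr A) = B := by
  apply Subtype.ext
  rw [Auto.coe_cj, Auto.coe_itr]
  have h1 : (A : Matrix ι ι F)ᵀ * ((A⁻¹ : SpecialLinearGroup ι F) : Matrix ι ι F)ᵀ = 1 := by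
    rw [← transpose_mul, v_inv_mul, transpose_one]
  have h2 : (M : Matrix ι ι F) * ((A⁻¹ : SpecialLinearGroup ι F) : Matrix ι ι F)ᵀ = (B : Matrix ι ι F) * M := by
    have h3 : (B : Matrix ι ι F) * M * (A : Matrix ι ι F)ᵀ * ((A⁻¹ : SpecialLinearGroup ι F) : Matrix ι ι F)ᵀ =
        (B : Matrix ι ι F) * M := by
      rw [mul_assoc, h1, mul_one]
    rwa [h] at h3
  rw [h2, mul_assoc, ← Units.val_mul, mul_inv_cancel, Units.val_one, mul_one]

/-- `lift (cj A) = lift (cj B)` -/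
theorem scalar_of_eq [Nontrivial ι] {A B : GL ι F} (h : Auto.lift (Auto.cj A) = Auto.lift (Auto.cj B)) :
    ∃ c : F, c ≠ 0 ∧ (A : Matrix ι ι F) = c • (B : Matrix ι ι F) := by
  have hf : (Auto.fld (RingEquiv.refl F) : MulAut (SpecialLinearGroup ι F)) = 1 := map_one Auto.fld
  have h1 : Auto.lift (Auto.cj (B⁻¹ * A) * Auto.fld (RingEquiv.refl F)) =
      Auto.lift (Auto.fld (RingEquiv.refl F)) := by
    rw [hf, mul_one, map_mul, map_inv, map_mul, map_inv, h, inv_mul_cancel, map_one]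
  obtain ⟨⟨r, hr⟩, -⟩ := Main.injective_aux h1
  have h2 : (A : Matrix ι ι F) = r • (B : Matrix ι ι F) := by
    have h3 : (A : Matrix ι ι F) = (B : Matrix ι ι F) * ((B⁻¹ * A : GL ι F) : Matrix ι ι F) := by
      rw [← Units.val_mul, mul_inv_cancel_left]
    rw [h3, ← hr, scalar_apply, ← smul_one_eq_diagonal, Matrix.mul_smul, mul_one]
  refine ⟨r, ?_, h2⟩
  rintro rfl
  rw [zero_smul] at h2
  have h3 : (A : Matrix ι ι F) * ((A⁻¹ : GL ι F) : Matrix ι ι F) = 1 := by
    rw [← Units.val_mul, mul_inv_cancel, Units.val_one]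
  rw [h2, zero_mul] at h3
  obtain ⟨i⟩ : Nonempty ι := inferInstance
  have h4 := congrFun (congrFun h3 i) i
  rw [one_apply_eq] at h4
  exact zero_ne_one h4

theorem lift_not (hι : 3 ≤ Fintype.card ι) {A B : GL ι F}
    (h : Auto.lift (Auto.cj A * Auto.itr) = Auto.lift (Auto.cj B)) : False := by
  have hf : (Auto.fld (RingEquiv.refl F) : MulAut (SpecialLinearGroup ι F)) = 1 := map_one Auto.fld
  apply Main.not_graph hι (C := B⁻¹ * A) (σ := RingEquiv.refl F) (τ := RingEquiv.refl F)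
  rw [hf, mul_one, map_one, map_mul Auto.cj, map_inv, mul_assoc, map_mul, h, ← map_mul, inv_mul_cancel,
    map_one]

/-- an automorphism `lift (cj A)` commuting with `lift (cj M * itr)` -/
theorem comm_itr [Nontrivial ι] {A M : GL ι F}
    (hc : Auto.lift (Auto.cj A) * Auto.lift (Auto.cj M * Auto.itr) =
      Auto.lift (Auto.cj M * Auto.itr) * Auto.lift (Auto.cj A)) :
    ∃ c : F, c ≠ 0 ∧ (A : Matrix ι ι F) * M * (A : Matrix ι ι F)ᵀ = c • (M : Matrix ι ι F) := by
  have h1 : Auto.lift (Auto.cj (A * M)) = Auto.lift (Auto.cj (M * tinv A)) := by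
    have h2 : Auto.lift (Auto.cj (A * M)) * Auto.lift Auto.itr =
        Auto.lift (Auto.cj (M * tinv A)) * Auto.lift Auto.itr := by
      rw [← map_mul, ← map_mul, map_mul Auto.cj, map_mul Auto.cj, mul_assoc, mul_assoc, ← itr_cj,
        ← mul_assoc (Auto.cj M), map_mul, map_mul Auto.lift (Auto.cj M * Auto.itr)]
      exact hc
    exact mul_right_cancel h2
  obtain ⟨c, hc0, h3⟩ := scalar_of_eq h1
  refine ⟨c, hc0, ?_⟩
  rw [← Units.val_mul, h3, Units.val_mul, Matrix.smul_mul, mul_assoc, tinv_mul, mul_one]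

end General

theorem lift_tg (A : SL4) : Auto.lift (Auto.cj (tg A)) = MulAut.conj (pr A) := lift_tg' A

theorem fld_eq_one (σ : F3 ≃+* F3) : σ = RingEquiv.refl F3 := by
  apply RingEquiv.ext
  intro x
  have h := RingHom.congr_fun (Subsingleton.elim (σ : F3 →+* F3) (RingHom.id F3)) x
  exact h

theorem fld_one : (Auto.fld (RingEquiv.refl F3) : MulAut SL4) = 1 := map_one Auto.fld

/-- the automorphisms of `PSL(4, 3)` -/
theorem forms (γ : MulAut L) : (∃ A : GL4, γ = Auto.lift (Auto.cj A)) ∨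
    ∃ A : GL4, γ = Auto.lift (Auto.cj A * Auto.itr) := by
  rcases Main.surj_three 3 (by norm_num) γ with ⟨A, σ, h⟩ | ⟨A, σ, h⟩
  · left
    refine ⟨A, ?_⟩
    rw [h, fld_eq_one σ, fld_one, mul_one]
  · right
    refine ⟨A, ?_⟩
    rw [h, fld_eq_one σ, fld_one, mul_one]

/-! ### Nice alternating matrices -/

structure Nice (M : GL4) : Prop where
  tr : (M : M4)ᵀ = (2 : F3) • (M : M4)
  sq : (M : M4) * M = (2 : F3) • (1 : M4)
  pf : ∀ A : M4, ∀ c : F3, c ≠ 0 → A * M * Aᵀ = c • (M : M4) → A.det = 1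
  inv : ∃ A B N : SL4, B.1 * M * A.1ᵀ = M ∧ A = B * N ∧ (N * N = 1 ∨ N * N = m1) ∧ N ≠ 1 ∧ N ≠ m1

/-- the reflection -/
def rf (M : GL4) : MulAut L := Auto.lift (Auto.cj M * Auto.itr)

theorem rf_pr (M : GL4) (A : SL4) : rf M (pr A) = pr (Auto.cj M (Auto.itr A)) := rfl

/-- `ρ(pr A) = pr B` if `B M Aᵀ = M` -/
theorem rf_eq {M : GL4} {A B : SL4} (h : B.1 * M * A.1ᵀ = M) : rf M (pr A) = pr B := by
  rw [rf_pr, cj_itr_eq h]

/-- `ρ(pr A) = pr B` if `B M Aᵀ = -M` -/
theorem rf_eq' {M : GL4} {A B : SL4} (h : B.1 * M * A.1ᵀ = (2 : F3) • (M : M4)) : rf M (pr A) = pr B := by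
  have h1 : (m1 * B).1 * M * A.1ᵀ = M := by
    rw [m1_val, Matrix.smul_mul, Matrix.smul_mul, h, smul_smul]
    have h2 : (2 : F3) * 2 = 1 := by decide
    rw [h2, one_smul]
  rw [rf_eq h1, map_mul, pr_m1, one_mul]

namespace Nice

variable {M : GL4}

theorem val_inv (h : Nice M) : ((M⁻¹ : GL4) : M4) = (2 : F3) • (M : M4) := by
  have h1 : (M : M4) * ((2 : F3) • (M : M4)) = 1 := by
    rw [Matrix.mul_smul, h.sq, smul_smul]
    have h2 : (2 : F3) * 2 = 1 := by decide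
    rw [h2, one_smul]
  have h2 : ((M⁻¹ : GL4) : M4) * (M : M4) = 1 := by rw [← Units.val_mul, inv_mul_cancel, Units.val_one]
  calc ((M⁻¹ : GL4) : M4) = ((M⁻¹ : GL4) : M4) * ((M : M4) * ((2 : F3) • (M : M4))) := by rw [h1, mul_one]
    _ = (2 : F3) • (M : M4) := by rw [← mul_assoc, h2, one_mul]

theorem tinv_eq (h : Nice M) : tinv M = M := by
  apply Units.ext
  show ((M⁻¹ : GL4) : M4)ᵀ = M
  rw [h.val_inv, transpose_smul, h.tr, smul_smul]
  have h2 : (2 : F3) * 2 = 1 := by decide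
  rw [h2, one_smul]

theorem sq' (h : Nice M) : (Auto.cj M * Auto.itr) * (Auto.cj M * Auto.itr) = (1 : MulAut SL4) := by
  have h1 : Auto.cj (M * M) = (1 : MulAut SL4) := by
    apply Main.cj_eq_one_of_scalar (r := (2 : F3))
    rw [Units.val_mul, h.sq, scalar_apply, ← smul_one_eq_diagonal]
  calc (Auto.cj M * Auto.itr) * (Auto.cj M * Auto.itr) = Auto.cj M * (Auto.itr * Auto.cj M) * Auto.itr := by
        simp only [mul_assoc]
    _ = (Auto.cj M * Auto.cj M) * (Auto.itr * Auto.itr) := by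
        rw [itr_cj, h.tinv_eq]; simp only [mul_assoc]
    _ = 1 := by rw [← map_mul, h1, Auto.itr_mul_itr, mul_one]

theorem rf_sq (h : Nice M) : rf M * rf M = 1 := by
  rw [rf, ← map_mul, h.sq', map_one]

theorem rf_rf (h : Nice M) (x : L) : rf M (rf M x) = x := by
  rw [← MulAut.mul_apply, h.rf_sq, MulAut.one_apply]

/-- (R5), inner-diagonal part -/
theorem inner (h : Nice M) {A : GL4} (hc : Auto.lift (Auto.cj A) * rf M = rf M * Auto.lift (Auto.cj A)) :
    ∃ B : SL4, Auto.lift (Auto.cj A) = MulAut.conj (pr B) := by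
  obtain ⟨c, hc0, h4⟩ := comm_itr hc
  have h6 := h.pf _ c hc0 h4
  refine ⟨toSL (A : M4) h6, ?_⟩
  rw [← lift_tg, tg_toSL]

theorem isRefl (h : Nice M) : LFour.IsRefl L (rf M) := by
  refine ⟨h.rf_rf, ?_, ?_, ?_⟩
  · intro k hk
    obtain ⟨A, rfl⟩ := pr_surj k
    have h1 : rf M = Auto.lift (Auto.cj (tg A)) := by
      rw [lift_tg]
      apply MulEquiv.ext
      intro x
      rw [hk x, MulAut.conj_apply]
    exact lift_not (by simp) h1
  · obtain ⟨A, B, N, h1, h2, h3, h4, h5⟩ := h.inv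
    have h6 : (rf M (pr A))⁻¹ * pr A = pr N := by
      rw [rf_eq h1, h2, map_mul, inv_mul_cancel_left]
    have h7 : pr N * pr N = 1 := by
      rw [← map_mul, pr_eq_one_iff]
      exact h3
    refine ⟨pr A, ?_, ?_, ?_⟩
    · rw [h6, h7]
    · rw [h6, Ne, pr_eq_one_iff]
      rintro (h8 | h8)
      · exact h4 h8
      · exact h5 h8
    · rw [map_mul, map_inv, h.rf_rf]
      have h8 : ((rf M (pr A))⁻¹ * pr A)⁻¹ = (pr A)⁻¹ * rf M (pr A) := by group
      rw [← h8, h6]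
      exact inv_eq_of_mul_eq_one_left h7
  · intro γ hγ
    have hγ' : γ * rf M = rf M * γ := by
      apply MulEquiv.ext
      intro x
      rw [MulAut.mul_apply, MulAut.mul_apply, hγ]
    rcases forms γ with ⟨A, rfl⟩ | ⟨A, rfl⟩
    · left
      obtain ⟨B, hB⟩ := h.inner hγ'
      refine ⟨pr B, ?_⟩
      intro x
      rw [hB, MulAut.conj_apply]
    · right
      have h1 : Auto.lift (Auto.cj A * Auto.itr) * rf M = Auto.lift (Auto.cj (A * M)) := by
        rw [rf, ← map_mul, mul_assoc, ← mul_assoc Auto.itr, itr_cj, h.tinv_eq, mul_assoc, Auto.itr_mul_itr,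
          mul_one, map_mul Auto.cj]
      have h2 : Auto.lift (Auto.cj (A * M)) * rf M = rf M * Auto.lift (Auto.cj (A * M)) := by
        rw [← h1, mul_assoc, h.rf_sq, mul_one, hγ', ← mul_assoc, h.rf_sq, one_mul]
      obtain ⟨B, hB⟩ := h.inner h2
      refine ⟨pr B, ?_⟩
      intro x
      rw [← MulAut.mul_apply, h1, hB, MulAut.conj_apply]

end Nice

end Cfsg.Agent.OddHalf.D4.Small.LFourK

end

-- merged: Cfsg.Agent.OddHalf.D4.Small.LFourNine
section

/-!
# ODD, D4, small Lie odd: the centraliser `Case9aa` (helper890)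

For a finite group with `Case9aa Q z i j k l x₁ x₂ y s` and any twist:
* `isQQ`: `Q = ⟨i, j⟩ * ⟨k, l⟩`;
* `syl`: `⟨i, j, k, l, y, s⟩` of order `2 ^ 7`;
* `sheet`: the sheet.
-/

set_option autoImplicit false

namespace Cfsg.Agent.OddHalf.D4.Small.NineAA

open Subgroup Cfsg.Agent.Co2Type.Quad Cfsg.Agent.LargeExtra.W2 Cfsg.Agent.LargeExtra.W2.CM
open Cfsg.Agent.LargeExtra.W2.U43 Cfsg.Agent.OddHalf.D6.QThree

variable {G : Type*} [Group G] {Q : Subgroup G} {al be ga : Bool} {z i j k l x₁ x₂ y s : G}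

/-- the element of `Q` -/
def qt (w : Qt) : T := ⟨w, C3.o, C3.o, false, false⟩

theorem ev_qt (w : Qt) : (qt w).ev z i j k l x₁ x₂ y s = w.ev z i j k l := by
  simp [T.ev, qt, pw, pw3]

/-- elements of `Q` -/
theorem exists_qt (h : Case9aa Q z i j k l x₁ x₂ y s) (R : Rules al be ga z i j k l x₁ x₂ y s) {x : G}
    (hx : x ∈ Q) : ∃ w : Qt, x = w.ev z i j k l := by
  obtain ⟨w, hw⟩ := Fusion.mem_Q h R hx
  exact ⟨w, by rw [hw, Fusion.E_tq]⟩

theorem evQ_inj [Finite G] (h : Case9aa Q z i j k l x₁ x₂ y s) (R : Rules al be ga z i j k l x₁ x₂ y s)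
    {p q : Qt} (hpq : p.ev z i j k l = q.ev z i j k l) : p = q := by
  have h1 : qt p = qt q := by
    apply ev_inj h R
    show (qt p).ev z i j k l x₁ x₂ y s = (qt q).ev z i j k l x₁ x₂ y s
    rw [ev_qt, ev_qt, hpq]
  exact congrArg T.w h1

/-! ### `Q₁`, `Q₂` -/

theorem qmul_eq (p q : Qt) : p.mul q = ⟨xor (xor p.s q.s) (xor (xor (xor (p.a && q.a) (p.b && q.b)) (p.b && q.a))
      (xor (xor (p.c && q.c) (p.d && q.d)) (p.d && q.c))),
    xor p.a q.a, xor p.b q.b, xor p.c q.c, xor p.d q.d⟩ := rfl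

/-- a finite multiplicatively closed set of elements is a subgroup -/
def ofMul [Finite G] (S : Set G) (h1 : (1 : G) ∈ S) (hm : ∀ a ∈ S, ∀ b ∈ S, a * b ∈ S) : Subgroup G where
  carrier := S
  one_mem' := h1
  mul_mem' := fun ha hb => hm _ ha _ hb
  inv_mem' := by
    intro a ha
    have h2 : ∀ n : ℕ, a ^ n ∈ S := by
      intro n
      induction n with
      | zero => rw [pow_zero]; exact h1
      | succ n ih => rw [pow_succ]; exact hm _ ih _ ha
    have h3 : a⁻¹ = a ^ (orderOf a - 1) := by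
      rw [inv_eq_iff_mul_eq_one, ← pow_succ', Nat.sub_add_cancel (orderOf_pos a), pow_orderOf_eq_one]
    rw [h3]
    exact h2 _

theorem mem_ofMul [Finite G] {S : Set G} {h1 : (1 : G) ∈ S} {hm : ∀ a ∈ S, ∀ b ∈ S, a * b ∈ S} {x : G} :
    x ∈ ofMul S h1 hm ↔ x ∈ S := Iff.rfl

variable [Finite G]

/-- `⟨i, j⟩` -/
def Q1 (R : Rules al be ga z i j k l x₁ x₂ y s) : Subgroup G :=
  ofMul {x | ∃ σ a b : Bool, x = Qt.ev z i j k l ⟨σ, a, b, false, false⟩}
    ⟨false, false, false, by simp [Qt.ev, pw]⟩ (by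
      rintro _ ⟨σ, a, b, rfl⟩ _ ⟨σ', a', b', rfl⟩
      rw [evQ_mul R]
      exact ⟨_, _, _, rfl⟩)

/-- `⟨k, l⟩` -/
def Q2 (R : Rules al be ga z i j k l x₁ x₂ y s) : Subgroup G :=
  ofMul {x | ∃ σ a b : Bool, x = Qt.ev z i j k l ⟨σ, false, false, a, b⟩}
    ⟨false, false, false, by simp [Qt.ev, pw]⟩ (by
      rintro _ ⟨σ, a, b, rfl⟩ _ ⟨σ', a', b', rfl⟩
      rw [evQ_mul R]
      exact ⟨_, _, _, rfl⟩)

theorem isQ1 (R : Rules al be ga z i j k l x₁ x₂ y s) (z1 : z ≠ 1) : IsQ z (Q1 R) := by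
  refine IsQ.mk' (i := i) (j := j) R.zz z1 ⟨false, true, false, by simp [Qt.ev, pw]⟩
    ⟨false, false, true, by simp [Qt.ev, pw]⟩ R.ii R.jj (by coll R) ?_
  rintro _ ⟨σ, a, b, rfl⟩
  have hz1 : z * i = i * z := R.zi.symm
  have hz2 : z * j = j * z := R.zj.symm
  have hz3 : z * (i * j) = i * j * z := by rw [← mul_assoc, hz1, mul_assoc, hz2, mul_assoc]
  rcases σ with _ | _ <;> rcases a with _ | _ <;> rcases b with _ | _ <;>
    simp [Qt.ev, pw, hz1, hz2, hz3]

theorem isQ2 (R : Rules al be ga z i j k l x₁ x₂ y s) (z1 : z ≠ 1) : IsQ z (Q2 R) := by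
  refine IsQ.mk' (i := k) (j := l) R.zz z1 ⟨false, true, false, by simp [Qt.ev, pw]⟩
    ⟨false, false, true, by simp [Qt.ev, pw]⟩ R.kk R.ll (by coll R) ?_
  rintro _ ⟨σ, a, b, rfl⟩
  have hz1 : z * k = k * z := R.zk.symm
  have hz2 : z * l = l * z := R.zl.symm
  have hz3 : z * (k * l) = k * l * z := by rw [← mul_assoc, hz1, mul_assoc, hz2, mul_assoc]
  rcases σ with _ | _ <;> rcases a with _ | _ <;> rcases b with _ | _ <;>
    simp [Qt.ev, pw, hz1, hz2, hz3]

theorem ev_mem (h : Case9aa Q z i j k l x₁ x₂ y s) (w : Qt) : w.ev z i j k l ∈ Q := by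
  have hz : z ∈ Q := h.large.z_mem
  have hi : i ∈ Q := by rw [h.gen]; exact subset_closure (by simp)
  have hj : j ∈ Q := by rw [h.gen]; exact subset_closure (by simp)
  have hk : k ∈ Q := by rw [h.gen]; exact subset_closure (by simp)
  have hl : l ∈ Q := by rw [h.gen]; exact subset_closure (by simp)
  have key : ∀ (b : Bool) (g : G), g ∈ Q → pw b g ∈ Q := by
    intro b g hg
    cases b
    · exact one_mem _
    · exact hg
  exact mul_mem (key _ _ hz) (mul_mem (key _ _ hi) (mul_mem (key _ _ hj) (mul_mem (key _ _ hk) (key _ _ hl))))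

/-- `Q = Q₁ * Q₂` -/
theorem isQQ (h : Case9aa Q z i j k l x₁ x₂ y s) (R : Rules al be ga z i j k l x₁ x₂ y s) :
    IsQQ z (Q1 R) (Q2 R) Q where
  q1 := isQ1 R h.large.z_ne
  q2 := isQ2 R h.large.z_ne
  le1 := by
    rintro _ ⟨σ, a, b, rfl⟩
    exact ev_mem h _
  le2 := by
    rintro _ ⟨σ, a, b, rfl⟩
    exact ev_mem h _
  com := by
    rintro _ ⟨σ, a, b, rfl⟩ _ ⟨σ', a', b', rfl⟩
    rw [evQ_mul R, evQ_mul R]
    congr 1
    cases σ <;> cases σ' <;> cases a <;> cases b <;> cases a' <;> cases b' <;> rfl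
  inf := by
    rintro _ ⟨σ, a, b, rfl⟩ ⟨σ', a', b', h1⟩
    have h2 := evQ_inj h R h1
    injection h2 with h3 h4 h5 h6 h7
    subst h4 h5
    cases σ
    · left; simp [Qt.ev, pw]
    · right; simp [Qt.ev, pw]
  mem := by
    intro r hr
    obtain ⟨w, rfl⟩ := exists_qt h R hr
    refine ⟨_, ⟨w.s, w.a, w.b, rfl⟩, _, ⟨false, w.c, w.d, rfl⟩, ?_⟩
    rw [evQ_mul R]
    congr 1
    obtain ⟨σ, a, b, c, d⟩ := w
    cases σ <;> cases a <;> cases b <;> cases c <;> cases d <;> rfl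

/-- the element `x₁` of order three -/
theorem x₁_facts (h : Case9aa Q z i j k l x₁ x₂ y s) (R : Rules al be ga z i j k l x₁ x₂ y s) :
    x₁ * z = z * x₁ ∧ x₁ * x₁ * x₁ = 1 ∧ (∀ r ∈ Q2 R, x₁ * r = r * x₁) ∧
      ∀ x ∈ Q1 R, x ≠ 1 → x ≠ z → x₁ * x * x₁⁻¹ ≠ x ∧ x₁ * x * x₁⁻¹ ≠ x * z := by
  refine ⟨R.zx, by rw [mul_assoc]; exact R.xxx, ?_, ?_⟩
  · rintro _ ⟨σ, a, b, rfl⟩
    exact ax1 R _
  · rintro _ ⟨σ, a, b, rfl⟩ h1 h2
    have e : x₁ * Qt.ev z i j k l ⟨σ, a, b, false, false⟩ * x₁⁻¹ =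
        (Qt.x1 ⟨σ, a, b, false, false⟩).ev z i j k l := by
      rw [ax1 R, mul_inv_cancel_right]
    have ez : z = Qt.ev z i j k l ⟨true, false, false, false, false⟩ := by simp [Qt.ev, pw]
    constructor
    · intro h3
      rw [e] at h3
      have h4 := evQ_inj h R h3
      injection h4 with h5 h6 h7 h8 h9
      have h6' : b = a := h6
      have h7' : xor a b = b := h7
      subst h6'
      cases b
      · cases σ
        · exact h1 (by simp [Qt.ev, pw])
        · exact h2 (by simp [Qt.ev, pw])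
      · exact absurd h7' (by decide)
    · intro h3
      rw [e] at h3
      nth_rewrite 3 [ez] at h3
      rw [evQ_mul R] at h3
      have h4 := evQ_inj h R h3
      injection h4 with h5 h6 h7 h8 h9
      have h6' : b = xor a false := h6
      have h7' : xor a b = xor b false := h7
      subst h6'
      cases a
      · cases σ
        · exact h1 (by simp [Qt.ev, pw])
        · exact h2 (by simp [Qt.ev, pw])
      · exact absurd h7' (by decide)

/-! ### The Sylow 2-subgroup -/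

/-- `⟨i, j, k, l, y, s⟩` -/
def syl (R : Rules al be ga z i j k l x₁ x₂ y s) : Subgroup G :=
  ofMul {x | ∃ t : T, t.m = C3.o ∧ t.n = C3.o ∧ x = t.ev z i j k l x₁ x₂ y s}
    ⟨T.one, rfl, rfl, ev_one.symm⟩ (by
      rintro _ ⟨t, h1, h2, rfl⟩ _ ⟨u, h3, h4, rfl⟩
      refine ⟨_, ?_, ?_, ev_mul R t u⟩
      · show t.m.add (ng t.e (bif t.f then u.n else u.m)) = C3.o
        rw [h1, h3, h4]
        cases t.e <;> cases t.f <;> rfl
      · show t.n.add (ng t.e (bif t.f then u.m else u.n)) = C3.o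
        rw [h2, h3, h4]
        cases t.e <;> cases t.f <;> rfl)

/-- `t ^ 16` -/
def p16 (al be ga : Bool) (t : T) : T :=
  let t2 := T.mul al be ga t t
  let t4 := T.mul al be ga t2 t2
  let t8 := T.mul al be ga t4 t4
  T.mul al be ga t8 t8

theorem chkP : allB (fun al => allB fun be => allB fun ga =>
    allT (fun t => !(C3.eqb t.m C3.o && C3.eqb t.n C3.o) || T.beq (p16 al be ga t) T.one)) = true := by
  decide +kernel

theorem syl_isPGroup (R : Rules al be ga z i j k l x₁ x₂ y s) : IsPGroup 2 (syl R) := by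
  rintro ⟨x, t, h1, h2, rfl⟩
  refine ⟨4, Subtype.ext ?_⟩
  show (t.ev z i j k l x₁ x₂ y s) ^ 2 ^ 4 = 1
  have h3 := allT_spec (allB_spec (allB_spec (allB_spec chkP al) be) ga) t
  rw [h1, h2, Bool.or_eq_true] at h3
  rcases h3 with h3 | h3
  · exact Bool.noConfusion h3
  · have h4 : p16 al be ga t = T.one := T.eq_of_beq h3
    have h5 : (t.ev z i j k l x₁ x₂ y s) ^ 2 ^ 4 = (p16 al be ga t).ev z i j k l x₁ x₂ y s := by
      have h6 : ∀ X : G, X ^ 2 ^ 4 = ((X * X) * (X * X) * ((X * X) * (X * X))) *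
          ((X * X) * (X * X) * ((X * X) * (X * X))) := fun X => by
        have e1 : X * X = X ^ 2 := (pow_two X).symm
        rw [e1, ← pow_add, ← pow_add, ← pow_add]; norm_num
      simp only [p16]
      rw [← ev_mul R, ← ev_mul R, ← ev_mul R, ← ev_mul R]
      exact h6 _
    rw [h5, h4, ev_one]

theorem syl_card (h : Case9aa Q z i j k l x₁ x₂ y s) (R : Rules al be ga z i j k l x₁ x₂ y s) :
    2 ^ 7 ≤ Nat.card (syl R) := by
  let f : (Bool × Bool × Bool × Bool × Bool) × Bool × Bool → syl R := fun u =>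
    ⟨T.ev z i j k l x₁ x₂ y s ⟨⟨u.1.1, u.1.2.1, u.1.2.2.1, u.1.2.2.2.1, u.1.2.2.2.2⟩, C3.o, C3.o, u.2.1, u.2.2⟩,
      ⟨_, rfl, rfl, rfl⟩⟩
  have hf : Function.Injective f := by
    intro u v huv
    have h1 := ev_inj h R (congrArg Subtype.val huv)
    injection h1 with h2 h3 h4 h5 h6
    injection h2 with g1 g2 g3 g4 g5
    obtain ⟨⟨u1, u2, u3, u4, u5⟩, u6, u7⟩ := u
    obtain ⟨⟨v1, v2, v3, v4, v5⟩, v6, v7⟩ := v
    dsimp only at g1 g2 g3 g4 g5 h5 h6
    rw [g1, g2, g3, g4, g5, h5, h6]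
  have h1 := Nat.card_le_card_of_injective f hf
  have h2 : Nat.card ((Bool × Bool × Bool × Bool × Bool) × Bool × Bool) = 2 ^ 7 := by
    simp [Nat.card_prod, Nat.card_eq_fintype_card]
  rwa [h2] at h1

theorem syl_comm (R : Rules al be ga z i j k l x₁ x₂ y s) {x : G} (hx : x ∈ syl R) : x * z = z * x := by
  obtain ⟨t, -, -, rfl⟩ := hx
  exact ev_comm R t

theorem le_syl (h : Case9aa Q z i j k l x₁ x₂ y s) (R : Rules al be ga z i j k l x₁ x₂ y s) : Q ≤ syl R := by
  intro x hx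
  obtain ⟨w, rfl⟩ := exists_qt h R hx
  exact ⟨qt w, rfl, rfl, (ev_qt w).symm⟩


/-! ### The sheet -/

/-- `C_P(Q) = ⟨z⟩` -/
theorem self' (h : Case9aa Q z i j k l x₁ x₂ y s) (p : G) (hp : p * z = z * p) (hc : ∀ r ∈ Q, p * r = r * p) :
    p = 1 ∨ p = z := h.large.cent p (h.large.self p hp hc) hc

/-- the sheet -/
theorem sheet (h : Case9aa Q z i j k l x₁ x₂ y s) (R : Rules al be ga z i j k l x₁ x₂ y s) :
    Sheet G (syl R) Q z := by
  obtain ⟨d1, d2, d3, d4⟩ := x₁_facts h R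
  refine Sheet.of_QQ (Q₁ := Q1 R) (Q₂ := Q2 R) ?_ (isQQ h R) (self' h) d1 d2 d3 d4
  refine { z2 := R.zz, z1 := h.large.z_ne, zR := h.large.z_mem, RS := le_syl h R,
           zc := fun x hx => syl_comm R hx, uniq := ?_, Rn := h.large.conj_mem, char := ?_ }
  · intro x hx _ hx1 hxc
    rcases self' h x (syl_comm R hx) (fun r hr => (hxc r (le_syl h R hr)).symm) with h1 | h1
    · exact absurd h1 hx1
    · exact h1
  · intro α hα r hr
    have hN : Q.map α.toMonoidHom ≤ Q := by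
      refine U43Tw.le_of_act h.toPlus h.x₁_act h.x₂_act _ ?_ ?_ ?_
      · rintro _ ⟨q, hq, rfl⟩
        rw [mem_centralizer_singleton_iff]
        show α q * z = z * α q
        have h1 := congrArg α (h.large.comm_z q hq)
        rwa [map_mul, map_mul, hα] at h1
      · rintro c hc _ ⟨q, hq, rfl⟩
        rw [mem_centralizer_singleton_iff] at hc
        have hc' : α.symm c * z = z * α.symm c := by
          have h1 := congrArg α.symm hc
          have h2 : α.symm z = z := by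
            rw [MulEquiv.symm_apply_eq]; exact hα.symm
          rwa [map_mul, map_mul, h2] at h1
        refine ⟨_, h.large.conj_mem _ hc' q hq, ?_⟩
        show α (α.symm c * q * (α.symm c)⁻¹) = c * α q * c⁻¹
        rw [map_mul, map_mul, map_inv, MulEquiv.apply_symm_apply]
      · exact (LargeExtra.Base.isPGroup h.large).map _
    exact hN ⟨r, hr, rfl⟩

/-- a Sylow 2-subgroup if `|G| = 2 ^ 7 m` -/
theorem exists_sylow (h : Case9aa Q z i j k l x₁ x₂ y s) (R : Rules al be ga z i j k l x₁ x₂ y s) {m : ℕ}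
    (hm : Odd m) (hcard : Nat.card G = 2 ^ 7 * m) : ∃ S : Sylow 2 G, (S : Subgroup G) = syl R := by
  have : Fact (Nat.Prime 2) := ⟨Nat.prime_two⟩
  have hcop : Nat.Coprime 2 m := Nat.coprime_two_left.2 hm
  have h1 : Nat.card (syl R) ∣ 2 ^ 7 := by
    obtain ⟨n, hn⟩ := IsPGroup.iff_card.1 (syl_isPGroup R)
    have h2 : Nat.card (syl R) ∣ Nat.card G := Subgroup.card_subgroup_dvd_card _
    rw [hcard] at h2
    rw [hn] at h2 ⊢
    exact (Nat.Coprime.pow_left n hcop).dvd_of_dvd_mul_right h2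
  have h2 : Nat.card (syl R) = 2 ^ 7 :=
    le_antisymm (Nat.le_of_dvd (by norm_num) h1) (syl_card h R)
  have hm0 : m ≠ 0 := by rintro rfl; exact absurd hm (by decide)
  have h3 : Nat.card (syl R) = 2 ^ (Nat.card G).factorization 2 := by
    rw [h2, hcard]
    congr 1
    rw [Nat.factorization_mul (by norm_num) hm0, Nat.Prime.factorization_pow Nat.prime_two]
    have h4 : ¬ 2 ∣ m := by
      intro h5
      exact absurd hm (Nat.not_odd_iff_even.2 (even_iff_two_dvd.2 h5))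
    simp [Nat.factorization_eq_zero_of_not_dvd h4]
  exact ⟨Sylow.ofCard (syl R) h3, rfl⟩

/-! ### Irreducibility -/

/-- `C(z)` is irreducible on `Q / ⟨z⟩`. -/
theorem irr (h : Case9aa Q z i j k l x₁ x₂ y s) (R : Rules al be ga z i j k l x₁ x₂ y s) (N : Subgroup G)
    (hN : N ≤ Q) (hn : ∀ g, g * z = z * g → ∀ n ∈ N, g * n * g⁻¹ ∈ N) :
    (∀ n ∈ N, n = 1 ∨ n = z) ∨ N = Q := by
  by_cases hc : ∀ n ∈ N, n = 1 ∨ n = z
  · exact Or.inl hc
  right
  push Not at hc
  obtain ⟨n, hnN, hn1, hnz⟩ := hc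
  -- a noncentral element of `Q₁`
  have hs : s * z = z * s := R.zs
  have h1 : ∃ σ a b, (a || b) = true ∧ Qt.ev z i j k l ⟨σ, a, b, false, false⟩ ∈ N := by
    have key : ∀ w : Qt, w.ev z i j k l ∈ N → (w.a || w.b) = true →
        ∃ σ a b, (a || b) = true ∧ Qt.ev z i j k l ⟨σ, a, b, false, false⟩ ∈ N := by
      intro w hw hab
      have h2 : w.x1.ev z i j k l ∈ N := by
        have h3 := hn x₁ R.zx _ hw
        rwa [ax1 R, mul_inv_cancel_right] at h3
      have h3 : (w.x1.ev z i j k l) * (w.ev z i j k l) ∈ N := mul_mem h2 hw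
      rw [evQ_mul R] at h3
      obtain ⟨σ, a, b, c, d⟩ := w
      refine ⟨(Qt.mul (Qt.x1 ⟨σ, a, b, c, d⟩) ⟨σ, a, b, c, d⟩).s, xor b a, xor (xor a b) b, ?_, ?_⟩
      · have h4 : ∀ a b : Bool, (a || b) = true → (xor b a || xor (xor a b) b) = true := by decide
        exact h4 a b hab
      · have e : Qt.mul (Qt.x1 ⟨σ, a, b, c, d⟩) ⟨σ, a, b, c, d⟩ =
            ⟨(Qt.mul (Qt.x1 ⟨σ, a, b, c, d⟩) ⟨σ, a, b, c, d⟩).s, xor b a, xor (xor a b) b, false, false⟩ := by
          cases c <;> cases d <;> rfl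
        rw [e] at h3
        exact h3
    obtain ⟨w, rfl⟩ := exists_qt h R (hN hnN)
    by_cases hab : (w.a || w.b) = true
    · exact key w hnN hab
    · refine key w.sw ?_ ?_
      · have h3 := hn s hs _ hnN
        rwa [asw R, mul_inv_cancel_right] at h3
      · obtain ⟨σ, a, b, c, d⟩ := w
        by_contra hcd
        have h2 : ¬ (c || d) = true := hcd
        have h3 : ¬ (a || b) = true := hab
        rw [Bool.not_eq_true, Bool.or_eq_false_iff] at h2 h3
        obtain ⟨rfl, rfl⟩ := h2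
        obtain ⟨rfl, rfl⟩ := h3
        cases σ
        · exact hn1 (by simp [Qt.ev, pw])
        · exact hnz (by simp [Qt.ev, pw])
  have hzN : z ∈ N := by
    obtain ⟨σ, a, b, hab, hm⟩ := h1
    have h2 := mul_mem hm hm
    rw [evQ_mul R] at h2
    have e : Qt.mul ⟨σ, a, b, false, false⟩ ⟨σ, a, b, false, false⟩ = ⟨true, false, false, false, false⟩ := by
      cases a <;> cases b
      · exact absurd hab (by decide)
      all_goals cases σ <;> rfl
    rw [e] at h2
    simpa [Qt.ev, pw] using h2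
  have hi : i ∈ N := by
    obtain ⟨σ, a, b, hab, hm⟩ := h1
    have hx : ∀ g ∈ N, x₁ * g * x₁⁻¹ ∈ N := fun g hg => hn x₁ R.zx g hg
    have hm' : Qt.ev z i j k l ⟨false, a, b, false, false⟩ ∈ N := by
      cases σ
      · exact hm
      · have h2 := mul_mem hzN hm
        have e : z * Qt.ev z i j k l ⟨true, a, b, false, false⟩ = Qt.ev z i j k l ⟨false, a, b, false, false⟩ := by
          simp only [Qt.ev, pw, cond_true, cond_false]
          rw [← mul_assoc, R.zz]
        rwa [e] at h2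
    cases a <;> cases b
    · exact absurd hab (by decide)
    · -- `j`
      have h2 : j ∈ N := by simpa [Qt.ev, pw] using hm'
      have h3 := mul_mem (hx _ h2) (inv_mem h2)
      have e : x₁ * j * x₁⁻¹ * j⁻¹ = i := by
        have e1 : x₁ * j * x₁⁻¹ = i * j := h.x₁_act.j
        rw [e1, mul_inv_cancel_right]
      rwa [e] at h3
    · simpa [Qt.ev, pw] using hm'
    · -- `i j`
      have h2 : i * j ∈ N := by simpa [Qt.ev, pw] using hm'
      have h3 := mul_mem (hx _ h2) (inv_mem h2)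
      have e : x₁ * (i * j) * x₁⁻¹ * (i * j)⁻¹ = j := by
        have e1 : x₁ * i * x₁⁻¹ = j := h.x₁_act.i
        have e2 : x₁ * j * x₁⁻¹ = i * j := h.x₁_act.j
        calc x₁ * (i * j) * x₁⁻¹ * (i * j)⁻¹ = (x₁ * i * x₁⁻¹) * (x₁ * j * x₁⁻¹) * (i * j)⁻¹ := by group
          _ = j * (i * j) * (i * j)⁻¹ := by rw [e1, e2]
          _ = j := by rw [mul_inv_cancel_right]
      rw [e] at h3
      have h4 := mul_mem h2 (inv_mem h3)
      rwa [mul_inv_cancel_right] at h4
  have hj : j ∈ N := by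
    have h2 := hn x₁ R.zx _ hi
    have e1 : x₁ * i * x₁⁻¹ = j := h.x₁_act.i
    rwa [e1] at h2
  have hk : k ∈ N := by
    have h2 := hn s hs _ hi
    have e1 : s * i * s⁻¹ = k := h.s_act.i
    rwa [e1] at h2
  have hl : l ∈ N := by
    have h2 := hn s hs _ hj
    have e1 : s * j * s⁻¹ = l := h.s_act.j
    rwa [e1] at h2
  apply le_antisymm hN
  rw [h.gen, closure_le]
  rintro g (rfl | rfl | rfl | rfl)
  · exact hi
  · exact hj
  · exact hk
  · exact hl

end Cfsg.Agent.OddHalf.D4.Small.NineAA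

end

-- merged: Cfsg.Agent.OddHalf.D4.Small.LFourK
section

/-!
# ODD, D4, small Lie odd: the facts `SheetL` for `PSL(4, 3)`
-/

set_option autoImplicit false

namespace Cfsg.Agent.OddHalf.D4.Small.LFourK

open Matrix
open Cfsg.Agent.KFacts.LFourThree
open Cfsg.Agent.ClassicalGeometry.AutPSL
open Cfsg.Agent.LargeExtra.W2
open Cfsg.Agent.LargeExtra.W2.LFour (PslFacts.tr PslFacts.eq_top_of_adj)

/-- `diag(a J, J)` -/
def J4 (a : F3) : M4 := !![0, a, 0, 0; 2 * a, 0, 0, 0; 0, 0, 0, 1; 0, 0, 2, 0]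

def Mp : GL4 := ⟨J4 1, (2 : F3) • J4 1, by decide +kernel, by decide +kernel⟩
def Mm : GL4 := ⟨J4 2, (2 : F3) • J4 2, by decide +kernel, by decide +kernel⟩

theorem coe_Mp : (Mp : M4) = J4 1 := rfl
theorem coe_Mm : (Mm : M4) = J4 2 := rfl

/-! ### The Pfaffian -/

theorem form_apply (a : F3) (A : M4) (r t : Fin 4) : (A * J4 a * Aᵀ) r t =
    a * (A r 0 * A t 1 - A r 1 * A t 0) + (A r 2 * A t 3 - A r 3 * A t 2) := by
  have h2 : (2 : F3) = -1 := by decide
  rw [Matrix.mul_apply, Fin.sum_univ_four]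
  simp only [Matrix.mul_apply, Fin.sum_univ_four, transpose_apply]
  simp [J4, h2]
  ring

theorem det_four (A : M4) : A.det =
    (A 0 0 * A 1 1 - A 0 1 * A 1 0) * (A 2 2 * A 3 3 - A 2 3 * A 3 2)
    - (A 0 0 * A 2 1 - A 0 1 * A 2 0) * (A 1 2 * A 3 3 - A 1 3 * A 3 2)
    + (A 0 0 * A 3 1 - A 0 1 * A 3 0) * (A 1 2 * A 2 3 - A 1 3 * A 2 2)
    + (A 1 0 * A 2 1 - A 1 1 * A 2 0) * (A 0 2 * A 3 3 - A 0 3 * A 3 2)
    - (A 1 0 * A 3 1 - A 1 1 * A 3 0) * (A 0 2 * A 2 3 - A 0 3 * A 2 2)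
    + (A 2 0 * A 3 1 - A 2 1 * A 3 0) * (A 0 2 * A 1 3 - A 0 3 * A 1 2) := by
  rw [Matrix.det_succ_row_zero]
  simp [Fin.sum_univ_succ, Matrix.det_fin_three, Matrix.submatrix_apply, Fin.succAbove]
  ring

theorem pfaff (a : F3) (A N : M4) (hN : A * J4 a * Aᵀ = N) :
    N 0 1 * N 2 3 - N 0 2 * N 1 3 + N 0 3 * N 1 2 = a * A.det := by
  rw [← hN, det_four]
  simp only [form_apply]
  ring

theorem det_one {a : F3} (ha : a ≠ 0) {A : M4} {c : F3} (hc : c ≠ 0) (h : A * J4 a * Aᵀ = c • J4 a) :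
    A.det = 1 := by
  have h1 := pfaff a A _ h
  have h2 : (c • J4 a) 0 1 = c * a := rfl
  have h3 : (c • J4 a) 2 3 = c * 1 := rfl
  have h4 : (c • J4 a) 0 2 = c * 0 := rfl
  have h5 : (c • J4 a) 0 3 = c * 0 := rfl
  rw [h2, h3, h4, h5] at h1
  generalize A.det = d at h1 ⊢
  generalize (c • J4 a) 1 3 = e at h1
  generalize (c • J4 a) 1 2 = f at h1
  have key : ∀ a c d e f : F3, a ≠ 0 → c ≠ 0 → c * a * (c * 1) - c * 0 * e + c * 0 * f = a * d → d = 1 := by
    decide
  exact key a c d e f ha hc h1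

def lp : SL4 := ⟨!![1, 0, 1, 0; 0, 1, 0, 1; 0, 0, 1, 0; 0, 0, 0, 1], by decide +kernel⟩
def lm : SL4 := ⟨!![1, 0, 1, 0; 0, 1, 0, 2; 0, 0, 1, 0; 0, 0, 0, 1], by decide +kernel⟩
def rp : SL4 := ⟨!![1, 0, 0, 0; 0, 1, 0, 0; 2, 0, 1, 0; 0, 2, 0, 1], by decide +kernel⟩
def rm : SL4 := ⟨!![1, 0, 0, 0; 0, 1, 0, 0; 2, 0, 1, 0; 0, 1, 0, 1], by decide +kernel⟩
def np : SL4 := ⟨!![1, 0, 1, 0; 0, 1, 0, 1; 1, 0, 2, 0; 0, 1, 0, 2], by decide +kernel⟩
def nm : SL4 := ⟨!![1, 0, 1, 0; 0, 1, 0, 2; 1, 0, 2, 0; 0, 2, 0, 2], by decide +kernel⟩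

theorem nice_p : Nice Mp where
  tr := by rw [coe_Mp]; decide +kernel
  sq := by rw [coe_Mp]; decide +kernel
  pf := fun A c hc h => det_one (a := 1) (by decide) hc h
  inv := ⟨lp, rp, np, by rw [coe_Mp]; decide +kernel, by decide +kernel, Or.inr (by decide +kernel),
    by decide +kernel, by decide +kernel⟩

theorem nice_m : Nice Mm where
  tr := by rw [coe_Mm]; decide +kernel
  sq := by rw [coe_Mm]; decide +kernel
  pf := fun A c hc h => det_one (a := 2) (by decide) hc h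
  inv := ⟨lm, rm, nm, by rw [coe_Mm]; decide +kernel, by decide +kernel, Or.inr (by decide +kernel),
    by decide +kernel, by decide +kernel⟩

/-- the reflection `ρ` -/
def rho : MulAut L := rf Mp

theorem rho_z : rho * MulAut.conj z = rf Mm := by
  have h1 : MulAut.conj z = Auto.lift (Auto.cj (tg eZ)) := (lift_tg eZ).symm
  have h2 : Mp * tinv (tg eZ) = Mm := by
    apply Units.ext
    rw [Units.val_mul, coe_Mp, coe_Mm, coe_tinv]
    have h3 : (((tg eZ)⁻¹ : GL4) : M4) = eZ.1 := by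
      have h4 : (tg eZ)⁻¹ = tg eZ := by
        rw [inv_eq_iff_mul_eq_one]
        apply Units.ext
        rw [Units.val_mul, coe_tg, Units.val_one]
        decide +kernel
      rw [h4, coe_tg]
    rw [h3]
    decide +kernel
  rw [h1, rho, rf, rf, ← map_mul, mul_assoc, itr_cj, ← mul_assoc, ← map_mul, h2]

/-! ### `ρ` is trivial on `C(z)` -/

theorem rho_fix_gen {g : L} (h : g ∈ ({i, j, k, l, x₁, x₂, y, s} : Set L)) : rho g = g := by
  simp only [Set.mem_insert_iff, Set.mem_singleton_iff] at h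
  rcases h with rfl | rfl | rfl | rfl | rfl | rfl | rfl | rfl
  · exact rf_eq (by rw [coe_Mp]; decide +kernel)
  · exact rf_eq (by rw [coe_Mp]; decide +kernel)
  · exact rf_eq (by rw [coe_Mp]; decide +kernel)
  · exact rf_eq (by rw [coe_Mp]; decide +kernel)
  · exact rf_eq (by rw [coe_Mp]; decide +kernel)
  · exact rf_eq (by rw [coe_Mp]; decide +kernel)
  · exact rf_eq' (by rw [coe_Mp]; decide +kernel)
  · exact rf_eq (by rw [coe_Mp]; decide +kernel)

theorem rho_fix {x : L} (h : x * z = z * x) : rho x = x := by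
  have h1 : x ∈ Subgroup.closure ({i, j, k, l, x₁, x₂, y, s} : Set L) := by
    rw [← cent_eq]
    exact Subgroup.mem_centralizer_singleton_iff.2 h
  have h2 : Subgroup.closure ({i, j, k, l, x₁, x₂, y, s} : Set L) ≤
      (rho : L ≃* L).toMonoidHom.eqLocus (MonoidHom.id L) := by
    rw [Subgroup.closure_le]
    intro g hg
    exact rho_fix_gen hg
  exact h2 h1

/-! ### Generation -/

theorem top_of {H : Subgroup L} (hC : ∀ x, x * z = z * x → x ∈ H)
    (h03 : pr (PslFacts.tr 0 3 (by decide) 1) ∈ H) : H = ⊤ := by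
  have hm : ∀ A : SL4, (A * eZ = eZ * A ∨ A * eZ = m1 * (eZ * A)) → A ∈ H.comap pr := fun A hA =>
    hC _ (comm_pr.2 hA)
  have cj : ∀ W A B : SL4, W ∈ H.comap pr → A ∈ H.comap pr → W * A = B * W → B ∈ H.comap pr := by
    intro W A B hW hA h
    have h1 : B = W * A * W⁻¹ := by rw [h, mul_inv_cancel_right]
    rw [h1]
    exact mul_mem (mul_mem hW hA) (inv_mem hW)
  have h1 : H.comap pr = ⊤ := by
    refine PslFacts.eq_top_of_adj _ ?_ ?_ ?_ ?_ ?_ ?_
    · exact hm _ (by decide +kernel)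
    · exact hm _ (by decide +kernel)
    · refine cj ⟨!![0, 2, 0, 0; 1, 0, 0, 0; 0, 0, 0, 1; 0, 0, 2, 0], by decide +kernel⟩ _ _
        (hm _ (by decide +kernel)) h03 (by decide +kernel)
    · refine cj eS _ _ (hm _ (by decide +kernel)) h03 (by decide +kernel)
    · exact hm _ (by decide +kernel)
    · exact hm _ (by decide +kernel)
  rw [eq_top_iff]
  intro x _
  obtain ⟨A, rfl⟩ := pr_surj x
  have h2 : A ∈ H.comap pr := by rw [h1]; exact Subgroup.mem_top _
  exact h2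

def ap : SL4 := ⟨!![1, 1, 0, 1; 0, 1, 0, 0; 0, 1, 1, 1; 0, 0, 0, 1], by decide +kernel⟩
def am : SL4 := ⟨!![1, 2, 0, 1; 0, 1, 0, 0; 0, 2, 1, 1; 0, 0, 0, 1], by decide +kernel⟩
def uu : SL4 := ⟨!![1, 0, 1, 0; 0, 1, 0, 1; 0, 0, 1, 0; 0, 0, 0, 1], by decide +kernel⟩

theorem gen1 (H : Subgroup L) (h0 : ∀ x, x * z = z * x → x ∈ H) (h1 : ∀ x, rho x = x → x ∈ H)
    (h2 : ∀ x, rho (z * x * z⁻¹) = x → x ∈ H) : H = ⊤ := by
  have e23 : pr (PslFacts.tr 2 3 (by decide) 1) ∈ H := h0 _ (comm_pr.2 (by decide +kernel))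
  have hp : pr ap ∈ H := h1 _ (rf_eq (by rw [coe_Mp]; decide +kernel))
  have hm : pr am ∈ H := by
    apply h2
    have h3 : rho (z * pr am * z⁻¹) = (rho * MulAut.conj z) (pr am) := rfl
    rw [h3, rho_z]
    exact rf_eq (by rw [coe_Mm]; decide +kernel)
  apply top_of h0
  have h4 : (PslFacts.tr 0 3 (by decide) 1 : SL4) =
      (PslFacts.tr 2 3 (by decide) 1 * (ap * am)) * (PslFacts.tr 2 3 (by decide) 1 * (ap * am)) := by
    decide +kernel
  rw [h4, map_mul, map_mul, map_mul]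
  exact mul_mem (mul_mem e23 (mul_mem hp hm)) (mul_mem e23 (mul_mem hp hm))

theorem gen2 (H : Subgroup L) (h : ∀ r ∈ Q, r * r = 1 → r ≠ 1 → ∀ x, x * r = r * x → x ∈ H) : H = ⊤ := by
  have h0 : ∀ x, x * z = z * x → x ∈ H := h z Cfsg.Agent.KFacts.LFourThree.z_mem zz z_ne
  have hik : i * k ∈ Q := mul_mem (gen_mem (by simp)) (gen_mem (by simp))
  have hik2 : i * k * (i * k) = 1 := by
    simp only [i, k, ← map_mul]
    exact pr_eq_one_iff.2 (by decide +kernel)
  have hik1 : i * k ≠ 1 := by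
    simp only [i, k, ← map_mul]
    rw [Ne, pr_eq_one_iff]
    decide +kernel
  have hu : pr uu ∈ H := by
    refine h _ hik hik2 hik1 _ ?_
    simp only [i, k, ← map_mul]
    exact pm (by decide +kernel)
  have hc : pr (PslFacts.tr 0 1 (by decide) 1) ∈ H := h0 _ (comm_pr.2 (by decide +kernel))
  apply top_of h0
  have h4 : (PslFacts.tr 0 3 (by decide) 1 : SL4) * uu * PslFacts.tr 0 1 (by decide) 1 =
      PslFacts.tr 0 1 (by decide) 1 * uu := by
    decide +kernel
  have h5 : pr (PslFacts.tr 0 3 (by decide) 1) =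
      pr (PslFacts.tr 0 1 (by decide) 1) * pr uu * (pr (PslFacts.tr 0 1 (by decide) 1))⁻¹ * (pr uu)⁻¹ := by
    rw [← map_mul, ← h4, map_mul, map_mul]
    group
  rw [h5]
  exact mul_mem (mul_mem (mul_mem hc hu) (inv_mem hc)) (inv_mem hu)

/-! ### The automorphisms centralizing the Sylow subgroup -/

theorem comm_of_fix {A : GL4} {E : SL4} (h : Auto.lift (Auto.cj A) (pr E) = pr E) :
    (A : M4) * E.1 = E.1 * A ∨ (A : M4) * E.1 = (2 : F3) • (E.1 * (A : M4)) := by
  have h1 : pr (Auto.cj A E) = pr E := h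
  have h2 : (A : M4) * E.1 = (Auto.cj A E).1 * A := by
    have h3 : (Auto.cj A E).1 = (A : M4) * E.1 * ((A⁻¹ : GL4) : M4) := rfl
    rw [h3, mul_assoc, ← Units.val_mul, inv_mul_cancel, Units.val_one, mul_one]
  rcases pr_eq_iff.1 h1 with h3 | h3
  · left
    rw [h2, h3]
  · right
    rw [h2, h3, m1_val, Matrix.smul_mul]

theorem fix_cj {A : GL4} (hi : Auto.lift (Auto.cj A) i = i) (hj : Auto.lift (Auto.cj A) j = j)
    (hk : Auto.lift (Auto.cj A) k = k) (hl : Auto.lift (Auto.cj A) l = l) :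
    Auto.lift (Auto.cj A) = 1 ∨ Auto.lift (Auto.cj A) = MulAut.conj z := by
  have c1 := comm_of_fix hi
  have c2 := comm_of_fix hj
  have c3 := comm_of_fix hk
  have c4 := comm_of_fix hl
  rw [eI_val] at c1
  rw [eJ_val] at c2
  rw [eK_val] at c3
  rw [eL_val] at c4
  -- `A` commutes with `eZ`
  have hz : (A : M4) * Matrix.diagonal dZ = Matrix.diagonal dZ * (A : M4) := by
    have h1 : Matrix.diagonal dZ = bd I2.1 1 * bd I2.1 1 := by decide +kernel
    rw [h1]
    rcases c1 with c1 | c1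
    · rw [← mul_assoc, c1, mul_assoc, c1, mul_assoc]
    · have h2 : (2 : F3) * 2 = 1 := by decide
      rw [← mul_assoc, c1, Matrix.smul_mul, mul_assoc, c1, Matrix.mul_smul, smul_smul, h2, one_smul, mul_assoc]
  have h2 := bd_of_comm hz
  have hdet : (A : M4).det ≠ 0 := by
    intro h3
    have h4 : ((A : M4) * ((A⁻¹ : GL4) : M4)).det = 1 := by
      rw [← Units.val_mul, mul_inv_cancel, Units.val_one, Matrix.det_one]
    rw [Matrix.det_mul, h3, zero_mul] at h4
    exact zero_ne_one h4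
  generalize !![(A : M4) 0 0, (A : M4) 0 1; (A : M4) 1 0, (A : M4) 1 1] = P at h2
  generalize !![(A : M4) 2 2, (A : M4) 2 3; (A : M4) 3 2, (A : M4) 3 3] = R at h2
  rw [h2] at c1 c2 c3 c4
  rw [h2, bd_det] at hdet
  have hP : P ≠ 0 := by
    rintro rfl
    apply hdet
    rw [Matrix.det_zero, zero_mul]
  have hR : R ≠ 0 := by
    rintro rfl
    apply hdet
    rw [Matrix.det_zero, mul_zero]
  have a1 := bd_comm_cases hR c1
  have a2 := bd_comm_cases hR c2
  have a3 := bd_comm_cases' hP c3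
  have a4 := bd_comm_cases' hP c4
  have e1 : ∀ B : SL4, (A : M4) = B.1 → A = tg B := fun B hB => Units.ext hB
  rcases scal a1 a2 hP with b1 | b1 <;> rcases scal a3 a4 hR with b2 | b2 <;> rw [b1, b2] at h2
  · left
    rw [e1 1 (h2.trans (by decide +kernel)), lift_tg, map_one, map_one]
  · right
    rw [e1 (m1 * eZ) (h2.trans (by decide +kernel)), lift_tg, map_mul, pr_m1, one_mul]
    rfl
  · right
    rw [e1 eZ (h2.trans (by decide +kernel)), lift_tg]
    rfl
  · left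
    rw [e1 m1 (h2.trans (by decide +kernel)), lift_tg, pr_m1, map_one]

theorem q_comm {g : L} (h : g ∈ ({i, j, k, l} : Set L)) : rho g = g := by
  apply rho_fix_gen
  simp only [Set.mem_insert_iff, Set.mem_singleton_iff] at h ⊢
  tauto

theorem four {α : MulAut L} (hα : ∀ g ∈ ({i, j, k, l} : Set L), α g = g) :
    (∀ x, α x = x) ∨ (∀ x, α x = z * x * z⁻¹) ∨ (∀ x, α x = rho x) ∨ ∀ x, α x = rho (z * x * z⁻¹) := by
  rcases forms α with ⟨A, rfl⟩ | ⟨A, rfl⟩
  · rcases fix_cj (hα i (by simp)) (hα j (by simp)) (hα k (by simp)) (hα l (by simp)) with h | h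
    · left
      intro x
      rw [h, MulAut.one_apply]
    · right; left
      intro x
      rw [h, MulAut.conj_apply]
  · have h1 : Auto.lift (Auto.cj A * Auto.itr) * rho = Auto.lift (Auto.cj (A * Mp)) := by
      rw [rho, rf, ← map_mul, mul_assoc, ← mul_assoc Auto.itr, itr_cj, nice_p.tinv_eq, mul_assoc,
        Auto.itr_mul_itr, mul_one, map_mul Auto.cj]
    have h2 : ∀ g ∈ ({i, j, k, l} : Set L), Auto.lift (Auto.cj (A * Mp)) g = g := by
      intro g hg
      rw [← h1, MulAut.mul_apply, q_comm hg, hα g hg]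
    have h3 : ∀ x, Auto.lift (Auto.cj A * Auto.itr) x = Auto.lift (Auto.cj (A * Mp)) (rho x) := by
      intro x
      rw [← h1, MulAut.mul_apply, rho, nice_p.rf_rf]
    rcases fix_cj (h2 i (by simp)) (h2 j (by simp)) (h2 k (by simp)) (h2 l (by simp)) with h | h
    · right; right; left
      intro x
      rw [h3, h, MulAut.one_apply]
    · right; right; right
      intro x
      rw [h3, h, MulAut.conj_apply, map_mul, map_mul, map_inv, rho_fix (x := z) rfl]

/-- **The sheet of `PSL(4, 3)`.** -/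
theorem sheetL {al be ga : Bool} (R : LargeExtra.W2.CM.Rules al be ga z i j k l x₁ x₂ y s) :
    LFour.SheetL L (NineAA.syl R) Q z rho where
  toSheet := NineAA.sheet case9aa R
  refl := nice_p.isRefl
  refl' := by rw [rho_z]; exact nice_m.isRefl
  fixS := fun x hx => rho_fix (NineAA.syl_comm R hx)
  irr := fun N hN hn => NineAA.irr case9aa R N hN hn
  big := by rw [card_Q]; norm_num
  gen1 := gen1
  gen2 := gen2
  four := by
    intro α _ hα
    apply four
    intro g hg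
    exact hα g (NineAA.le_syl case9aa R (gen_mem hg))

theorem hasSheetL_L : LFour.HasSheetL L := by
  obtain ⟨al, be, ga, R⟩ := LargeExtra.W2.CM.rules_of_case case9aa
  obtain ⟨S, hS⟩ := NineAA.exists_sylow case9aa R (m := 47385) (by decide) (by rw [card_L]; norm_num)
  have h := sheetL R
  rw [← hS] at h
  exact LFour.HasSheetL.of_one h

/-- **`L₄(3)`.** -/
theorem hasSheetL {F : Type*} [Field F] [Fintype F] (hF : Fintype.card F = 3) {X : Type*} [Group X]
    (e : X ≃* Matrix.ProjectiveSpecialLinearGroup (Fin 4) F) : LFour.HasSheetL X := by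
  obtain ⟨e'⟩ := LFour.PslFacts.psl_congr F hF
  exact hasSheetL_L.of_equiv (e'.trans e.symm)

end Cfsg.Agent.OddHalf.D4.Small.LFourK

end
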